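import Groth.Agent.QFormLib.Azumaya
import Mathlib.GroupTheory.Index

/-! Isometries of regular even forms over local rings. -/

namespace Groth.Agent.QFormLib

open CliffordAlgebra

universe u v

variable {R : Type u} [CommRing R] {M : Type v} [AddCommGroup M] [Module R M] {n : ℕ}
  (b : Module.Basis (Fin n) R M) (Q : QuadraticForm R M) {m : ℕ} (hn : n = 2 * m) (hQ : QuadGrp.IsRegular Q)

include b hn hQ in
/-- Every isometry over a local ring is conjugation by a normalising unit. -/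
theorem exists_lift [IsLocalRing R] (g : M ≃ₗ[R] M) (hg : g ∈ QuadGrp.O Q) :
    ∃ u ∈ QuadGrp.GPin' Q, ∀ v, (u : CliffordAlgebra Q) * ι Q v * ↑u⁻¹ = ι Q (g v) := by
  let e : Q.IsometryEquiv Q := { g with map_app' := hg }
  obtain ⟨u, hu⟩ := exists_inner b Q hn hQ (CliffordAlgebra.equivOfIsometry e)
  have hv : ∀ v, (u : CliffordAlgebra Q) * ι Q v * ↑u⁻¹ = ι Q (g v) := fun v => by
    rw [← hu]
    exact CliffordAlgebra.map_apply_ι e.toIsometry v
  refine ⟨u, ?_, hv⟩
  rw [QuadGrp.mem_GPin']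
  refine SetLike.coe_injective ?_
  rw [Submodule.coe_pointwise_smul]
  ext x
  constructor
  · rintro ⟨_, ⟨v, rfl⟩, rfl⟩
    exact ⟨g v, by rw [← hv]; rfl⟩
  · rintro ⟨v, rfl⟩
    refine ⟨ι Q (g.symm v), LinearMap.mem_range_self _ _, ?_⟩
    show (u : CliffordAlgebra Q) * ι Q (g.symm v) * ↑u⁻¹ = ι Q v
    rw [hv, g.apply_symm_apply]

include b hn hQ in
/-- An isometry with trivial Dickson action lifts to the even Clifford group. -/
theorem exists_lift_even [IsLocalRing R] (hm : 0 < m) (g : M ≃ₗ[R] M) (hg : g ∈ QuadGrp.SOeven Q) :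
    ∃ u ∈ QuadGrp.GSpin Q, ∀ v, (u : CliffordAlgebra Q) * ι Q v * ↑u⁻¹ = ι Q (g v) := by
  obtain ⟨hgO, hgD⟩ := hg
  obtain ⟨u, hu, hv⟩ := exists_lift b Q hn hQ g hgO
  obtain ⟨g', hg', e, he, hv', hiff, h0, h1⟩ := isLocHomog_of_conj b Q hn hQ hm u hu
  have hgg : g' = g := LinearEquiv.ext fun v => ι_injective b Q (by rw [← hv', hv])
  subst hgg
  obtain rfl := hiff.mp hgD
  have heven : (u : CliffordAlgebra Q) ∈ evenOdd Q 0 := by simpa using h0
  exact ⟨u, ⟨⟨hu, 1, IsIdempotentElem.one, by rw [one_smul]; exact heven, by simp⟩, heven⟩, hv⟩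

include b hn hQ in
theorem dicksonTrivial_of_fix (hm : 0 < m) (g : M ≃ₗ[R] M) (hg : g ∈ QuadGrp.O Q)
    (hz : CliffordAlgebra.map (QuadGrp.isometryOfMem Q g hg) (zEl b Q hn) = zEl b Q hn) :
    QuadGrp.IsDicksonTrivial Q g hg := by
  intro z hzc
  obtain ⟨a, r, hzz⟩ := exists_of_comm_pairs b Q hn hQ hm (x := (z : CliffordAlgebra Q)) z.2 fun v w =>
    (congrArg Subtype.val (Subalgebra.mem_center_iff.mp hzc
      ⟨ι Q v * ι Q w, ι_mul_ι_mem_evenOdd_zero Q v w⟩)).symm
  rw [hzz, map_add, map_smul, hz, AlgHom.commutes]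

include b hn hQ in
/-- A regular form of positive even rank over a local ring takes a unit value. -/
theorem exists_unit_value [IsLocalRing R] (hm : 0 < m) : ∃ v, IsUnit (Q v) := by
  by_contra hc
  push Not at hc
  have hval : ∀ v, Q v ∈ IsLocalRing.maximalIdeal R := fun v => (IsLocalRing.mem_maximalIdeal _).mpr (hc v)
  have hdet : (polMat b Q).det ∈ IsLocalRing.maximalIdeal R := by
    rw [← IsLocalRing.residue_eq_zero_iff, RingHom.map_det]
    haveI : Nonempty (Fin n) := ⟨⟨0, by omega⟩⟩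
    refine Matrix.det_eq_zero_of_row_eq_zero (Classical.arbitrary _) fun j => ?_
    simp only [RingHom.mapMatrix_apply, Matrix.map_apply, polMat, Matrix.of_apply]
    rw [IsLocalRing.residue_eq_zero_iff]
    exact Submodule.sub_mem _ (Submodule.sub_mem _ (hval _) (hval _)) (hval _)
  exact (IsLocalRing.mem_maximalIdeal _).mp hdet (isUnit_det_polMat b Q hQ)

include b hn hQ in
/-- The reflection in a vector of unit value is not Dickson trivial. -/
theorem reflection_notMem_SOeven [Nontrivial R] (v : M) (q : Rˣ) (hq : (q : R) = Q v) (r : M ≃ₗ[R] M)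
    (hr : r ∈ QuadGrp.O Q) (hf : ∀ x, r x = x - ((↑q⁻¹ : R) * QuadraticMap.polar Q v x) • v) :
    r ∉ QuadGrp.SOeven Q := by
  let uv : (CliffordAlgebra Q)ˣ := ⟨ι Q v, (↑q⁻¹ : R) • ι Q v,
    by rw [mul_smul_comm, ι_sq_scalar, ← hq, Algebra.smul_def, ← map_mul, Units.inv_mul, map_one],
    by rw [smul_mul_assoc, ι_sq_scalar, ← hq, Algebra.smul_def, ← map_mul, Units.inv_mul, map_one]⟩
  have hmap : ∀ x ∈ evenOdd Q 0, CliffordAlgebra.map (QuadGrp.isometryOfMem Q r hr) x =
      (uv : CliffordAlgebra Q) * x * ↑uv⁻¹ := by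
    have h1 : ∀ w, CliffordAlgebra.map (QuadGrp.isometryOfMem Q r hr) (ι Q w) =
        -((uv : CliffordAlgebra Q) * ι Q w * ↑uv⁻¹) := fun w => by
      rw [CliffordAlgebra.map_apply_ι, QuadGrp.isometryOfMem_apply]
      show ι Q (r w) = -(ι Q v * ι Q w * ((↑q⁻¹ : R) • ι Q v))
      rw [hf, map_sub, map_smul, mul_smul_comm, ι_mul_ι_comm, sub_mul, mul_assoc, ι_sq_scalar, ← hq, ← Algebra.smul_def,
        ← Algebra.commutes, ← Algebra.smul_def, smul_sub, smul_smul, smul_smul, Units.inv_mul, one_smul]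
      abel
    intro x hx
    induction x, hx using CliffordAlgebra.even_induction with
    | algebraMap s => rw [AlgHom.commutes, ← Algebra.commutes, mul_assoc, Units.mul_inv, mul_one]
    | add x y _ _ hx hy => rw [map_add, hx, hy, mul_add, add_mul]
    | ι_mul_ι_mul w₁ w₂ x _ hx =>
      rw [map_mul, map_mul, h1, h1, hx, neg_mul_neg]
      simp only [mul_assoc, Units.inv_mul_cancel_left]
  rintro ⟨h, hD⟩
  have hzc : (⟨zEl b Q hn, zEl_mem b Q hn⟩ : ↥(CliffordAlgebra.even Q)) ∈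
      Subalgebra.center R ↥(CliffordAlgebra.even Q) :=
    Subalgebra.mem_center_iff.mpr fun y => Subtype.ext (zEl_comm_even b Q hn y.2).symm
  have hz := hD _ hzc
  rw [hmap _ (zEl_mem b Q hn)] at hz
  have h2 := congrArg (· * (uv : CliffordAlgebra Q)) hz
  simp only [Units.inv_mul_cancel_right] at h2
  have h3 : ι Q v * wEl b Q = 0 := by
    have h4 : ι Q v * zEl b Q hn = ι Q v * (algebraMap R _ (pEl b Q hn) - zEl b Q hn) := by
      rw [← zEl_comm b Q hn v]; exact h2
    rw [wEl_eq b Q hn, two_smul, mul_sub, mul_add]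
    nth_rw 2 [h4]
    rw [mul_sub]
    abel
  have h5 : (uv : CliffordAlgebra Q) = 0 := (isUnit_wEl b Q hn hQ).mul_left_eq_zero.mp h3
  haveI : Nontrivial (CliffordAlgebra Q) := (algebraMap_injective b Q).nontrivial
  exact uv.ne_zero h5

include b hn hQ in
/-- The Dickson-trivial isometries have index two over a local ring. -/
theorem index_SOeven [IsLocalRing R] (hm : 0 < m) :
    ((QuadGrp.SOeven Q).subgroupOf (QuadGrp.O Q)).index = 2 := by
  obtain ⟨v, hv⟩ := exists_unit_value b Q hn hQ hm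
  obtain ⟨q, hq⟩ := hv
  let f : M →ₗ[R] M := LinearMap.id - ((↑q⁻¹ : R) • QuadraticMap.polarBilin Q v).smulRight v
  have hf : ∀ x, f x = x - ((↑q⁻¹ : R) * QuadraticMap.polar Q v x) • v := fun x => by simp [f]
  have hff : ∀ x, f (f x) = x := fun x => by
    simp only [hf, QuadraticMap.polar_sub_right, QuadraticMap.polar_smul_right, QuadraticMap.polar_self, ← hq,
      sub_sub, smul_eq_mul, two_nsmul]
    rw [← add_smul]
    have : (↑q⁻¹ : R) * QuadraticMap.polar Q v x + (↑q⁻¹ : R) *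
        (QuadraticMap.polar Q v x - (↑q⁻¹ : R) * QuadraticMap.polar Q v x * ((q : R) + q)) = 0 := by
      linear_combination (-2 * (↑q⁻¹ : R) * QuadraticMap.polar Q v x) * q.inv_mul
    rw [this, zero_smul, sub_zero]
  let r : M ≃ₗ[R] M := LinearEquiv.ofLinear f f (LinearMap.ext hff) (LinearMap.ext hff)
  have hr : r ∈ QuadGrp.O Q := fun x => by
    show Q (f x) = Q x
    rw [hf, sub_eq_add_neg, ← neg_smul, QuadraticMap.map_add Q, QuadraticMap.map_smul, QuadraticMap.polar_smul_right,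
      QuadraticMap.polar_comm Q x v, ← hq, smul_eq_mul, smul_eq_mul]
    linear_combination ((↑q⁻¹ : R) * QuadraticMap.polar Q v x * QuadraticMap.polar Q v x) * q.inv_mul
  have hrD : r ∉ QuadGrp.SOeven Q := reflection_notMem_SOeven b Q hn hQ v q hq r hr hf
  rw [Subgroup.index_eq_two_iff_exists_notMem_and]
  refine ⟨⟨r, hr⟩, hrD, fun g => ?_⟩
  by_cases hgm : g.1 ∈ QuadGrp.SOeven Q
  · exact Or.inr hgm
  refine Or.inl (show g.1 * r ∈ QuadGrp.SOeven Q from ?_)
  have key : ∀ (h : M ≃ₗ[R] M) (hh : h ∈ QuadGrp.O Q), h ∉ QuadGrp.SOeven Q →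
      CliffordAlgebra.map (QuadGrp.isometryOfMem Q h hh) (zEl b Q hn) =
        algebraMap R _ (pEl b Q hn) - zEl b Q hn := fun h hh hne => by
    obtain ⟨e, he, hδ, hz⟩ := exists_dickson b Q hn hQ hm h hh
    have h01 : e = 0 ∨ e = 1 := (IsLocalRing.isUnit_or_isUnit_one_sub_self e).elim
      (fun hu => Or.inr (hu.mul_left_cancel (by rw [mul_one]; exact he.eq)))
      (fun hu => Or.inl (hu.mul_left_eq_zero.mp (by rw [mul_sub, mul_one, he.eq, sub_self])))
    rcases h01 with rfl | rfl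
    · exact absurd ⟨hh, (isDicksonTrivial_iff b Q hn hQ hm h hh hδ hz).mpr rfl⟩ hne
    · rw [hz, hδ]; simp [sub_eq_add_neg, show (1 : R) + -(1 + 1) = -1 by ring, ← one_add_one_eq_two]
  refine ⟨(QuadGrp.O Q).mul_mem g.2 hr, dicksonTrivial_of_fix b Q hn hQ hm _ _ ?_⟩
  have hcomp : CliffordAlgebra.map (QuadGrp.isometryOfMem Q (g.1 * r) ((QuadGrp.O Q).mul_mem g.2 hr)) =
      (CliffordAlgebra.map (QuadGrp.isometryOfMem Q g.1 g.2)).comp
        (CliffordAlgebra.map (QuadGrp.isometryOfMem Q r hr)) := by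
    refine CliffordAlgebra.hom_ext ?_
    ext w
    simp [QuadGrp.isometryOfMem]
  rw [hcomp, AlgHom.comp_apply, key r hr hrD, map_sub, AlgHom.commutes, key g.1 g.2 hgm, sub_sub_cancel]

end Groth.Agent.QFormLib
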