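import Groth.Agent.QFormLib.EvenRank
import Mathlib.RingTheory.Spectrum.Prime.Topology

/-! Normalising units induce isometries; idempotents over a connected base. -/

namespace Groth.Agent.QFormLib

open CliffordAlgebra

universe u v

variable {R : Type u} [CommRing R] {M : Type v} [AddCommGroup M] [Module R M] {n : ℕ}

theorem eq_zero_or_one_of_connected [ConnectedSpace (PrimeSpectrum R)] {e : R} (he : IsIdempotentElem e) :
    e = 0 ∨ e = 1 := by
  have hc : IsClopen (PrimeSpectrum.basicOpen e : Set (PrimeSpectrum R)) := by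
    refine ⟨?_, (PrimeSpectrum.basicOpen e).isOpen⟩
    rw [← isOpen_compl_iff]
    have : (PrimeSpectrum.basicOpen e : Set (PrimeSpectrum R))ᶜ = PrimeSpectrum.basicOpen (1 - e) := by
      ext p
      simp only [Set.mem_compl_iff, SetLike.mem_coe, PrimeSpectrum.mem_basicOpen, not_not]
      refine ⟨fun h1 h2 => p.isPrime.ne_top ((Ideal.eq_top_iff_one _).mpr ?_), fun h => ?_⟩
      · simpa using p.asIdeal.add_mem h1 h2
      · exact (p.isPrime.mem_or_mem (show e * (1 - e) ∈ p.asIdeal by rw [mul_sub, mul_one, he.eq, sub_self]; simp)).resolve_right h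
    rw [this]; exact (PrimeSpectrum.basicOpen (1 - e)).isOpen
  rcases isClopen_iff.mp hc with h | h
  · left
    have hb : PrimeSpectrum.basicOpen e = ⊥ := SetLike.coe_injective (by rw [h]; rfl)
    obtain ⟨k, hk⟩ := (PrimeSpectrum.basicOpen_eq_bot_iff e).mp hb
    cases k with
    | zero => rw [pow_zero] at hk; exact eq_zero_of_zero_eq_one hk.symm e
    | succ k => rwa [he.pow_succ_eq] at hk
  · right
    have hu : IsUnit e := by
      by_contra hne
      obtain ⟨P, hP, heP⟩ := exists_max_ideal_of_mem_nonunits hne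
      have hmem : (⟨P, hP.isPrime⟩ : PrimeSpectrum R) ∈ (PrimeSpectrum.basicOpen e : Set (PrimeSpectrum R)) := by
        rw [h]; trivial
      exact hmem heP
    exact hu.mul_left_cancel (by rw [mul_one]; exact he.eq)

variable (b : Module.Basis (Fin n) R M) (Q : QuadraticForm R M)

include b in
/-- A unit normalising `M` acts on `M` by an isometry. -/
theorem exists_conj (u : (CliffordAlgebra Q)ˣ) (hu : u ∈ QuadGrp.GPin' Q) :
    ∃ (g : M ≃ₗ[R] M) (hg : g ∈ QuadGrp.O Q),
      (∀ v, (u : CliffordAlgebra Q) * ι Q v * ↑u⁻¹ = ι Q (g v)) ∧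
      ∀ x : CliffordAlgebra Q, CliffordAlgebra.map (QuadGrp.isometryOfMem Q g hg) x =
        (u : CliffordAlgebra Q) * x * ↑u⁻¹ := by
  have hex : ∀ w : (CliffordAlgebra Q)ˣ, w ∈ QuadGrp.GPin' Q → ∀ v, ∃ v',
      (w : CliffordAlgebra Q) * ι Q v * ↑w⁻¹ = ι Q v' := fun w hw v => by
    have h := Submodule.smul_mem_pointwise_smul (ι Q v) (ConjAct.toConjAct w) _
      (LinearMap.mem_range_self (ι Q) v)
    rw [(QuadGrp.mem_GPin' Q w).mp hw, ConjAct.units_smul_def, ConjAct.ofConjAct_toConjAct] at h
    obtain ⟨v', hv'⟩ := h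
    exact ⟨v', hv'.symm⟩
  choose f hf using hex u hu
  choose f' hf' using hex u⁻¹ ((QuadGrp.GPin' Q).inv_mem hu)
  have hinj := ι_injective b Q
  have hff' : ∀ v, f (f' v) = v := fun v => hinj (by
    rw [← hf, ← hf', inv_inv]
    simp only [mul_assoc, Units.mul_inv, mul_one, Units.mul_inv_cancel_left])
  have hf'f : ∀ v, f' (f v) = v := fun v => hinj (by
    rw [← hf', ← hf, inv_inv]
    simp only [mul_assoc, Units.inv_mul, mul_one, Units.inv_mul_cancel_left])
  let g : M ≃ₗ[R] M :=
    { toFun := f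
      map_add' := fun x y => hinj (by rw [map_add, ← hf, ← hf, ← hf, map_add, mul_add, add_mul])
      map_smul' := fun r x => hinj (by
        rw [RingHom.id_apply, map_smul, ← hf, ← hf, map_smul, mul_smul_comm, smul_mul_assoc])
      invFun := f'
      left_inv := hf'f
      right_inv := hff' }
  have hg : g ∈ QuadGrp.O Q := fun v => algebraMap_injective b Q (by
    rw [← ι_sq_scalar, ← ι_sq_scalar]
    show ι Q (f v) * ι Q (f v) = _
    rw [← hf]
    simp only [mul_assoc, Units.inv_mul_cancel_left]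
    rw [← mul_assoc (ι Q v), ι_sq_scalar, Algebra.commutes, Units.mul_inv_cancel_left])
  refine ⟨g, hg, hf, fun x => ?_⟩
  induction x using CliffordAlgebra.induction with
  | algebraMap r =>
    rw [AlgHom.commutes, ← Algebra.commutes, mul_assoc, Units.mul_inv, mul_one]
  | ι v => rw [CliffordAlgebra.map_apply_ι, hf]; rfl
  | mul x y hx hy =>
    rw [map_mul, hx, hy]
    simp only [mul_assoc, Units.inv_mul_cancel_left]
  | add x y hx hy => rw [map_add, hx, hy, mul_add, add_mul]

end Groth.Agent.QFormLib
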