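import Groth.Agent.QFormLib.CliffMap
import Groth.Prelude.Def_QuadGrp
import Mathlib.LinearAlgebra.Transvection.Basic
import Mathlib.FieldTheory.IsAlgClosed.Basic
import Mathlib.LinearAlgebra.FiniteDimensional.Basic

/-! Eichler transformations and tori generate the special orthogonal group over an algebraically closed field. -/

namespace Groth.Agent.QFormLib

open QuadraticMap

universe u v

section Elementary

variable {R : Type u} [CommRing R] {M : Type v} [AddCommGroup M] [Module R M] (Q : QuadraticForm R M)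

/-- The Eichler map of `v` and `y`. -/
noncomputable def eichlerMap (v y : M) : M →ₗ[R] M :=
  LinearMap.id + (polarBilin Q v).smulRight y - (polarBilin Q y + Q y • polarBilin Q v).smulRight v

theorem eichlerMap_apply (v y z : M) :
    eichlerMap Q v y z = z + polar Q v z • y - (polar Q y z + Q y * polar Q v z) • v := by
  simp [eichlerMap]

theorem eichlerMap_zero (v z : M) : eichlerMap Q v 0 z = z := by
  simp [eichlerMap_apply]

theorem eichlerMap_comp {v y y' : M} (hv : Q v = 0) (hy : polar Q v y = 0) (hy' : polar Q v y' = 0) (z : M) :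
    eichlerMap Q v y (eichlerMap Q v y' z) = eichlerMap Q v (y + y') z := by
  have h0 : polar Q v v = 0 := by rw [polar_self, hv, smul_zero]
  simp only [eichlerMap_apply, sub_eq_add_neg, ← neg_smul, polar_add_right, polar_smul_right, h0, hy', smul_eq_mul,
    QuadraticMap.map_add Q, polar_add_left, show polar Q y v = 0 by rw [polar_comm, hy]]
  module

theorem polar_eichlerMap_left {v y : M} (hv : Q v = 0) (hy : polar Q v y = 0) (z : M) :
    Q (eichlerMap Q v y z) = Q z := by
  simp only [eichlerMap_apply, sub_eq_add_neg, ← neg_smul, QuadraticMap.map_add Q, polar_add_left, polar_smul_left,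
    polar_smul_right, QuadraticMap.map_smul, hv, show polar Q y v = 0 by rw [polar_comm, hy], polar_comm Q z y,
    polar_comm Q z v, smul_eq_mul]
  ring

/-- The Eichler transformation. -/
noncomputable def eichler {v y : M} (hv : Q v = 0) (hy : polar Q v y = 0) : M ≃ₗ[R] M :=
  LinearEquiv.ofLinear (eichlerMap Q v y) (eichlerMap Q v (-y))
    (LinearMap.ext fun z => by
      rw [LinearMap.comp_apply, eichlerMap_comp Q hv hy (by rw [polar_neg_right, hy, neg_zero]), add_neg_cancel,
        eichlerMap_zero, LinearMap.id_apply])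
    (LinearMap.ext fun z => by
      rw [LinearMap.comp_apply, eichlerMap_comp Q hv (by rw [polar_neg_right, hy, neg_zero]) hy, neg_add_cancel,
        eichlerMap_zero, LinearMap.id_apply])

theorem eichler_apply {v y : M} (hv : Q v = 0) (hy : polar Q v y = 0) (z : M) :
    eichler Q hv hy z = eichlerMap Q v y z := rfl

theorem eichler_mem_O {v y : M} (hv : Q v = 0) (hy : polar Q v y = 0) : eichler Q hv hy ∈ QuadGrp.O Q :=
  fun z => polar_eichlerMap_left Q hv hy z

/-- The torus map of a hyperbolic pair. -/
noncomputable def torusMap (v w : M) (l : Rˣ) : M →ₗ[R] M :=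
  LinearMap.id + (((l : R) - 1) • polarBilin Q w).smulRight v + (((↑l⁻¹ : R) - 1) • polarBilin Q v).smulRight w

theorem torusMap_apply (v w : M) (l : Rˣ) (z : M) :
    torusMap Q v w l z = z + (((l : R) - 1) * polar Q w z) • v + (((↑l⁻¹ : R) - 1) * polar Q v z) • w := by
  simp [torusMap]

theorem torusMap_one (v w z : M) : torusMap Q v w 1 z = z := by
  simp [torusMap_apply]

theorem torusMap_comp {v w : M} (hv : Q v = 0) (hw : Q w = 0) (hvw : polar Q v w = 1) (l l' : Rˣ) (z : M) :
    torusMap Q v w l (torusMap Q v w l' z) = torusMap Q v w (l * l') z := by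
  have h1 : polar Q v v = 0 := by rw [polar_self, hv, smul_zero]
  have h2 : polar Q w w = 0 := by rw [polar_self, hw, smul_zero]
  simp only [torusMap_apply, polar_add_right, polar_smul_right, h1, h2, hvw, polar_comm Q w v, smul_eq_mul, mul_inv,
    Units.val_mul]
  module

theorem torusMap_isometry {v w : M} (hv : Q v = 0) (hw : Q w = 0) (hvw : polar Q v w = 1) (l : Rˣ) (z : M) :
    Q (torusMap Q v w l z) = Q z := by
  simp only [torusMap_apply, QuadraticMap.map_add Q, polar_add_left, polar_smul_left, polar_smul_right,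
    QuadraticMap.map_smul, hv, hw, hvw, polar_comm Q z v, polar_comm Q z w, smul_eq_mul]
  linear_combination (polar Q v z * polar Q w z) * l.mul_inv

/-- The torus transformation. -/
noncomputable def torus {v w : M} (hv : Q v = 0) (hw : Q w = 0) (hvw : polar Q v w = 1) (l : Rˣ) : M ≃ₗ[R] M :=
  LinearEquiv.ofLinear (torusMap Q v w l) (torusMap Q v w l⁻¹)
    (LinearMap.ext fun z => by
      rw [LinearMap.comp_apply, torusMap_comp Q hv hw hvw, mul_inv_cancel, torusMap_one, LinearMap.id_apply])
    (LinearMap.ext fun z => by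
      rw [LinearMap.comp_apply, torusMap_comp Q hv hw hvw, inv_mul_cancel, torusMap_one, LinearMap.id_apply])

theorem torus_apply {v w : M} (hv : Q v = 0) (hw : Q w = 0) (hvw : polar Q v w = 1) (l : Rˣ) (z : M) :
    torus Q hv hw hvw l z = torusMap Q v w l z := rfl

theorem torus_mem_O {v w : M} (hv : Q v = 0) (hw : Q w = 0) (hvw : polar Q v w = 1) (l : Rˣ) :
    torus Q hv hw hvw l ∈ QuadGrp.O Q :=
  fun z => torusMap_isometry Q hv hw hvw l z

/-- The elementary transformations with parameters in `U`. -/
def IsElem (U : Submodule R M) (g : M ≃ₗ[R] M) : Prop :=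
  (∃ v y, v ∈ U ∧ y ∈ U ∧ Q v = 0 ∧ polar Q v y = 0 ∧ ∀ z, g z = eichlerMap Q v y z) ∨
    ∃ v w, ∃ l : Rˣ, v ∈ U ∧ w ∈ U ∧ Q v = 0 ∧ Q w = 0 ∧ polar Q v w = 1 ∧ ∀ z, g z = torusMap Q v w l z

/-- The group generated by the elementary transformations with parameters in `U`. -/
def elemGroup (U : Submodule R M) : Subgroup (M ≃ₗ[R] M) := Subgroup.closure {g | IsElem Q U g}

theorem eichler_mem_elemGroup {U : Submodule R M} {v y : M} (hvU : v ∈ U) (hyU : y ∈ U) (hv : Q v = 0)
    (hy : polar Q v y = 0) : eichler Q hv hy ∈ elemGroup Q U :=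
  Subgroup.subset_closure (Or.inl ⟨v, y, hvU, hyU, hv, hy, fun _ => rfl⟩)

theorem torus_mem_elemGroup {U : Submodule R M} {v w : M} (hvU : v ∈ U) (hwU : w ∈ U) (hv : Q v = 0) (hw : Q w = 0)
    (hvw : polar Q v w = 1) (l : Rˣ) : torus Q hv hw hvw l ∈ elemGroup Q U :=
  Subgroup.subset_closure (Or.inr ⟨v, w, l, hvU, hwU, hv, hw, hvw, fun _ => rfl⟩)

theorem IsElem.mono {U U' : Submodule R M} (hle : U ≤ U') {g : M ≃ₗ[R] M} (h : IsElem Q U g) : IsElem Q U' g := by
  rcases h with ⟨v, y, h1, h2, h3⟩ | ⟨v, w, l, h1, h2, h3⟩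
  · exact Or.inl ⟨v, y, hle h1, hle h2, h3⟩
  · exact Or.inr ⟨v, w, l, hle h1, hle h2, h3⟩

theorem elemGroup_mono {U U' : Submodule R M} (hle : U ≤ U') : elemGroup Q U ≤ elemGroup Q U' :=
  Subgroup.closure_mono fun _ h => h.mono Q hle

/-- The vectors orthogonal to `P`. -/
def perp (P : Submodule R M) : Submodule R M where
  carrier := {x | ∀ p ∈ P, polar Q p x = 0}
  add_mem' hx hy p hp := by rw [polar_add_right, hx p hp, hy p hp, add_zero]
  zero_mem' p _ := polar_zero_right Q p
  smul_mem' a x hx p hp := by rw [polar_smul_right, hx p hp, smul_zero]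

theorem mem_perp {P : Submodule R M} {x : M} : x ∈ perp Q P ↔ ∀ p ∈ P, polar Q p x = 0 := Iff.rfl

theorem elemGroup_fix {P : Submodule R M} {g : M ≃ₗ[R] M} (hg : g ∈ elemGroup Q (perp Q P)) {p : M} (hp : p ∈ P) :
    g p = p := by
  induction hg using Subgroup.closure_induction with
  | mem g hg =>
    rcases hg with ⟨v, y, hv, hy, -, -, h⟩ | ⟨v, w, l, hv, hw, -, -, -, h⟩
    · rw [h, eichlerMap_apply, polar_comm Q v p, hv p hp, polar_comm Q y p, hy p hp]; simp
    · rw [h, torusMap_apply, polar_comm Q v p, hv p hp, polar_comm Q w p, hw p hp]; simp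
  | one => rfl
  | mul g h _ _ hg hh => show g (h p) = p; rw [hh, hg]
  | inv g _ hg =>
    show g.symm p = p
    rw [LinearEquiv.symm_apply_eq, hg]

end Elementary

section Field

variable {K : Type u} [Field K] [IsAlgClosed K] {V : Type v} [AddCommGroup V] [Module K V] [Module.Finite K V]
  (Q : QuadraticForm K V)

theorem exists_ne_two_values (a : K) : ∃ s : K, s ≠ 0 ∧ s ≠ a := by
  classical
  obtain ⟨s, hs⟩ := Infinite.exists_notMem_finset ({0, a} : Finset K)
  simp only [Finset.mem_insert, Finset.mem_singleton, not_or] at hs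
  exact ⟨s, hs⟩

variable {U : Submodule K V} {v w v' w' : V}

omit [Module.Finite K V] in
/-- Hyperbolic pairs are moved to one another. -/
theorem exists_move_pair (hv : v ∈ U) (hw : w ∈ U) (hv' : v' ∈ U) (hw' : w' ∈ U) (hQv : Q v = 0) (hQw : Q w = 0)
    (hvw : polar Q v w = 1) (hQv' : Q v' = 0) (hQw' : Q w' = 0) (hvw' : polar Q v' w' = 1)
    (hy : ∃ y ∈ U, polar Q v y = 0 ∧ polar Q w y = 0 ∧ Q y ≠ 0) :
    ∃ h ∈ elemGroup Q U, h v = v' ∧ h w = w' := by
  have hne : v' ≠ 0 := fun h => by rw [h, polar_zero_left] at hvw'; exact zero_ne_one hvw'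
  -- a new partner not orthogonal to the target
  have hstep1 : ∃ h₁ ∈ elemGroup Q U, h₁ v = v ∧ h₁ w ∈ U ∧ Q (h₁ w) = 0 ∧ polar Q v (h₁ w) = 1 ∧
      polar Q (h₁ w) v' ≠ 0 := by
    by_cases hwv : polar Q w v' = 0
    · have hd : ∃ y ∈ U, polar Q v y = 0 ∧ polar Q y v' - (polar Q y w + Q y) * polar Q v v' ≠ 0 := by
        by_cases hd0 : polar Q v v' = 0
        · refine ⟨w' - polar Q w w' • v - polar Q v w' • w, U.sub_mem (U.sub_mem hw' (U.smul_mem _ hv)) (U.smul_mem _ hw),
            ?_, ?_⟩
          · rw [polar_sub_right, polar_sub_right, polar_smul_right, polar_smul_right, polar_self, hQv, hvw]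
            simp
          · rw [hd0, mul_zero, sub_zero, polar_sub_left, polar_sub_left, polar_smul_left, polar_smul_left, hd0, hwv,
              polar_comm Q w' v', hvw']
            simp
        · obtain ⟨y, hyU, hy1, hy2, hy3⟩ := hy
          obtain ⟨s, hs0, hs⟩ := exists_ne_two_values (polar Q y v' / (Q y * polar Q v v'))
          refine ⟨s • y, U.smul_mem s hyU, by rw [polar_smul_right, hy1, smul_zero], fun h => hs ?_⟩
          rw [polar_smul_left, polar_smul_left, polar_comm Q y w, hy2, QuadraticMap.map_smul, smul_eq_mul, smul_eq_mul,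
            smul_eq_mul, mul_zero, zero_add] at h
          rw [eq_div_iff (mul_ne_zero hy3 hd0)]
          exact mul_left_cancel₀ hs0 (by linear_combination -h)
      obtain ⟨y, hyU, hy1, hy2⟩ := hd
      refine ⟨eichler Q hQv hy1, eichler_mem_elemGroup Q hv hyU hQv hy1, ?_, ?_, ?_, ?_, ?_⟩
      · rw [eichler_apply, eichlerMap_apply, polar_self, hQv, polar_comm Q y v, hy1]; simp
      · rw [eichler_apply, eichlerMap_apply]
        exact U.sub_mem (U.add_mem hw (U.smul_mem _ hyU)) (U.smul_mem _ hv)
      · rw [eichler_mem_O Q hQv hy1, hQw]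
      · rw [eichler_apply, eichlerMap_apply, polar_sub_right, polar_add_right, polar_smul_right, polar_smul_right,
          polar_self, hQv, hvw, hy1]
        simp
      · rw [eichler_apply, eichlerMap_apply, polar_sub_left, polar_add_left, polar_smul_left, polar_smul_left, hvw,
          hwv]
        simpa using hy2
    · exact ⟨1, Subgroup.one_mem _, rfl, hw, hQw, hvw, hwv⟩
  obtain ⟨h₁, hh₁, h₁v, hw₂U, hQw₂, hvw₂, hne₂⟩ := hstep1
  obtain ⟨w₂, rfl⟩ : ∃ x, h₁ w = x := ⟨_, rfl⟩
  set w₂ := h₁ w with hw₂
  -- scale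
  let l : Kˣ := Units.mk0 _ hne₂
  have hlv : torus Q hQv hQw₂ hvw₂ l v = (l : K) • v := by
    rw [torus_apply, torusMap_apply, polar_self, hQv, polar_comm Q w₂ v, hvw₂]
    simp only [smul_zero, mul_zero, mul_one, zero_smul, add_zero]
    module
  have hlw : torus Q hQv hQw₂ hvw₂ l w₂ = (↑l⁻¹ : K) • w₂ := by
    rw [torus_apply, torusMap_apply, polar_self, hQw₂, hvw₂]
    simp only [smul_zero, mul_zero, mul_one, zero_smul, add_zero]
    module
  obtain ⟨v₁, hv₁⟩ : ∃ x, (l : K) • v = x := ⟨_, rfl⟩
  obtain ⟨w₁, hw₁⟩ : ∃ x, (↑l⁻¹ : K) • w₂ = x := ⟨_, rfl⟩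
  have hv₁U : v₁ ∈ U := hv₁ ▸ U.smul_mem _ hv
  have hw₁U : w₁ ∈ U := hw₁ ▸ U.smul_mem _ hw₂U
  have hQv₁ : Q v₁ = 0 := by rw [← hv₁, QuadraticMap.map_smul, hQv, smul_zero]
  have hQw₁ : Q w₁ = 0 := by rw [← hw₁, QuadraticMap.map_smul, hQw₂, smul_zero]
  have hvw₁ : polar Q v₁ w₁ = 1 := by
    rw [← hv₁, ← hw₁, polar_smul_left, polar_smul_right, hvw₂, smul_eq_mul, smul_eq_mul, mul_one, Units.mul_inv]
  have hwv₁ : polar Q w₁ v' = 1 := by
    rw [← hw₁, polar_smul_left, smul_eq_mul]
    exact l.inv_mul
  -- move the first vector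
  have hy' : polar Q w₁ (v' - v₁) = 0 := by rw [polar_sub_right, hwv₁, polar_comm Q w₁ v₁, hvw₁, sub_self]
  have h₂v : eichler Q hQw₁ hy' v₁ = v' := by
    rw [eichler_apply, eichlerMap_apply, polar_comm Q w₁ v₁, hvw₁, polar_sub_left, polar_self, hQv₁]
    have : Q (v' - v₁) = -polar Q v' v₁ := by
      rw [sub_eq_add_neg, QuadraticMap.map_add Q, QuadraticMap.map_neg, hQv', hQv₁, polar_neg_right]; simp
    rw [this]
    simp
  obtain ⟨w₃, hw₃⟩ : ∃ x, eichler Q hQw₁ hy' w₁ = x := ⟨_, rfl⟩
  have hw₃U : w₃ ∈ U := by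
    rw [← hw₃, eichler_apply, eichlerMap_apply]
    exact U.sub_mem (U.add_mem hw₁U (U.smul_mem _ (U.sub_mem hv' hv₁U))) (U.smul_mem _ hw₁U)
  have hQw₃ : Q w₃ = 0 := by rw [← hw₃, eichler_mem_O Q hQw₁ hy', hQw₁]
  have hvw₃ : polar Q v' w₃ = 1 := by
    have := eichler_mem_O Q hQw₁ hy'
    rw [← h₂v, ← hw₃]
    simp only [polar, ← map_add, this _]
    exact hvw₁
  -- move the second vector
  have hy'' : polar Q v' (w' - w₃) = 0 := by rw [polar_sub_right, hvw', hvw₃, sub_self]
  have h₃w : eichler Q hQv' hy'' w₃ = w' := by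
    rw [eichler_apply, eichlerMap_apply, hvw₃, polar_sub_left, polar_self, hQw₃]
    have : Q (w' - w₃) = -polar Q w' w₃ := by
      rw [sub_eq_add_neg, QuadraticMap.map_add Q, QuadraticMap.map_neg, hQw', hQw₃, polar_neg_right]; simp
    rw [this]
    simp
  have h₃v : eichler Q hQv' hy'' v' = v' := by
    rw [eichler_apply, eichlerMap_apply, polar_self, hQv', polar_comm Q (w' - w₃) v', hy'']; simp
  refine ⟨eichler Q hQv' hy'' * eichler Q hQw₁ hy' * torus Q hQv hQw₂ hvw₂ l * h₁,
    Subgroup.mul_mem _ (Subgroup.mul_mem _ (Subgroup.mul_mem _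
      (eichler_mem_elemGroup Q hv' (U.sub_mem hw' hw₃U) hQv' hy'')
      (eichler_mem_elemGroup Q hw₁U (U.sub_mem hv' hv₁U) hQw₁ hy'))
      (torus_mem_elemGroup Q hv hw₂U hQv hQw₂ hvw₂ l)) hh₁, ?_, ?_⟩
  · show eichler Q hQv' hy'' (eichler Q hQw₁ hy' (torus Q hQv hQw₂ hvw₂ l (h₁ v))) = v'
    rw [h₁v, hlv, hv₁, h₂v, h₃v]
  · show eichler Q hQv' hy'' (eichler Q hQw₁ hy' (torus Q hQv hQw₂ hvw₂ l w₂)) = w'
    rw [hlw, hw₁, hw₃, h₃w]

omit [Module.Finite K V] in
theorem exists_isotropic_comb {x y : V} (hy : Q y ≠ 0) : ∃ s : K, Q (x + s • y) = 0 := by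
  obtain ⟨s, hs⟩ := IsAlgClosed.exists_root (Polynomial.C (Q y) * Polynomial.X ^ 2 +
    Polynomial.C (polar Q x y) * Polynomial.X + Polynomial.C (Q x))
    (by rw [Polynomial.degree_quadratic hy]; decide)
  refine ⟨s, ?_⟩
  simp only [Polynomial.IsRoot, Polynomial.eval_add, Polynomial.eval_mul, Polynomial.eval_C, Polynomial.eval_pow,
    Polynomial.eval_X] at hs
  rw [QuadraticMap.map_add Q, QuadraticMap.map_smul, polar_smul_right, smul_eq_mul, smul_eq_mul]
  linear_combination hs

/-- A subgroup of isometries of determinant one without reflections of regular planes consists of elementary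
products. -/
theorem le_elemGroup (S : Subgroup (V ≃ₗ[K] V)) (hO : S ≤ QuadGrp.O Q)
    (helem : ∀ g, IsElem Q ⊤ g → g ∈ S) (hdet : ∀ g ∈ S, LinearMap.det g.toLinearMap = 1)
    (hrad : ∀ x, x ≠ 0 → (∀ y, polar Q x y = 0) → Q x ≠ 0)
    (hswap : ∀ u : V, Q u = -1 → ∀ h ∈ S, (∀ z, h z = z + polar Q u z • u) → ∃ z, z ≠ 0 ∧ ∀ x, polar Q x z = 0) :
    S ≤ elemGroup Q ⊤ := by
  suffices H : ∀ (N : ℕ) (P : Submodule K V), Module.finrank K (perp Q P) ≤ N →
      (∀ x, ∃ p ∈ P, x - p ∈ perp Q P) → ∀ g ∈ S, (∀ p ∈ P, g p = p) → g ∈ elemGroup Q ⊤ by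
    refine fun g hg => H _ ⊥ le_rfl (fun x => ⟨0, Submodule.zero_mem _, fun p hp => ?_⟩) g hg fun p hp => ?_
    · rw [(Submodule.mem_bot K).mp hp, polar_zero_left]
    · rw [(Submodule.mem_bot K).mp hp, map_zero]
  intro N
  induction N with
  | zero =>
    intro P hN hdec g hg hfix
    have h0 : perp Q P = ⊥ := Submodule.finrank_eq_zero.mp (Nat.le_zero.mp hN)
    have : g = 1 := LinearEquiv.ext fun x => by
      obtain ⟨p, hp, hx⟩ := hdec x
      rw [h0, Submodule.mem_bot, sub_eq_zero] at hx
      subst hx
      exact hfix x hp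
    rw [this]; exact Subgroup.one_mem _
  | succ N ih =>
    intro P hN hdec g hg hfix
    have hgO := hO hg
    have hgB : ∀ x y, polar Q (g x) (g y) = polar Q x y := fun x y => by simp only [polar, ← map_add, hgO _]
    have hgU : ∀ x ∈ perp Q P, g x ∈ perp Q P := fun x hx p hp => by
      rw [← hfix p hp, hgB, hx p hp]
    by_cases hiso : ∃ x ∈ perp Q P, x ≠ 0 ∧ Q x = 0
    · obtain ⟨v, hvU, hv0, hQv⟩ := hiso
      obtain ⟨y, hy⟩ : ∃ y, polar Q v y ≠ 0 := by
        by_contra hc; push Not at hc; exact hrad v hv0 hc hQv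
      obtain ⟨p, hp, hu⟩ := hdec ((polar Q v y)⁻¹ • y)
      obtain ⟨u, rfl⟩ : ∃ u, p = (polar Q v y)⁻¹ • y - u := ⟨_, (sub_sub_cancel _ p).symm⟩
      rw [sub_sub_cancel] at hu
      have hvu : polar Q v u = 1 := by
        have := hvU _ hp
        rw [polar_comm, polar_sub_right, polar_smul_right, smul_eq_mul, inv_mul_cancel₀ hy, sub_eq_zero] at this
        exact this.symm
      obtain ⟨w, hw⟩ : ∃ w, u - Q u • v = w := ⟨_, rfl⟩
      have hwU : w ∈ perp Q P := hw ▸ Submodule.sub_mem _ hu (Submodule.smul_mem _ _ hvU)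
      have hQw : Q w = 0 := by
        rw [← hw, sub_eq_add_neg, ← neg_smul, QuadraticMap.map_add Q, QuadraticMap.map_smul, hQv, smul_zero, add_zero,
          polar_smul_right, polar_comm Q u v, hvu, smul_eq_mul, mul_one, add_neg_cancel]
      have hvw : polar Q v w = 1 := by
        rw [← hw, polar_sub_right, polar_smul_right, polar_self, hQv, smul_zero, smul_zero, sub_zero, hvu]
      have hvv : polar Q v v = 0 := by rw [polar_self, hQv, smul_zero]
      have hww : polar Q w w = 0 := by rw [polar_self, hQw, smul_zero]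
      let P' := P ⊔ Submodule.span K {v, w}
      have hU' : ∀ x, x ∈ perp Q P' ↔ x ∈ perp Q P ∧ polar Q v x = 0 ∧ polar Q w x = 0 := fun x => by
        refine ⟨fun h => ⟨fun p hp => h p (Submodule.mem_sup_left hp), h v (Submodule.mem_sup_right
          (Submodule.subset_span (Set.mem_insert _ _))), h w (Submodule.mem_sup_right (Submodule.subset_span
          (Set.mem_insert_of_mem _ rfl)))⟩, fun ⟨h1, h2, h3⟩ q hq => ?_⟩
        obtain ⟨q1, hq1, q2, hq2, rfl⟩ := Submodule.mem_sup.mp hq
        obtain ⟨a, b, rfl⟩ := Submodule.mem_span_pair.mp hq2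
        rw [polar_add_left, polar_add_left, polar_smul_left, polar_smul_left, h1 q1 hq1, h2, h3]
        simp
      have hdec' : ∀ x, ∃ q ∈ P', x - q ∈ perp Q P' := fun x => by
        obtain ⟨q, hq, hxq⟩ := hdec x
        refine ⟨q + (polar Q w (x - q) • v + polar Q v (x - q) • w),
          Submodule.add_mem _ (Submodule.mem_sup_left hq) (Submodule.mem_sup_right (Submodule.add_mem _
            (Submodule.smul_mem _ _ (Submodule.subset_span (Set.mem_insert _ _)))
            (Submodule.smul_mem _ _ (Submodule.subset_span (Set.mem_insert_of_mem _ rfl))))), (hU' _).mpr ?_⟩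
        rw [← sub_sub]
        refine ⟨Submodule.sub_mem _ hxq (Submodule.add_mem _ (Submodule.smul_mem _ _ hvU) (Submodule.smul_mem _ _ hwU)),
          ?_, ?_⟩
        · rw [polar_sub_right Q v (x - q), polar_add_right, polar_smul_right, polar_smul_right, hvv, hvw]; simp
        · rw [polar_sub_right Q w (x - q), polar_add_right, polar_smul_right, polar_smul_right, hww, polar_comm Q w v,
            hvw]
          simp
      have hlt : Module.finrank K (perp Q P') < Module.finrank K (perp Q P) := by
        refine Submodule.finrank_lt_finrank_of_lt (lt_of_le_of_ne (fun x hx => ((hU' x).mp hx).1) fun he => ?_)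
        have := ((hU' v).mp (he ▸ hvU)).2.2
        rw [polar_comm, hvw] at this
        exact one_ne_zero this
      have hrec : ∀ g' ∈ S, (∀ p ∈ P, g' p = p) → g' v = v → g' w = w → g' ∈ elemGroup Q ⊤ := by
        refine fun g' hg' h1 h2 h3 => ih P' (by omega) hdec' g' hg' fun q hq => ?_
        obtain ⟨q1, hq1, q2, hq2, rfl⟩ := Submodule.mem_sup.mp hq
        obtain ⟨a, b, rfl⟩ := Submodule.mem_span_pair.mp hq2
        rw [map_add, map_add, map_smul, map_smul, h1 q1 hq1, h2, h3]
      by_cases hU'0 : ∃ y ∈ perp Q P', y ≠ 0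
      · obtain ⟨y0, hy0U, hy0⟩ := hU'0
        have hy : ∃ y ∈ perp Q P, polar Q v y = 0 ∧ polar Q w y = 0 ∧ Q y ≠ 0 := by
          suffices ∃ y ∈ perp Q P', Q y ≠ 0 by
            obtain ⟨y, hy, hy'⟩ := this
            obtain ⟨h1, h2, h3⟩ := (hU' y).mp hy
            exact ⟨y, h1, h2, h3, hy'⟩
          by_contra hc
          push Not at hc
          refine hrad y0 hy0 (fun z => ?_) (hc y0 hy0U)
          obtain ⟨q, hq, hzq⟩ := hdec' z
          have h1 : polar Q y0 (z - q) = 0 := by
            simp only [polar, hc _ hy0U, hc _ hzq, hc _ (Submodule.add_mem _ hy0U hzq), sub_zero]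
          rwa [polar_sub_right, polar_comm Q y0 q, hy0U q hq, sub_zero] at h1
        have hy' := hy
        obtain ⟨y, hyU, hy1, hy2, hy3⟩ := hy
        obtain ⟨h, hh, hhv, hhw⟩ := exists_move_pair Q hvU hwU (hgU v hvU) (hgU w hwU) hQv hQw hvw
          (by rw [hgO, hQv]) (by rw [hgO, hQw]) (by rw [hgB, hvw]) hy'
        have hh' : h ∈ elemGroup Q ⊤ := elemGroup_mono Q le_top hh
        have hhS : h ∈ S := (Subgroup.closure_le S).mpr (fun k hk => helem k hk) hh'
        have key := hrec (h⁻¹ * g) (S.mul_mem (S.inv_mem hhS) hg)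
          (fun p hp => by
            show h.symm (g p) = p
            rw [hfix p hp, LinearEquiv.symm_apply_eq, elemGroup_fix Q hh hp])
          (by show h.symm (g v) = v; rw [LinearEquiv.symm_apply_eq, hhv])
          (by show h.symm (g w) = w; rw [LinearEquiv.symm_apply_eq, hhw])
        rw [show g = h * (h⁻¹ * g) by rw [mul_inv_cancel_left]]
        exact Subgroup.mul_mem _ hh' key
      · push Not at hU'0
        have hspan : ∀ x ∈ perp Q P, x = polar Q w x • v + polar Q v x • w := fun x hx => by
          refine sub_eq_zero.mp (hU'0 _ ((hU' _).mpr ⟨Submodule.sub_mem _ hx (Submodule.add_mem _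
            (Submodule.smul_mem _ _ hvU) (Submodule.smul_mem _ _ hwU)), ?_, ?_⟩))
          · rw [polar_sub_right, polar_add_right, polar_smul_right, polar_smul_right, hvv, hvw]; simp
          · rw [polar_sub_right, polar_add_right, polar_smul_right, polar_smul_right, hww, polar_comm Q w v, hvw]
            simp
        have hgv := hspan _ (hgU v hvU)
        have hgw := hspan _ (hgU w hwU)
        obtain ⟨a, ha⟩ : ∃ a, polar Q w (g v) = a := ⟨_, rfl⟩
        obtain ⟨b, hb⟩ : ∃ b, polar Q v (g v) = b := ⟨_, rfl⟩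
        obtain ⟨a', ha'⟩ : ∃ a, polar Q w (g w) = a := ⟨_, rfl⟩
        obtain ⟨b', hb'⟩ : ∃ b, polar Q v (g w) = b := ⟨_, rfl⟩
        rw [ha, hb] at hgv
        rw [ha', hb'] at hgw
        have e1 : a * b = 0 := by
          have := hgO v
          rw [hQv, hgv, QuadraticMap.map_add Q, QuadraticMap.map_smul, QuadraticMap.map_smul, hQv, hQw,
            polar_smul_left, polar_smul_right, hvw] at this
          simpa using this
        have e2 : a' * b' = 0 := by
          have := hgO w
          rw [hQw, hgw, QuadraticMap.map_add Q, QuadraticMap.map_smul, QuadraticMap.map_smul, hQv, hQw,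
            polar_smul_left, polar_smul_right, hvw] at this
          simpa using this
        have e3 : a * b' + b * a' = 1 := by
          have := hgB v w
          rw [hvw, hgv, hgw] at this
          simp only [polar_add_left, polar_add_right, polar_smul_left, polar_smul_right, hvv, hww, hvw,
            polar_comm Q w v, smul_eq_mul] at this
          linear_combination this
        rcases mul_eq_zero.mp e1 with ha0 | hb0
        · -- the swap
          exfalso
          subst ha0
          have hba : b * a' = 1 := by linear_combination e3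
          have hb'0 : b' = 0 := (mul_eq_zero.mp e2).resolve_left (right_ne_zero_of_mul_eq_one hba)
          subst hb'0
          let l : Kˣ := Units.mk0 b (left_ne_zero_of_mul_eq_one hba)
          have hl : (↑l⁻¹ : K) * b = 1 := l.inv_mul
          have hhS : torus Q hQv hQw hvw l * g ∈ S :=
            S.mul_mem (helem _ (Or.inr ⟨v, w, l, Submodule.mem_top, Submodule.mem_top, hQv, hQw, hvw, fun _ => rfl⟩)) hg
          have hu1 : Q (v - w) = -1 := by
            rw [sub_eq_add_neg, QuadraticMap.map_add Q, QuadraticMap.map_neg, hQv, hQw, polar_neg_right, hvw]; simp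
          obtain ⟨z, hz0, hz⟩ := hswap (v - w) hu1 _ hhS fun x => by
            show torus Q hQv hQw hvw l (g x) = _
            obtain ⟨q, hq, hxq⟩ := hdec x
            obtain ⟨u', rfl⟩ : ∃ u', x = q + u' := ⟨x - q, (add_sub_cancel _ _).symm⟩
            rw [add_sub_cancel_left] at hxq
            rw [hspan u' hxq]
            simp only [map_add, map_smul, hfix q hq, hgv, hgw, zero_smul, zero_add, add_zero, torus_apply,
              torusMap_apply]
            simp only [polar_add_right, polar_smul_right, polar_sub_left, hvv, hww, hvw, polar_comm Q w v,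
              polar_comm Q v q, polar_comm Q w q, hvU q hq, hwU q hq, smul_eq_mul, mul_zero, zero_add, add_zero]
            have ha'l : a' = (↑l⁻¹ : K) := by linear_combination (↑l⁻¹ : K) * hba - a' * hl
            obtain ⟨li, hli⟩ : ∃ li, (↑l⁻¹ : K) = li := ⟨_, rfl⟩
            rw [ha'l, hli, show (l : K) = b from rfl]
            rw [hli] at hl
            match_scalars
            all_goals first
              | ring1
              | linear_combination polar Q v u' * hl
              | linear_combination polar Q w u' * hl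
          have hzU : z ∈ perp Q P := fun q _ => hz q
          have := hspan z hzU
          rw [hz, hz, zero_smul, zero_smul, add_zero] at this
          exact hz0 this
        · -- a torus element
          subst hb0
          have hab : a * b' = 1 := by linear_combination e3
          have ha'0 : a' = 0 := (mul_eq_zero.mp e2).resolve_right (right_ne_zero_of_mul_eq_one hab)
          subst ha'0
          let l : Kˣ := Units.mk0 a (left_ne_zero_of_mul_eq_one hab)
          have hl : (↑l⁻¹ : K) * a = 1 := l.inv_mul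
          have hb'l : b' = (↑l⁻¹ : K) := by linear_combination (↑l⁻¹ : K) * hab - b' * hl
          have : g = torus Q hQv hQw hvw l := LinearEquiv.ext fun x => by
            obtain ⟨q, hq, hxq⟩ := hdec x
            obtain ⟨u', rfl⟩ : ∃ u', x = q + u' := ⟨x - q, (add_sub_cancel _ _).symm⟩
            rw [add_sub_cancel_left] at hxq
            rw [hspan u' hxq]
            simp only [map_add, map_smul, hfix q hq, hgv, hgw, zero_smul, zero_add, add_zero, torus_apply,
              torusMap_apply]
            simp only [polar_add_right, polar_smul_right, hvv, hww, hvw, polar_comm Q w v, polar_comm Q v q,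
              polar_comm Q w q, hvU q hq, hwU q hq, smul_eq_mul, mul_zero, zero_add, add_zero]
            rw [hb'l, show (l : K) = a from rfl]
            module
          rw [this]
          exact torus_mem_elemGroup Q Submodule.mem_top Submodule.mem_top hQv hQw hvw l
    · push Not at hiso
      have hdep : ∀ c ∈ perp Q P, c ≠ 0 → ∀ x ∈ perp Q P, ∃ s : K, x = s • c := fun c hc hc0 x hx => by
        obtain ⟨s, hs⟩ := exists_isotropic_comb Q (x := x) (hiso c hc hc0)
        refine ⟨-s, ?_⟩
        by_contra hne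
        exact hiso (x + s • c) (Submodule.add_mem _ hx (Submodule.smul_mem _ _ hc))
          (fun h => hne (by rw [neg_smul, ← eq_neg_of_add_eq_zero_left h])) hs
      by_cases hex : ∃ c ∈ perp Q P, c ≠ 0
      · obtain ⟨c, hc, hc0⟩ := hex
        have hqc : Q c ≠ 0 := hiso c hc hc0
        obtain ⟨a, ha⟩ := hdep c hc hc0 _ (hgU c hc)
        have ha2 : a * a = 1 := by
          have := hgO c
          rw [ha, QuadraticMap.map_smul, smul_eq_mul] at this
          exact mul_right_cancel₀ hqc (this.trans (one_mul _).symm)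
        by_cases ha1 : a = 1
        · have : g = 1 := LinearEquiv.ext fun x => by
            obtain ⟨q, hq, hxq⟩ := hdec x
            obtain ⟨u', rfl⟩ : ∃ u', x = q + u' := ⟨x - q, (add_sub_cancel _ _).symm⟩
            rw [add_sub_cancel_left] at hxq
            obtain ⟨s, rfl⟩ := hdep c hc hc0 _ hxq
            rw [map_add, hfix q hq, map_smul, ha, ha1, one_smul]
            rfl
          rw [this]; exact Subgroup.one_mem _
        · exfalso
          have ha' : a = -1 := by
            have h : (a - 1) * (a + 1) = 0 := by linear_combination ha2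
            exact eq_neg_of_add_eq_zero_left ((mul_eq_zero.mp h).resolve_left (sub_ne_zero.mpr ha1))
          haveI : Module.Free K V := inferInstance
          have hgt : g.toLinearMap = LinearMap.transvection (-((Q c)⁻¹ • polarBilin Q c)) c := LinearMap.ext fun x => by
            obtain ⟨q, hq, hxq⟩ := hdec x
            obtain ⟨u', rfl⟩ : ∃ u', x = q + u' := ⟨x - q, (add_sub_cancel _ _).symm⟩
            rw [add_sub_cancel_left] at hxq
            obtain ⟨s, rfl⟩ := hdep c hc hc0 _ hxq
            rw [LinearEquiv.coe_coe, map_add, hfix q hq, map_smul, ha, ha', LinearMap.transvection.apply]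
            simp only [LinearMap.neg_apply, LinearMap.smul_apply, polarBilin_apply_apply, polar_add_right,
              polar_smul_right, polar_self, polar_comm Q c q, hc q hq, zero_add, smul_eq_mul, two_nsmul]
            rw [show (Q c)⁻¹ * (s * (Q c + Q c)) = s + s by field_simp]
            module
          have h1 := hdet g hg
          rw [hgt, LinearMap.transvection.det] at h1
          simp only [LinearMap.neg_apply, LinearMap.smul_apply, polarBilin_apply_apply, polar_self, smul_eq_mul,
            two_nsmul] at h1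
          rw [mul_add, inv_mul_cancel₀ hqc] at h1
          exact ha1 (by rw [ha']; linear_combination h1)
      · push Not at hex
        have : g = 1 := LinearEquiv.ext fun x => by
          obtain ⟨q, hq, hxq⟩ := hdec x
          have := hex _ hxq
          rw [sub_eq_zero] at this
          subst this
          exact hfix x hq
        rw [this]; exact Subgroup.one_mem _

end Field

end Groth.Agent.QFormLib
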