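import Groth.Agent.QFormLib.Volume
import Mathlib.LinearAlgebra.Dimension.Free
import Mathlib.LinearAlgebra.Dual.Basis

/-! Centres and the Dickson idempotent for regular forms of even rank. -/

namespace Groth.Agent.QFormLib

open CliffordAlgebra Matrix

universe u v

variable {R : Type u} [CommRing R] {M : Type v} [AddCommGroup M] [Module R M]

/-- A finite free module of given rank has a basis indexed by that rank. -/
theorem exists_basis [Module.Free R M] [Module.Finite R M] {k : ℕ} (h : Module.finrank R M = k) :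
    Nonempty (Module.Basis (Fin k) R M) := by
  cases subsingleton_or_nontrivial R
  · haveI : Subsingleton M := Module.subsingleton R M
    exact ⟨Module.Basis.ofEquivFun
      { toFun := fun _ => 0, invFun := fun _ => 0
        map_add' := fun _ _ => Subsingleton.elim _ _, map_smul' := fun _ _ => Subsingleton.elim _ _
        left_inv := fun _ => Subsingleton.elim _ _, right_inv := fun _ => Subsingleton.elim _ _ }⟩
  · exact ⟨Module.finBasisOfFinrankEq R M h⟩

variable {n : ℕ} (b : Module.Basis (Fin n) R M) (Q : QuadraticForm R M)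

theorem isUnit_det_polMat (hQ : QuadGrp.IsRegular Q) : IsUnit (polMat b Q).det := by
  have h := LinearEquiv.isUnit_det (LinearEquiv.ofBijective (QuadraticMap.polarBilin Q) hQ) b b.dualBasis
  have e : LinearMap.toMatrix b b.dualBasis
      (LinearEquiv.ofBijective (QuadraticMap.polarBilin Q) hQ : M →ₗ[R] Module.Dual R M) = (polMat b Q)ᵀ := by
    ext i j
    rw [LinearMap.toMatrix_apply, Module.Basis.dualBasis_repr, Matrix.transpose_apply, polMat, Matrix.of_apply]
    rfl
  rwa [e, Matrix.det_transpose] at h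

theorem isUnit_of_sq {x : CliffordAlgebra Q} {d : R} (hd : IsUnit d) (h : x * x = algebraMap R _ d) : IsUnit x := by
  obtain ⟨u, rfl⟩ := hd
  refine ⟨⟨x, (↑u⁻¹ : R) • x, ?_, ?_⟩, rfl⟩
  · rw [mul_smul_comm, h, Algebra.smul_def, ← map_mul, Units.inv_mul, map_one]
  · rw [smul_mul_assoc, h, Algebra.smul_def, ← map_mul, Units.inv_mul, map_one]

include b in
/-- An even element commuting with all vectors is a scalar as soon as the polar form is surjective. -/
theorem eq_algebraMap_of_even_comm (hs : Function.Surjective (QuadraticMap.polarBilin Q)) {x : CliffordAlgebra Q}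
    (hx : x ∈ evenOdd Q 0) (hc : ∀ v, x * ι Q v = ι Q v * x) : ∃ r, x = algebraMap R _ r := by
  refine ⟨_, eq_algebraMap_of_contractLeft b Q fun a => ?_⟩
  obtain ⟨v, hv⟩ := hs (b.coord a)
  rw [← hv, ← ι_mul_sub_involute_mul, involute_eq_of_mem_even hx, hc, sub_self]

theorem mul_mem_zero_of_odd {x y : CliffordAlgebra Q} (hx : x ∈ evenOdd Q 1) (hy : y ∈ evenOdd Q 1) :
    x * y ∈ evenOdd Q 0 := by
  have h := SetLike.mul_mem_graded hx hy
  rwa [show (1 : ZMod 2) + 1 = 0 from rfl] at h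

theorem odd_mem_anticomm {y : CliffordAlgebra Q} (hy : ∀ v, y * ι Q v = -(ι Q v * y)) {x : CliffordAlgebra Q}
    (hx : x ∈ evenOdd Q 1) : y * x = -(x * y) := by
  induction x, hx using CliffordAlgebra.odd_induction with
  | ι v => exact hy v
  | add a c _ _ ha hc => rw [mul_add, ha, hc, add_mul, neg_add]
  | ι_mul_ι_mul m₁ m₂ a _ ha =>
    rw [← mul_assoc, ← mul_assoc, hy m₁, neg_mul, mul_assoc (ι Q m₁) y, hy m₂, mul_neg, neg_neg, ← mul_assoc,
      mul_assoc (ι Q m₁ * ι Q m₂) y, ha, mul_neg, mul_assoc (ι Q m₁ * ι Q m₂) a y]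

variable {m : ℕ} (hn : n = 2 * m) (hQ : QuadGrp.IsRegular Q)

include hn hQ in
theorem isUnit_wEl : IsUnit (wEl b Q) :=
  isUnit_of_sq Q (((isUnit_neg_one (α := R)).pow m).mul (isUnit_det_polMat b Q hQ)) (wEl_sq_even b Q hn)

include b hn hQ in
/-- The centre of the Clifford algebra of a regular form of even rank is the scalars. -/
theorem center_eq_scalars {x : CliffordAlgebra Q} (hx : x ∈ Subalgebra.center R (CliffordAlgebra Q)) :
    ∃ r, x = algebraMap R _ r := by
  have hc : ∀ y, y * x = x * y := Subalgebra.mem_center_iff.mp hx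
  obtain ⟨x0, hx0, x1, hx1, rfl⟩ :=
    Submodule.mem_sup.mp (show x ∈ evenOdd Q 0 ⊔ evenOdd Q 1 by
      rw [(evenOdd_isCompl Q).codisjoint.eq_top]; exact Submodule.mem_top)
  have hparts : ∀ v, x0 * ι Q v = ι Q v * x0 ∧ x1 * ι Q v = ι Q v * x1 := fun v => by
    have hv : (x0 * ι Q v - ι Q v * x0) + (x1 * ι Q v - ι Q v * x1) = 0 := by
      rw [show (x0 * ι Q v - ι Q v * x0) + (x1 * ι Q v - ι Q v * x1) = (x0 + x1) * ι Q v - ι Q v * (x0 + x1) by
        noncomm_ring, hc, sub_self]
    have h1 : x0 * ι Q v - ι Q v * x0 ∈ evenOdd Q 1 := Submodule.sub_mem _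
      (zero_add (1 : ZMod 2) ▸ SetLike.mul_mem_graded hx0 (ι_mem_evenOdd_one Q v))
      (add_zero (1 : ZMod 2) ▸ SetLike.mul_mem_graded (ι_mem_evenOdd_one Q v) hx0)
    have h0 : x1 * ι Q v - ι Q v * x1 ∈ evenOdd Q 0 := Submodule.sub_mem _
      (mul_mem_zero_of_odd Q hx1 (ι_mem_evenOdd_one Q v))
      (mul_mem_zero_of_odd Q (ι_mem_evenOdd_one Q v) hx1)
    have hz := Submodule.disjoint_def.mp (evenOdd_isCompl Q).disjoint _ h0 (by
      rw [eq_neg_of_add_eq_zero_right hv]; exact Submodule.neg_mem _ h1)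
    rw [hz, add_zero] at hv
    exact ⟨sub_eq_zero.mp hv, sub_eq_zero.mp hz⟩
  obtain ⟨r, rfl⟩ := eq_algebraMap_of_even_comm b Q hQ.surjective hx0 fun v => (hparts v).1
  refine ⟨r, ?_⟩
  have hW := isUnit_wEl b Q hn hQ
  have hcomm : wEl b Q * x1 = x1 * wEl b Q := by
    have := hc (wEl b Q)
    rw [mul_add, add_mul, ← Algebra.commutes] at this
    exact add_left_cancel this
  have hanti := odd_mem_anticomm Q (wEl_comm_even b Q hn) hx1
  have h2 : (2 : R) • x1 = 0 := by
    refine hW.mul_left_eq_zero.mp ?_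
    rw [two_smul, add_mul]
    nth_rw 1 [← hcomm]
    rw [hanti, neg_add_cancel]
  have hd : ∀ a, contractLeft (b.coord a) x1 = 0 := fun a => by
    obtain ⟨v, hv⟩ := hQ.surjective (b.coord a)
    rw [← hv, ← ι_mul_sub_involute_mul, involute_eq_of_mem_odd hx1, neg_mul, sub_neg_eq_add, (hparts v).2, ← two_smul R,
      ← mul_smul_comm, h2, mul_zero]
  have he := eq_algebraMap_of_contractLeft b Q hd
  rw [he, κ_eq_zero_cterm b Q hx1, map_zero, add_zero]
where
  κ_eq_zero_cterm {n : ℕ} (b : Module.Basis (Fin n) R M) (Q : QuadraticForm R M) {x : CliffordAlgebra Q}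
      (hx : x ∈ evenOdd Q 1) : cterm b Q x = 0 := by
    rw [← κ_empty]
    exact κ_eq_zero_of_parity b Q hx (by simp)

theorem zEl_comm' (v : M) : (algebraMap R _ (pEl b Q hn) - zEl b Q hn) * ι Q v = ι Q v * zEl b Q hn := by
  rw [sub_mul, zEl_comm b Q hn v, Algebra.commutes, mul_sub]
  abel

/-- The generator commutes with the even part. -/
theorem zEl_comm_even {x : CliffordAlgebra Q} (hx : x ∈ evenOdd Q 0) : zEl b Q hn * x = x * zEl b Q hn := by
  induction x, hx using CliffordAlgebra.even_induction with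
  | algebraMap r => exact (Algebra.commutes r _).symm
  | add x y _ _ ha hc => rw [mul_add, add_mul, ha, hc]
  | ι_mul_ι_mul m₁ m₂ x _ ih =>
    rw [← mul_assoc, ← mul_assoc, zEl_comm b Q hn m₁, mul_assoc (ι Q m₁), zEl_comm' b Q hn m₂, ← mul_assoc,
      mul_assoc (ι Q m₁ * ι Q m₂), ih, mul_assoc (ι Q m₁ * ι Q m₂)]

include hn hQ in
theorem smul_wEl_eq_zero (hm : 0 < m) {r : R} (h : ∀ v, r • (ι Q v * wEl b Q) = 0) : r = 0 := by
  have h' : ∀ v : M, r • v = 0 := fun v => ι_injective b Q (show ι Q (r • v) = ι Q 0 by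
    rw [map_smul, map_zero]
    refine (isUnit_wEl b Q hn hQ).mul_left_eq_zero.mp ?_
    rw [smul_mul_assoc]; exact h v)
  have := congrArg (fun v => b.repr v ⟨0, by omega⟩) (h' (b ⟨0, by omega⟩))
  simpa using this

include hn hQ in
/-- `1` and the generator are linearly independent. -/
theorem zEl_indep (hm : 0 < m) {a r : R} (h : algebraMap R _ a + r • zEl b Q hn = 0) : a = 0 ∧ r = 0 := by
  have hr : r = 0 := by
    refine smul_wEl_eq_zero b Q hn hQ hm fun v => ?_
    have hc : (algebraMap R _ a + r • zEl b Q hn) * ι Q v - ι Q v * (algebraMap R _ a + r • zEl b Q hn) = 0 := by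
      rw [h]; simp
    rw [add_mul, mul_add, smul_mul_assoc, mul_smul_comm, zEl_comm b Q hn v, Algebra.commutes] at hc
    rw [wEl_eq b Q hn, ← neg_eq_zero, ← hc]
    simp only [mul_sub, mul_smul_comm]
    module
  refine ⟨?_, hr⟩
  rw [hr, zero_smul, add_zero, ← map_zero (algebraMap R (CliffordAlgebra Q))] at h
  exact algebraMap_injective b Q h

include hn hQ in
/-- The centre of the even part is generated by `zEl`. -/
theorem exists_of_comm_pairs (hm : 0 < m) {x : CliffordAlgebra Q} (hx : x ∈ evenOdd Q 0)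
    (hc : ∀ v w, x * (ι Q v * ι Q w) = ι Q v * ι Q w * x) :
    ∃ a r : R, x = algebraMap R _ a + r • zEl b Q hn := by
  obtain ⟨w, hw⟩ := hQ.surjective (b.coord ⟨0, by omega⟩)
  set v := b ⟨0, by omega⟩ with hv
  have hpair : ι Q w * ι Q v + ι Q v * ι Q w = 1 := by
    rw [ι_mul_ι_add_swap, ← QuadraticMap.polarBilin_apply_apply, hw, hv, Module.Basis.coord_apply,
      Module.Basis.repr_self, Finsupp.single_eq_same, map_one]
  set dx : M → CliffordAlgebra Q := fun u => ι Q u * x - x * ι Q u with hdx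
  have hrel : ∀ s t, ι Q s * dx t + dx s * ι Q t = 0 := fun s t => by
    rw [show ι Q s * dx t + dx s * ι Q t = ι Q s * ι Q t * x - x * (ι Q s * ι Q t) by simp only [hdx]; noncomm_ring,
      hc, sub_self]
  set y : CliffordAlgebra Q := -(ι Q w * dx v + ι Q v * dx w) with hy
  have hyu : ∀ u, dx u = y * ι Q u := fun u => by
    calc dx u = (ι Q w * ι Q v + ι Q v * ι Q w) * dx u := by rw [hpair, one_mul]
      _ = ι Q w * (ι Q v * dx u) + ι Q v * (ι Q w * dx u) := by rw [add_mul, mul_assoc, mul_assoc]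
      _ = y * ι Q u := by
        rw [eq_neg_of_add_eq_zero_left (hrel v u), eq_neg_of_add_eq_zero_left (hrel w u), hy]
        noncomm_ring
  have hdx1 : ∀ u, dx u ∈ evenOdd Q 1 := fun u => Submodule.sub_mem _
    (add_zero (1 : ZMod 2) ▸ SetLike.mul_mem_graded (ι_mem_evenOdd_one Q u) hx)
    (zero_add (1 : ZMod 2) ▸ SetLike.mul_mem_graded hx (ι_mem_evenOdd_one Q u))
  have hy0 : y ∈ evenOdd Q 0 := Submodule.neg_mem _ (Submodule.add_mem _
    (mul_mem_zero_of_odd Q (ι_mem_evenOdd_one Q w) (hdx1 v))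
    (mul_mem_zero_of_odd Q (ι_mem_evenOdd_one Q v) (hdx1 w)))
  have hanti : ∀ u, y * ι Q u = -(ι Q u * y) := fun u => by
    have e : ∀ t, (ι Q u * y + y * ι Q u) * ι Q t = 0 := fun t => by
      rw [add_mul, mul_assoc (ι Q u), ← hyu, ← hyu, hrel]
    rw [eq_neg_iff_add_eq_zero, add_comm, ← mul_one (ι Q u * y + y * ι Q u), ← hpair, mul_add, ← mul_assoc,
      ← mul_assoc, e, e, zero_mul, zero_mul, add_zero]
  have hW := wEl_comm_even b Q hn
  obtain ⟨s, hs⟩ := eq_algebraMap_of_even_comm b Q hQ.surjective (x := wEl b Q * y)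
    (by
      have hn0 : (n : ZMod 2) = 0 := by
        rw [hn, Nat.cast_mul, show ((2 : ℕ) : ZMod 2) = 0 from rfl, zero_mul]
      have := SetLike.mul_mem_graded (hn0 ▸ wEl_mem b Q) hy0
      rwa [add_zero] at this)
    (fun u => by rw [mul_assoc, hanti, mul_neg, ← mul_assoc, hW, neg_mul, neg_neg, mul_assoc])
  obtain ⟨d, hd⟩ := ((isUnit_neg_one (α := R)).pow m).mul (isUnit_det_polMat b Q hQ)
  set r : R := ↑d⁻¹ * s with hr
  have hyW : y = r • wEl b Q := by
    have := congrArg (fun t => wEl b Q * t) hs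
    simp only [← mul_assoc, wEl_sq_even b Q hn, ← hd, ← Algebra.commutes, ← Algebra.smul_def] at this
    rw [hr, mul_smul, ← this, smul_smul, Units.inv_mul, one_smul]
  obtain ⟨a, ha⟩ := eq_algebraMap_of_even_comm b Q hQ.surjective (x := x + r • zEl b Q hn)
    (Submodule.add_mem _ hx (Submodule.smul_mem _ _ (zEl_mem b Q hn))) fun u => by
    have h1 := hyu u
    simp only [hdx] at h1
    rw [hyW, smul_mul_assoc, hW, smul_neg, wEl_eq b Q hn, mul_sub, mul_smul_comm, ← Algebra.commutes] at h1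
    rw [add_mul, mul_add, smul_mul_assoc, mul_smul_comm, zEl_comm b Q hn u, mul_sub, ← Algebra.commutes,
      ← sub_eq_zero, ← neg_eq_zero]
    rw [← sub_eq_zero] at h1
    rw [← h1]
    simp only [two_smul, smul_sub, smul_add]
    abel
  exact ⟨a, -r, by rw [← ha, neg_smul, add_neg_cancel_right]⟩

include hn hQ in
/-- An isometry acts on the generator through an idempotent. -/
theorem exists_dickson (hm : 0 < m) (g : M ≃ₗ[R] M) (hg : g ∈ QuadGrp.O Q) :
    ∃ e : R, IsIdempotentElem e ∧ LinearMap.det (g : M →ₗ[R] M) = 1 - 2 * e ∧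
      CliffordAlgebra.map (QuadGrp.isometryOfMem Q g hg) (zEl b Q hn) =
        algebraMap R _ (e * pEl b Q hn) + LinearMap.det (g : M →ₗ[R] M) • zEl b Q hn := by
  set f := QuadGrp.isometryOfMem Q g hg
  obtain ⟨a, ha⟩ := map_zEl b Q f hn
  rw [show LinearMap.det f.toLinearMap = LinearMap.det (g : M →ₗ[R] M) from rfl] at ha
  obtain ⟨q, hq, hD⟩ := exists_zEl_sq b Q hn
  set p := pEl b Q hn
  set z := zEl b Q hn
  set δ := LinearMap.det (g : M →ₗ[R] M) with hδ
  have hsq := congrArg (CliffordAlgebra.map f) hq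
  rw [map_mul, map_add, map_smul, ha, AlgHom.commutes] at hsq
  have hind : algebraMap R _ (a * a + δ * δ * q - (p * a + q)) +
      (a * δ + a * δ + δ * δ * p - p * δ) • z = 0 := by
    rw [← sub_eq_zero] at hsq
    rw [← hsq, add_mul, mul_add, mul_add, ← Algebra.smul_def, ← Algebra.smul_def, smul_mul_smul_comm, hq,
      smul_mul_assoc δ z (algebraMap R _ a), ← Algebra.commutes, ← Algebra.smul_def]
    simp only [Algebra.algebraMap_eq_smul_one, smul_smul, smul_add]
    module
  obtain ⟨h0, h1⟩ := zEl_indep b Q hn hQ hm hind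
  have hunit : IsUnit δ := LinearEquiv.isUnit_det' g
  obtain ⟨d, hd⟩ := ((isUnit_neg_one (α := R)).pow m).mul (isUnit_det_polMat b Q hQ)
  have h2a : 2 * a = p * (1 - δ) := hunit.mul_left_cancel (by linear_combination h1)
  rw [hD] at hd
  set A : R := p * ↑d⁻¹ with hA
  set B : R := 2 * q * ↑d⁻¹ with hB
  have hAB : p * A + 2 * B = 1 := by
    have := d.mul_inv
    rw [hA, hB]
    linear_combination this - (↑d⁻¹ : R) * hd
  set e : R := a * A + (1 - δ) * B with he
  have hep : e * p = a := by rw [he]; linear_combination a * hAB - B * h2a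
  have he2 : 2 * e = 1 - δ := by rw [he]; linear_combination (1 - δ) * hAB + A * h2a
  have hδ2 : δ * δ = 1 := by
    have h4 : (p * p + 4 * q) * (δ * δ - 1) = 0 := by
      linear_combination 4 * h0 + (p * δ + p - 2 * a) * h2a
    rw [← hd] at h4
    exact sub_eq_zero.mp ((Units.mul_right_eq_zero d).mp h4)
  have hidem : e * e = e := by
    have k1 : p * p * (e * e - e) = 0 := by
      linear_combination (e * p + a - p) * hep + h0 - q * hδ2
    have k2 : 4 * (e * e - e) = 0 := by linear_combination (2 * e + (1 - δ) - 2) * he2 + hδ2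
    have k3 : (p * p + 4 * q) * (e * e - e) = 0 := by linear_combination k1 + q * k2
    rw [← hd] at k3
    exact sub_eq_zero.mp ((Units.mul_right_eq_zero d).mp k3)
  exact ⟨e, hidem, by linear_combination he2, by rw [hep]; exact ha⟩

include hn hQ in
/-- The Dickson condition is the vanishing of the idempotent. -/
theorem isDicksonTrivial_iff (hm : 0 < m) (g : M ≃ₗ[R] M) (hg : g ∈ QuadGrp.O Q) {e : R}
    (hδ : LinearMap.det (g : M →ₗ[R] M) = 1 - 2 * e)
    (hz : CliffordAlgebra.map (QuadGrp.isometryOfMem Q g hg) (zEl b Q hn) =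
        algebraMap R _ (e * pEl b Q hn) + LinearMap.det (g : M →ₗ[R] M) • zEl b Q hn) :
    QuadGrp.IsDicksonTrivial Q g hg ↔ e = 0 := by
  constructor
  · intro h
    have hzc : (⟨zEl b Q hn, zEl_mem b Q hn⟩ : ↥(CliffordAlgebra.even Q)) ∈
        Subalgebra.center R ↥(CliffordAlgebra.even Q) :=
      Subalgebra.mem_center_iff.mpr fun y => Subtype.ext (zEl_comm_even b Q hn y.2).symm
    have hf := h _ hzc
    rw [hz] at hf
    have hind : algebraMap R _ (e * pEl b Q hn) + (LinearMap.det (g : M →ₗ[R] M) - 1) • zEl b Q hn = 0 := by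
      rw [sub_smul, one_smul, ← add_sub_assoc, sub_eq_zero]; exact hf
    obtain ⟨h0, h1⟩ := zEl_indep b Q hn hQ hm hind
    rw [hδ] at h1
    obtain ⟨q, -, hD⟩ := exists_zEl_sq b Q hn
    obtain ⟨d, hd⟩ := ((isUnit_neg_one (α := R)).pow m).mul (isUnit_det_polMat b Q hQ)
    rw [hD] at hd
    refine (Units.mul_right_eq_zero d).mp ?_
    rw [hd]
    linear_combination (pEl b Q hn) * h0 - 2 * q * h1
  · rintro rfl z hz'
    obtain ⟨a, r, hzz⟩ := exists_of_comm_pairs b Q hn hQ hm (x := (z : CliffordAlgebra Q)) z.2 fun v w =>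
      (congrArg Subtype.val (Subalgebra.mem_center_iff.mp hz'
        ⟨ι Q v * ι Q w, ι_mul_ι_mem_evenOdd_zero Q v w⟩)).symm
    rw [hzz, map_add, map_smul, hz, hδ, AlgHom.commutes]
    simp

end Groth.Agent.QFormLib
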