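import Groth.Agent.QFormLib.OddLocal
import Groth.Agent.QFormLib.EvenRank

/-! Lifting isometries along square zero surjections. -/

namespace Groth.Agent.QFormLib

open CliffordAlgebra Matrix

universe u v

section Naturality

variable {R : Type u} [CommRing R] {M : Type v} [AddCommGroup M] [Module R M] {S : Type u} [CommRing S]
  {N : Type v} [AddCommGroup N] [Module S N] {n m : ℕ} {σ : R →+* S}
  {b : Module.Basis (Fin n) R M} {Q : QuadraticForm R M} {c : Module.Basis (Fin n) S N} {Q' : QuadraticForm S N}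
  (h : Compat σ b Q c Q')

include h in
theorem spec_natural : σ.comp (spec b Q) = spec c Q' := by
  refine MvPolynomial.ringHom_ext (fun r => by simp) fun s => ?_
  rw [RingHom.comp_apply, spec, spec, MvPolynomial.eval₂Hom_X', MvPolynomial.eval₂Hom_X']
  induction s using Sym2.inductionOn with
  | hf i j =>
    rw [QuadGrp.coeffs_mk, QuadGrp.coeffs_mk, apply_ite σ]
    split_ifs with hij
    · simp [h.diag]
    · simp [h.polar i j hij]

theorem cmap_spec_natural : (cmap h).comp (cmap (compat_spec b Q)) = cmap (compat_spec c Q') := by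
  refine ringHom_ext (univB n) (fun r => ?_) fun i => ?_
  · rw [RingHom.comp_apply, cmap_algebraMap, cmap_algebraMap, cmap_algebraMap, ← RingHom.comp_apply σ, spec_natural h]
  · simp

theorem cmap_wEl_natural : cmap h (wEl b Q) = wEl c Q' :=
  RingHom.congr_fun (cmap_spec_natural h) (wU n)

theorem cmap_zEl_natural (hn : n = 2 * m) : cmap h (zEl b Q hn) = zEl c Q' hn :=
  RingHom.congr_fun (cmap_spec_natural h) (zU hn)

include h in
theorem pEl_natural (hn : n = 2 * m) : σ (pEl b Q hn) = pEl c Q' hn :=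
  RingHom.congr_fun (spec_natural h) (pU hn)

include h in
theorem polMat_natural : polMat c Q' = (polMat b Q).map σ := by
  ext i j
  exact h.polar_all i j

end Naturality

variable {A B : Type u} [CommRing A] [CommRing B] (π : A →+* B) (hπ : Function.Surjective π)
  (h0 : ∀ a b, π a = 0 → π b = 0 → a * b = 0)

include hπ h0 in
theorem isUnit_of_map {x : A} (hx : IsUnit (π x)) : IsUnit x := by
  obtain ⟨u, hu⟩ := hx
  obtain ⟨y, hy⟩ := hπ (↑u⁻¹ : B)
  have h1 : π (x * y - 1) = 0 := by rw [map_sub, map_mul, hy, ← hu, Units.mul_inv, map_one, sub_self]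
  exact IsUnit.of_mul_eq_one (y * (1 - (x * y - 1))) (by linear_combination (-1 : A) * h0 _ _ h1 h1)

variable {N N' : Type v} [AddCommGroup N] [Module A N] [AddCommGroup N'] [Module B N'] {n : ℕ}
  (b : Module.Basis (Fin n) A N) (b' : Module.Basis (Fin n) B N') (Q : QuadraticForm A N) (Q' : QuadraticForm B N')

local notation "σv" => svec π b (fun i => b' i)

theorem repr_svec (x : N) (i : Fin n) : b'.repr (σv x) i = π (b.repr x i) := by
  rw [svec_apply, map_sum, Finsupp.finsetSum_apply]
  simp [Finsupp.single_apply]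

include hπ in
theorem svec_surjective (w : N') : ∃ v, σv v = w := by
  choose f hf using fun i => hπ (b'.repr w i)
  refine ⟨∑ i, f i • b i, b'.repr.injective (Finsupp.ext fun i => ?_)⟩
  rw [repr_svec, map_sum, Finsupp.finsetSum_apply, Finset.sum_eq_single i (fun j _ hj => by simp [hj]) (by simp)]
  simp [hf]

theorem coord_of_svec_eq_zero {v : N} (hv : σv v = 0) (i : Fin n) : π (b.repr v i) = 0 := by
  rw [← repr_svec π b b', hv]; simp

include h0 in
theorem smul_svec_eq_zero {a : A} (ha : π a = 0) {v : N} (hv : σv v = 0) : a • v = 0 :=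
  b.repr.injective (Finsupp.ext fun i => by
    rw [map_smul, Finsupp.smul_apply, smul_eq_mul, h0 _ _ ha (coord_of_svec_eq_zero π b b' hv i)]; simp)

include h0 in
theorem polar_eq_zero_of_svec {v w : N} (hv : σv v = 0) (hw : σv w = 0) : QuadraticMap.polar Q v w = 0 := by
  rw [← b.sum_repr w, ← QuadraticMap.polarBilin_apply_apply, map_sum]
  refine Finset.sum_eq_zero fun i _ => ?_
  rw [map_smul, QuadraticMap.polarBilin_apply_apply, ← QuadraticMap.polar_smul_left,
    smul_svec_eq_zero π h0 b b' (coord_of_svec_eq_zero π b b' hw i) hv, QuadraticMap.polar_zero_left]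

include h0 in
theorem Q_eq_zero_of_svec {v : N} (hv : σv v = 0) : Q v = 0 := by
  have hc := coord_of_svec_eq_zero π b b' hv
  rw [← b.sum_repr v, QuadraticMap.map_sum]
  refine (add_eq_zero_iff_eq_neg.mpr ?_)
  rw [Finset.sum_eq_zero, Finset.sum_eq_zero, neg_zero]
  · intro s _
    induction s using Sym2.inductionOn with
    | hf i j =>
      simp only [QuadraticMap.polarSym2_sym2Mk, Sym2.map_mk]
      rw [QuadraticMap.polar_smul_left, QuadraticMap.polar_smul_right, smul_smul, smul_eq_mul, h0 _ _ (hc i) (hc j),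
        zero_mul]
  · intro i _
    rw [QuadraticMap.map_smul, h0 _ _ (hc i) (hc i), zero_smul]

variable (hc : Compat π b Q (fun i => b' i) Q')

include hc hπ h0 in
/-- Adjusting vectors so that their values and pairings become prescribed ones. -/
theorem exists_adjust {k : ℕ} (v : Fin k → N) (hP : IsUnit (polMat v Q).det) (t : Fin k → A)
    (p : Fin k → Fin k → A) (hp : ∀ i j, p i j = p j i) (ht : ∀ i, Q' (σv (v i)) = π (t i))
    (hpp : ∀ i j, i ≠ j → QuadraticMap.polar Q' (σv (v i)) (σv (v j)) = π (p i j)) :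
    ∃ C : Matrix (Fin k) (Fin k) A, (∀ l j, π (C l j) = 0) ∧
      (∀ i, Q (v i + ∑ l, C l i • v l) = t i) ∧
      ∀ i j, i ≠ j → QuadraticMap.polar Q (v i + ∑ l, C l i • v l) (v j + ∑ l, C l j • v l) = p i j := by
  let β : Matrix (Fin k) (Fin k) A := Matrix.of fun i j =>
    if i = j then t i - Q (v i) else if i < j then p i j - QuadraticMap.polar Q (v i) (v j) else 0
  have hβ : ∀ i j, π (β i j) = 0 := fun i j => by
    simp only [β, Matrix.of_apply]
    split_ifs with h1 h2
    · rw [map_sub, ← ht, hc.map_form, sub_self]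
    · rw [map_sub, ← hpp i j h1, hc.polar_svec, sub_self]
    · exact map_zero π
  let P := polMat v Q
  let C := P⁻¹ * β
  have hC : ∀ l j, π (C l j) = 0 := fun l j => by
    simp only [C, Matrix.mul_apply, map_sum, map_mul, hβ, mul_zero, Finset.sum_const_zero]
  let u : Fin k → N := fun j => ∑ l, C l j • v l
  have hu : ∀ j, σv (u j) = 0 := fun j => by
    simp only [u, map_sum, LinearMap.map_smulₛₗ, hC, zero_smul, Finset.sum_const_zero]
  have hpol : ∀ i j, QuadraticMap.polar Q (v i) (u j) = β i j := fun i j => by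
    have h1 : (P * C) i j = β i j := by
      simp only [C]; rw [← Matrix.mul_assoc, Matrix.mul_nonsing_inv P hP, Matrix.one_mul]
    rw [← h1, Matrix.mul_apply, ← QuadraticMap.polarBilin_apply_apply]
    simp only [u, map_sum, map_smul, QuadraticMap.polarBilin_apply_apply, smul_eq_mul]
    exact Finset.sum_congr rfl fun l _ => mul_comm _ _
  refine ⟨C, hC, fun i => ?_, fun i j hij => ?_⟩
  · show Q (v i + u i) = t i
    rw [QuadraticMap.map_add Q, Q_eq_zero_of_svec π h0 b b' Q (hu i), hpol]
    simp [β]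
  · show QuadraticMap.polar Q (v i + u i) (v j + u j) = p i j
    rw [QuadraticMap.polar_add_left, QuadraticMap.polar_add_right, QuadraticMap.polar_add_right,
      polar_eq_zero_of_svec π h0 b b' Q (hu i) (hu j), hpol, QuadraticMap.polar_comm Q (u i) (v j), hpol]
    rcases lt_trichotomy i j with h | h | h
    · simp [β, hij, h, Ne.symm hij, not_lt.mpr h.le]
    · exact absurd h hij
    · simp [β, hij, h, Ne.symm hij, not_lt.mpr h.le, hp i j, QuadraticMap.polar_comm Q (v j) (v i)]

/-- The compatibility of an endomorphism with one over the quotient. -/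
def Over' (g : N →ₗ[A] N) (g' : N' →ₗ[B] N') : Prop := ∀ x, σv (g x) = g' (σv x)

theorem over'_of_basis {ι : Type*} (c : Module.Basis ι A N) (g : N →ₗ[A] N) (g' : N' →ₗ[B] N')
    (h : ∀ i, σv (g (c i)) = g' (σv (c i))) : Over' π b b' g g' := fun x => by
  induction c.mem_span x using Submodule.span_induction with
  | mem y hy => obtain ⟨i, rfl⟩ := hy; exact h i
  | zero => simp
  | add x y _ _ hx hy => simp only [map_add, hx, hy]
  | smul a x _ hx => simp only [map_smul, LinearMap.map_smulₛₗ, hx]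

theorem toMatrix_map {g : N →ₗ[A] N} {g' : N' →ₗ[B] N'} (h : Over' π b b' g g') :
    (LinearMap.toMatrix b b g).map π = LinearMap.toMatrix b' b' g' := by
  ext i j
  rw [Matrix.map_apply, LinearMap.toMatrix_apply, LinearMap.toMatrix_apply, ← repr_svec π b b', h, svec_basis]

theorem det_map {g : N →ₗ[A] N} {g' : N' →ₗ[B] N'} (h : Over' π b b' g g') :
    π (LinearMap.det g) = LinearMap.det g' := by
  rw [← LinearMap.det_toMatrix b, ← LinearMap.det_toMatrix b', RingHom.map_det, RingHom.mapMatrix_apply,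
    toMatrix_map π b b' h]

include hπ h0 in
theorem exists_equiv_over {g : N →ₗ[A] N} {g' : N' ≃ₗ[B] N'} (h : Over' π b b' g g'.toLinearMap) :
    ∃ e : N ≃ₗ[A] N, e.toLinearMap = g := by
  have hu : IsUnit (LinearMap.det g) := isUnit_of_map π hπ h0 (by
    rw [det_map π b b' h]; exact g'.isUnit_det')
  have hu' : IsUnit (LinearMap.toMatrix b b g).det := by rwa [LinearMap.det_toMatrix]
  exact ⟨LinearEquiv.ofIsUnitDet hu', LinearMap.ext fun x => LinearEquiv.ofIsUnitDet_apply hu' x⟩

theorem mem_O_of_basis {ι : Type*} [Fintype ι] [LinearOrder ι] (c : Module.Basis ι A N) (g : N ≃ₗ[A] N)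
    (hd : ∀ i, Q (g (c i)) = Q (c i))
    (hp : ∀ i j, i ≠ j → QuadraticMap.polar Q (g (c i)) (g (c j)) = QuadraticMap.polar Q (c i) (c j)) :
    g ∈ QuadGrp.O Q := fun x => by
  rw [← c.sum_repr x, map_sum, QuadraticMap.map_sum, QuadraticMap.map_sum]
  congr 1
  · exact Finset.sum_congr rfl fun i _ => by rw [map_smul, QuadraticMap.map_smul, QuadraticMap.map_smul, hd]
  · refine Finset.sum_congr rfl fun s hs => ?_
    induction s using Sym2.inductionOn with
    | hf i j =>
      have hij : i ≠ j := by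
        simp only [Finset.mem_filter, Sym2.mk_isDiag_iff] at hs
        exact hs.2
      simp only [QuadraticMap.polarSym2_sym2Mk, Sym2.map_mk, map_smul]
      rw [QuadraticMap.polar_smul_left, QuadraticMap.polar_smul_right, QuadraticMap.polar_smul_left,
        QuadraticMap.polar_smul_right, hp i j hij]

include hc hπ h0 in
/-- Isometries of regular forms lift. -/
theorem exists_lift_O (hP : IsUnit (polMat b Q).det) (g' : N' ≃ₗ[B] N') (hg' : g' ∈ QuadGrp.O Q') :
    ∃ g ∈ QuadGrp.O Q, Over' π b b' (g : N ≃ₗ[A] N).toLinearMap g'.toLinearMap := by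
  choose v hv using fun i => svec_surjective π hπ b b' (g' (b' i))
  have hP' : IsUnit (polMat v Q).det := by
    refine isUnit_of_map π hπ h0 ?_
    have e : (polMat v Q).map π = (polMat b Q).map π := by
      ext i j
      simp only [Matrix.map_apply, polMat, Matrix.of_apply]
      rw [← hc.polar_svec, hv, hv, ← hc.polar_all i j]
      simp only [QuadraticMap.polar, ← map_add, hg' _]
    rw [RingHom.map_det, RingHom.mapMatrix_apply, e, ← RingHom.mapMatrix_apply, ← RingHom.map_det]
    exact hP.map π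
  obtain ⟨C, hC, hd, hp⟩ := exists_adjust π hπ h0 b b' Q Q' hc v hP' (fun i => Q (b i))
    (fun i j => QuadraticMap.polar Q (b i) (b j)) (fun i j => QuadraticMap.polar_comm _ _ _)
    (fun i => by rw [hv, hg', hc.diag])
    (fun i j hij => by
      rw [hv, hv, ← hc.polar i j hij]
      simp only [QuadraticMap.polar, ← map_add, hg' _])
  let g₀ : N →ₗ[A] N := b.constr A fun i => v i + ∑ l, C l i • v l
  have hov : Over' π b b' g₀ g'.toLinearMap := over'_of_basis π b b' b _ _ fun i => by
    simp only [g₀, Module.Basis.constr_basis, map_add, map_sum, LinearMap.map_smulₛₗ, hC, zero_smul,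
      Finset.sum_const_zero, add_zero, hv, svec_basis, LinearEquiv.coe_coe]
  obtain ⟨e, he⟩ := exists_equiv_over π hπ h0 b b' hov
  have hei : ∀ i, e (b i) = v i + ∑ l, C l i • v l := fun i => by
    rw [← LinearEquiv.coe_coe, he]; exact Module.Basis.constr_basis _ _ _ _
  exact ⟨e, mem_O_of_basis Q b e (fun i => by rw [hei, hd]) (fun i j hij => by rw [hei, hei, hp i j hij]),
    he ▸ hov⟩

include hc hπ h0 in
/-- Isometries of determinant one of semiregular forms of odd rank lift. -/
theorem exists_lift_SO_odd [IsLocalRing A] {m : ℕ} (hn : n = 2 * m + 1)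
    (hQ : IsUnit (QuadGrp.halfDisc b (LinearEquiv.refl A A) Q)) (g' : N' ≃ₗ[B] N') (hg' : g' ∈ QuadGrp.SO' Q') :
    ∃ g ∈ QuadGrp.SO' Q, Over' π b b' (g : N ≃ₗ[A] N).toLinearMap g'.toLinearMap := by
  subst hn
  obtain ⟨hgO, hdet'⟩ := hg'
  have hd1 : LinearMap.det g'.toLinearMap = 1 := by
    rw [← LinearEquiv.coe_det, MonoidHom.mem_ker.mp hdet', Units.val_one]
  obtain ⟨c, hc0, hcu, hct⟩ := exists_split_basis Q b hQ
  obtain ⟨v0, hv0⟩ := svec_surjective π hπ b b' (g' (svec π b (fun i => b' i) (c 0)))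
  choose v hv using fun j : Fin (2 * m) => svec_surjective π hπ b b' (g' (svec π b (fun i => b' i) (c j.succ)))
  have hQ' : ∀ x, Q' (g' (svec π b (fun i => b' i) x)) = π (Q x) := fun x => by rw [hgO, hc.map_form]
  have hP' : ∀ x y, QuadraticMap.polar Q' (g' (svec π b (fun i => b' i) x)) (g' (svec π b (fun i => b' i) y)) = π (QuadraticMap.polar Q x y) := fun x y => by
    simp only [QuadraticMap.polar, ← map_add, hQ', map_sub]
  have hP : IsUnit (polMat v Q).det := by
    refine isUnit_of_map π hπ h0 ?_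
    have e : (polMat v Q).map π = (polMat (fun j : Fin (2 * m) => c j.succ) Q).map π := by
      ext i j
      simp only [Matrix.map_apply, polMat, Matrix.of_apply]
      rw [← hc.polar_svec, hv, hv, hP']
    rw [RingHom.map_det, RingHom.mapMatrix_apply, e, ← RingHom.mapMatrix_apply, ← RingHom.map_det]
    exact hct.map π
  obtain ⟨C, hC, hd, hp⟩ := exists_adjust π hπ h0 b b' Q Q' hc v hP (fun i => Q (c i.succ))
    (fun i j => QuadraticMap.polar Q (c i.succ) (c j.succ)) (fun i j => QuadraticMap.polar_comm _ _ _)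
    (fun i => by rw [hv, hQ']) (fun i j _ => by rw [hv, hv, hP'])
  let q : Fin (2 * m) → A := fun l => QuadraticMap.polar Q v0 (v l)
  have hq : ∀ l, π (q l) = 0 := fun l => by
    show π (QuadraticMap.polar Q v0 (v l)) = 0
    rw [← hc.polar_svec, hv0, hv, hP', hc0, map_zero]
  let d : Fin (2 * m) → A := Matrix.vecMul (-q) (polMat v Q)⁻¹
  have hdz : ∀ l, π (d l) = 0 := fun l => by
    simp [d, Matrix.vecMul, dotProduct, hq]
  have hdP : ∀ j, ∑ l, d l * QuadraticMap.polar Q (v l) (v j) = -q j := fun j => by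
    have h1 : Matrix.vecMul d (polMat v Q) j = (-q) j := by
      simp only [d]; rw [Matrix.vecMul_vecMul, Matrix.nonsing_inv_mul _ hP, Matrix.vecMul_one]
    exact h1
  let u0 : N := ∑ l, d l • v l
  let u : Fin (2 * m) → N := fun j => ∑ l, C l j • v l
  have hu0 : svec π b (fun i => b' i) u0 = 0 := by
    simp only [u0, map_sum, LinearMap.map_smulₛₗ, hdz, zero_smul, Finset.sum_const_zero]
  have hu : ∀ j, svec π b (fun i => b' i) (u j) = 0 := fun j => by
    simp only [u, map_sum, LinearMap.map_smulₛₗ, hC, zero_smul, Finset.sum_const_zero]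
  have hsum : ∀ (x : N) (t : Fin (2 * m) → A), QuadraticMap.polar Q x (∑ l, t l • v l) =
      ∑ l, t l * QuadraticMap.polar Q x (v l) := fun x t => by
    rw [← QuadraticMap.polarBilin_apply_apply, map_sum]
    simp [QuadraticMap.polarBilin_apply_apply]
  have horth : ∀ j, QuadraticMap.polar Q (v0 + u0) (v j + u j) = 0 := fun j => by
    rw [QuadraticMap.polar_add_left, QuadraticMap.polar_add_right, QuadraticMap.polar_add_right,
      polar_eq_zero_of_svec π h0 b b' Q hu0 (hu j), QuadraticMap.polar_comm Q u0 (v j), hsum, hsum,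
      Finset.sum_eq_zero (fun l _ => h0 _ _ (hC l j) (hq l))]
    rw [Finset.sum_congr rfl fun l _ => by rw [QuadraticMap.polar_comm Q (v j) (v l)], hdP]
    simp [q]
  have hQw : Q (v0 + u0) = Q v0 := by
    rw [QuadraticMap.map_add Q, Q_eq_zero_of_svec π h0 b b' Q hu0, hsum,
      Finset.sum_eq_zero (fun l _ => h0 _ _ (hdz l) (hq l)), add_zero, add_zero]
  let h₀ : N →ₗ[A] N := c.constr A (Fin.cons (v0 + u0) fun j => v j + u j)
  have hh0 : h₀ (c 0) = v0 + u0 := by simp only [h₀, Module.Basis.constr_basis, Fin.cons_zero]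
  have hhs : ∀ j : Fin (2 * m), h₀ (c j.succ) = v j + u j := fun j => by
    simp only [h₀, Module.Basis.constr_basis, Fin.cons_succ]
  have hov : Over' π b b' h₀ g'.toLinearMap := over'_of_basis π b b' c _ _ fun i => by
    refine Fin.cases ?_ (fun j => ?_) i
    · rw [hh0, map_add, hu0, add_zero, hv0]; rfl
    · rw [hhs, map_add, hu, add_zero, hv]; rfl
  have hdetπ : π (LinearMap.det h₀) = 1 := by rw [det_map π b b' hov, hd1]
  obtain ⟨δ, hδ⟩ := isUnit_of_map π hπ h0 (by rw [hdetπ]; exact isUnit_one : IsUnit (π (LinearMap.det h₀)))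
  have hscale : Q (v0 + u0) = LinearMap.det h₀ ^ 2 * Q (c 0) := by
    have h1 := halfDisc_comp ⟨m, rfl⟩ c Q h₀
    rw [halfDisc_of_split ⟨m, by ring⟩ c Q hc0, halfDisc_of_split ⟨m, by ring⟩ c (Q.comp h₀) (fun j => by
      simp only [QuadraticMap.polar, QuadraticMap.comp_apply, map_add, hh0, hhs]
      exact horth j)] at h1
    have e : polMat (fun j : Fin (2 * m) => c j.succ) (Q.comp h₀) = polMat (fun j : Fin (2 * m) => c j.succ) Q := by
      ext i j
      simp only [polMat, Matrix.of_apply, QuadraticMap.polar, QuadraticMap.comp_apply, map_add, hhs]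
      by_cases hij : i = j
      · subst hij
        change QuadraticMap.polar Q (v i + u i) (v i + u i) = QuadraticMap.polar Q (c i.succ) (c i.succ)
        rw [QuadraticMap.polar_self, QuadraticMap.polar_self, hd]
      · exact hp i j hij
    rw [e, QuadraticMap.comp_apply, hh0, ← mul_assoc] at h1
    exact hct.mul_right_cancel h1
  let k₀ : N →ₗ[A] N := c.constr A (Function.update c 0 ((↑δ⁻¹ : A) • c 0))
  have hk0 : k₀ (c 0) = (↑δ⁻¹ : A) • c 0 := by simp only [k₀, Module.Basis.constr_basis, Function.update_self]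
  have hks : ∀ j : Fin (2 * m), k₀ (c j.succ) = c j.succ := fun j => by
    simp only [k₀, Module.Basis.constr_basis, Function.update_of_ne (Fin.succ_ne_zero j)]
  have hkdet : LinearMap.det k₀ = (↑δ⁻¹ : A) := by
    have h1 := c.det_comp k₀ c
    rw [Module.Basis.det_self, mul_one] at h1
    rw [← h1, show k₀ ∘ c = Function.update c 0 ((↑δ⁻¹ : A) • c 0) from funext fun i => c.constr_basis A _ i,
      AlternatingMap.map_update_smul, Function.update_eq_self, Module.Basis.det_self, smul_eq_mul, mul_one]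
  have hdetg : LinearMap.det (h₀ ∘ₗ k₀) = 1 := by rw [LinearMap.det_comp, hkdet, ← hδ, Units.mul_inv]
  have hπδ : π (↑δ⁻¹ : A) = 1 := by
    have h1 := congrArg π δ.inv_mul
    rwa [map_mul, hδ, hdetπ, mul_one, map_one] at h1
  have hov' : Over' π b b' (h₀ ∘ₗ k₀) g'.toLinearMap := over'_of_basis π b b' c _ _ fun i => by
    refine Fin.cases ?_ (fun j => ?_) i
    · rw [LinearMap.comp_apply, hk0, map_smul, LinearMap.map_smulₛₗ, hπδ, one_smul, hov]
    · rw [LinearMap.comp_apply, hks, hov]
  obtain ⟨e, he⟩ := exists_equiv_over π hπ h0 b b' hov'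
  have he' : ∀ x, e x = h₀ (k₀ x) := fun x => by rw [← LinearEquiv.coe_coe, he]; rfl
  refine ⟨e, ⟨mem_O_of_basis Q c e (fun i => ?_) (fun i j hij => ?_), MonoidHom.mem_ker.mpr (Units.ext ?_)⟩, he ▸ hov'⟩
  · refine Fin.cases ?_ (fun j => ?_) i
    · rw [he', hk0, map_smul, hh0, QuadraticMap.map_smul, hscale, ← hδ, smul_eq_mul]
      linear_combination (↑δ⁻¹ * ↑δ + 1) * Q (c 0) * δ.inv_mul
    · rw [he', hks, hhs, hd]
  · have key : ∀ j : Fin (2 * m), QuadraticMap.polar Q (e (c 0)) (e (c j.succ)) = 0 := fun j => by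
      rw [he', he', hk0, hks, map_smul, hh0, hhs, QuadraticMap.polar_smul_left, horth, smul_zero]
    revert hij
    refine Fin.cases ?_ (fun i => ?_) i <;> refine Fin.cases ?_ (fun j => ?_) j <;> intro hij
    · exact absurd rfl hij
    · rw [key, hc0]
    · rw [QuadraticMap.polar_comm, key, QuadraticMap.polar_comm, hc0]
    · rw [he', he', hks, hks, hhs, hhs, hp i j fun e => hij (congrArg Fin.succ e)]
  · rw [LinearEquiv.coe_det, he, hdetg, Units.val_one]

include hc in
/-- An isometry over a connected ring is Dickson trivial if it is so after specialisation. -/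
theorem mem_SOeven_of_over [Nontrivial B] {m : ℕ} (hn : n = 2 * m) (hm : 0 < m) (hP : QuadGrp.IsRegular Q)
    (hidem : ∀ e : A, IsIdempotentElem e → e = 0 ∨ e = 1) {g : N ≃ₗ[A] N} {g' : N' ≃ₗ[B] N'}
    (hg : g ∈ QuadGrp.O Q) (hov : Over' π b b' g.toLinearMap g'.toLinearMap) (hg' : g' ∈ QuadGrp.SOeven Q') :
    g ∈ QuadGrp.SOeven Q := by
  obtain ⟨hgO', hD⟩ := hg'
  obtain ⟨e, he, hδ, hz⟩ := exists_dickson b Q hn hP hm g hg
  refine ⟨hg, (isDicksonTrivial_iff b Q hn hP hm g hg hδ hz).mpr ?_⟩
  refine (hidem e he).resolve_right fun he1 => ?_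
  subst he1
  have hmap : ∀ x, cmap hc (CliffordAlgebra.map (QuadGrp.isometryOfMem Q g hg) x) =
      CliffordAlgebra.map (QuadGrp.isometryOfMem Q' g' hgO') (cmap hc x) :=
    RingHom.congr_fun (ringHom_ext b
      (f := (cmap hc).comp (CliffordAlgebra.map (QuadGrp.isometryOfMem Q g hg)).toRingHom)
      (g := ((CliffordAlgebra.map (QuadGrp.isometryOfMem Q' g' hgO')).toRingHom).comp (cmap hc))
      (fun r => by simp) fun i => by
        simp only [RingHom.comp_apply, AlgHom.toRingHom_eq_coe, RingHom.coe_coe, CliffordAlgebra.map_apply_ι,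
          cmap_ι, QuadGrp.isometryOfMem_apply]
        exact congrArg (ι Q') (hov (b i)))
  have hz' := congrArg (cmap hc) hz
  rw [hmap, cmap_zEl_natural hc hn, map_add, cmap_smul, cmap_algebraMap, cmap_zEl_natural hc hn, map_mul, map_one,
    one_mul, hδ, map_sub, map_mul, map_one, map_ofNat, mul_one, pEl_natural hc hn] at hz'
  have hcen : (⟨zEl b' Q' hn, zEl_mem b' Q' hn⟩ : ↥(CliffordAlgebra.even Q')) ∈
      Subalgebra.center B ↥(CliffordAlgebra.even Q') :=
    Subalgebra.mem_center_iff.mpr fun y => Subtype.ext (zEl_comm_even b' Q' hn y.2).symm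
  rw [show (CliffordAlgebra.map (QuadGrp.isometryOfMem Q' g' hgO')) (zEl b' Q' hn) = zEl b' Q' hn from hD _ hcen] at hz'
  have hw : wEl b' Q' = 0 := by
    rw [wEl_eq b' Q' hn]
    linear_combination (norm := module) hz'
  have hu : IsUnit (wEl b' Q') := isUnit_of_sq Q' (((isUnit_neg_one (α := B)).pow m).mul
    (show IsUnit (polMat b' Q').det by
      rw [polMat_natural hc, ← RingHom.mapMatrix_apply, ← RingHom.map_det]
      exact (isUnit_det_polMat b Q hP).map π)) (wEl_sq_even b' Q' hn)
  rw [hw, isUnit_zero_iff] at hu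
  exact zero_ne_one (algebraMap_injective b' Q' (by rw [map_zero, map_one]; exact hu))

include hc hπ h0 in
/-- In even rank the lifts respect determinants when two is invertible, and the Dickson condition. -/
theorem exists_lift_SOeven [Nontrivial B] [IsLocalRing A] {m : ℕ} (hn : n = 2 * m) (hm : 0 < m)
    (hP : QuadGrp.IsRegular Q) (g' : N' ≃ₗ[B] N') (hg' : g' ∈ QuadGrp.SOeven Q') :
    ∃ g ∈ QuadGrp.SOeven Q, Over' π b b' (g : N ≃ₗ[A] N).toLinearMap g'.toLinearMap := by
  obtain ⟨g, hg, hov⟩ := exists_lift_O π hπ h0 b b' Q Q' hc (isUnit_det_polMat b Q hP) g' hg'.1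
  refine ⟨g, mem_SOeven_of_over π b b' Q Q' hc hn hm hP (fun e he => ?_) hg hov hg', hov⟩
  rcases IsLocalRing.isUnit_or_isUnit_one_sub_self e with hu | hu
  · exact Or.inr (hu.mul_left_cancel (by rw [he.eq, mul_one]))
  · exact Or.inl (hu.mul_left_eq_zero.mp (by rw [mul_sub, mul_one, he.eq, sub_self]))

end Groth.Agent.QFormLib
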