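import Groth.Agent.QFormLib.EvenHomog
import Mathlib.Algebra.Azumaya.Defs
import Mathlib.LinearAlgebra.FreeModule.Finite.Matrix
import Mathlib.LinearAlgebra.Matrix.ToLinearEquiv
import Mathlib.RingTheory.LocalRing.ResidueField.Basic
import Mathlib.RingTheory.OrzechProperty
import Mathlib.RingTheory.Finiteness.Basic
import Mathlib.RingTheory.TensorProduct.Maps

/-! The Clifford algebra of a regular even-rank form is Azumaya; its automorphisms over a local base are inner. -/

namespace Groth.Agent.QFormLib

open CliffordAlgebra MulOpposite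
open scoped TensorProduct

universe u v

variable {R : Type u} [CommRing R] {M : Type v} [AddCommGroup M] [Module R M] {n : ℕ}
  (b : Module.Basis (Fin n) R M) (Q : QuadraticForm R M)

/-- Iterated contraction along a list. -/
noncomputable def contrList : List (Fin n) → (CliffordAlgebra Q →ₗ[R] CliffordAlgebra Q)
  | [] => LinearMap.id
  | a :: l => contrList l ∘ₗ contractLeft (b.coord a)

/-- Iterated contraction along a set. -/
noncomputable def contrSet (S : Finset (Fin n)) : CliffordAlgebra Q →ₗ[R] CliffordAlgebra Q :=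
  contrList b Q (S.sort (· ≤ ·))

theorem contrSet_empty : contrSet b Q ∅ = LinearMap.id := by simp [contrSet, contrList]

theorem contrSet_insert_min {a : Fin n} {S : Finset (Fin n)} (h : ∀ x ∈ S, a < x) :
    contrSet b Q (insert a S) = contrSet b Q S ∘ₗ contractLeft (b.coord a) := by
  rw [contrSet, Finset.sort_insert (r := (· ≤ ·)) (fun x hx => (h x hx).le) (fun hm => lt_irrefl a (h a hm))]
  rfl

theorem contrSet_prodE_self (S : Finset (Fin n)) : contrSet b Q S (prodE b Q S) = 1 := by
  induction S using Finset.induction_on_min with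
  | empty => rw [contrSet_empty, LinearMap.id_apply, prodE_empty]
  | insert a S h ih =>
    obtain ⟨e, he, hmin⟩ := contractLeft_prodE_of_mem b Q a (insert a S) (Finset.mem_insert_self a S)
    rw [contrSet_insert_min b Q h, LinearMap.comp_apply, he, map_smul,
      Finset.erase_insert (fun hm => lt_irrefl a (h a hm)), ih, hmin fun x hx => ?_, one_smul]
    rcases Finset.mem_insert.mp hx with rfl | hxS
    exacts [le_rfl, (h x hxS).le]

theorem contrSet_prodE_of_not_subset {S T : Finset (Fin n)} (hST : ¬S ⊆ T) : contrSet b Q S (prodE b Q T) = 0 := by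
  induction S using Finset.induction_on_min generalizing T with
  | empty => simp at hST
  | insert a S h ih =>
    rw [contrSet_insert_min b Q h, LinearMap.comp_apply]
    by_cases haT : a ∈ T
    · obtain ⟨e, he, -⟩ := contractLeft_prodE_of_mem b Q a T haT
      rw [he, map_smul, ih, smul_zero]
      intro hh
      exact hST (Finset.insert_subset haT (hh.trans (Finset.erase_subset a T)))
    · rw [contractLeft_prodE_of_notMem b Q a T haT, map_zero]

/-- The two-sided multiplication map. -/
noncomputable abbrev sandwich : CliffordAlgebra Q ⊗[R] (CliffordAlgebra Q)ᵐᵒᵖ →ₐ[R] Module.End R (CliffordAlgebra Q) :=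
  AlgHom.mulLeftRight R (CliffordAlgebra Q)

theorem mulLeft_mem_range (a : CliffordAlgebra Q) : LinearMap.mulLeft R a ∈ (sandwich Q).range :=
  ⟨a ⊗ₜ op 1, LinearMap.ext fun x => by simp⟩

theorem mulRight_mem_range (a : CliffordAlgebra Q) : LinearMap.mulRight R a ∈ (sandwich Q).range :=
  ⟨1 ⊗ₜ op a, LinearMap.ext fun x => by simp⟩

variable {m : ℕ} (hn : n = 2 * m) (hQ : QuadGrp.IsRegular Q)

include hn in
theorem wEl_mul_eq_involute_mul (x : CliffordAlgebra Q) : wEl b Q * x = involute x * wEl b Q := by
  induction x using CliffordAlgebra.induction with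
  | algebraMap r => rw [AlgHom.commutes, Algebra.commutes]
  | ι v => rw [involute_ι, wEl_comm_even b Q hn, neg_mul]
  | mul x y hx hy => rw [← mul_assoc, hx, mul_assoc, hy, ← mul_assoc, map_mul]
  | add x y hx hy => rw [mul_add, hx, hy, map_add, add_mul]

include b hn hQ in
theorem involute_mem_range : (involute (Q := Q)).toLinearMap ∈ (sandwich Q).range := by
  obtain ⟨w, hw⟩ := isUnit_wEl b Q hn hQ
  refine ⟨(w : CliffordAlgebra Q) ⊗ₜ op (↑w⁻¹ : CliffordAlgebra Q), LinearMap.ext fun x => ?_⟩
  show sandwich Q _ x = involute x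
  rw [sandwich, AlgHom.mulLeftRight_apply, hw, wEl_mul_eq_involute_mul b Q hn, ← hw, unop_op,
    Units.mul_inv_cancel_right]

include b hn hQ in
theorem contractLeft_mem_range (d : Module.Dual R M) :
    (contractLeft (Q := Q) d : Module.End R (CliffordAlgebra Q)) ∈ (sandwich Q).range := by
  obtain ⟨v, rfl⟩ := hQ.surjective d
  have h : (contractLeft (Q := Q) (QuadraticMap.polarBilin Q v) : Module.End R (CliffordAlgebra Q)) =
      LinearMap.mulLeft R (ι Q v) - LinearMap.mulRight R (ι Q v) * (involute (Q := Q)).toLinearMap := by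
    ext x
    rw [LinearMap.sub_apply, Module.End.mul_apply, LinearMap.mulLeft_apply, LinearMap.mulRight_apply,
      AlgHom.toLinearMap_apply, ι_mul_sub_involute_mul]
  rw [h]
  exact Subalgebra.sub_mem _ (mulLeft_mem_range Q _)
    (Subalgebra.mul_mem _ (mulRight_mem_range Q _) (involute_mem_range b Q hn hQ))

include hn hQ in
theorem contrSet_mem_range (S : Finset (Fin n)) :
    (contrSet b Q S : Module.End R (CliffordAlgebra Q)) ∈ (sandwich Q).range := by
  induction S using Finset.induction_on_min with
  | empty => rw [contrSet_empty]; exact Subalgebra.one_mem _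
  | insert a S h ih =>
    rw [contrSet_insert_min b Q h]
    exact Subalgebra.mul_mem _ ih (contractLeft_mem_range b Q hn hQ _)

/-- The rank-one operator `x ↦ κ_S x`. -/
noncomputable def coordOp (S : Finset (Fin n)) : Module.End R (CliffordAlgebra Q) :=
  (κ b Q S).smulRight (1 : CliffordAlgebra Q)

theorem eq_sum_coordOp (f : Module.End R (CliffordAlgebra Q)) :
    f = ∑ U, LinearMap.mulLeft R (f (prodE b Q U)) * coordOp b Q U := by
  ext x
  conv_lhs => rw [eq_sum_κ b Q x, map_sum]
  simp [coordOp, LinearMap.sum_apply]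

include hn hQ in
theorem coordOp_mem_range (S : Finset (Fin n)) : coordOp b Q S ∈ (sandwich Q).range := by
  induction hk : n - S.card using Nat.strong_induction_on generalizing S with
  | _ k ih =>
    subst hk
    have h := eq_sum_coordOp b Q (contrSet b Q S)
    rw [Finset.sum_eq_add_sum_sdiff_singleton_of_mem (Finset.mem_univ S), contrSet_prodE_self, LinearMap.mulLeft_one] at h
    rw [show coordOp b Q S = contrSet b Q S -
      ∑ U ∈ Finset.univ \ {S}, LinearMap.mulLeft R (contrSet b Q S (prodE b Q U)) * coordOp b Q U by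
        rw [eq_sub_iff_add_eq]; exact h.symm]
    refine Subalgebra.sub_mem _ (contrSet_mem_range b Q hn hQ S) (Subalgebra.sum_mem _ fun U hU => ?_)
    by_cases hSU : S ⊆ U
    · have hne : S ≠ U := fun e => by simp [e] at hU
      have hlt : S.card < U.card := Finset.card_lt_card (lt_of_le_of_ne hSU hne)
      have hle : U.card ≤ n := by simpa using Finset.card_le_univ U
      exact Subalgebra.mul_mem _ (mulLeft_mem_range Q _) (ih (n - U.card) (by omega) U rfl)
    · rw [contrSet_prodE_of_not_subset b Q hSU, LinearMap.mulLeft_zero_eq_zero, zero_mul]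
      exact Subalgebra.zero_mem _

include b hn hQ in
/-- Two-sided multiplication identifies `C ⊗ Cᵒᵖ` with the endomorphisms of `C`. -/
theorem sandwich_bijective : Function.Bijective (sandwich Q) := by
  haveI := free_clifford b Q
  haveI := finite_clifford b Q
  have hsurj : Function.Surjective (sandwich Q) := fun f => by
    rw [← AlgHom.mem_range, eq_sum_coordOp b Q f]
    exact Subalgebra.sum_mem _ fun U _ =>
      Subalgebra.mul_mem _ (mulLeft_mem_range Q _) (coordOp_mem_range b Q hn hQ U)
  let B := cliffBasis b Q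
  let e₁ := B.tensorProduct (B.map (opLinearEquiv R))
  let e₂ := (Matrix.stdBasis R (Finset (Fin n)) (Finset (Fin n))).map
    (LinearMap.toMatrix B B).symm
  let e : CliffordAlgebra Q ⊗[R] (CliffordAlgebra Q)ᵐᵒᵖ ≃ₗ[R] Module.End R (CliffordAlgebra Q) :=
    e₁.equiv e₂ (Equiv.refl _)
  haveI := Module.Finite.of_basis e₁
  have := OrzechProperty.bijective_of_surjective_endomorphism (e.symm.toLinearMap ∘ₗ (sandwich Q).toLinearMap)
    (e.symm.surjective.comp hsurj)
  refine ⟨fun x y h => this.1 ?_, hsurj⟩
  show e.symm (sandwich Q x) = e.symm (sandwich Q y)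
  rw [h]

section Skolem

variable {N : Type v} [AddCommGroup N] [Module R N] {ι' : Type*} [Fintype ι'] [DecidableEq ι']

/-- An algebra endomorphism of `End N` over a local ring is inner. -/
theorem exists_conj_of_end [IsLocalRing R] (B : Module.Basis ι' R N) [Nonempty ι']
    (ψ : Module.End R N →ₐ[R] Module.End R N) : ∃ g : N ≃ₗ[R] N, ∀ f x, g (f x) = ψ f (g x) := by
  let E : ι' → ι' → Module.End R N := fun i j => (B.coord j).smulRight (B i)
  have hE : ∀ i j k l, E i j * E k l = if j = k then E i l else 0 := fun i j k l => by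
    refine B.ext fun s => ?_
    simp only [Module.End.mul_apply, E, LinearMap.smulRight_apply, Module.Basis.coord_apply, map_smul, B.repr_self,
      Finsupp.single_apply]
    by_cases h : j = k
    · subst h; simp [Finsupp.single_apply]
    · simp [h, Ne.symm h]
  obtain ⟨o⟩ := ‹Nonempty ι'›
  have hE1 : ∑ i, E i o * E o o * E o i = 1 := by
    simp only [hE, if_true]
    refine B.ext fun s => ?_
    simp [E, LinearMap.sum_apply, Finsupp.single_apply]
  obtain ⟨w, k₀, hk₀⟩ : ∃ w k₀, IsUnit (B.repr (ψ (E o o) w) k₀) := by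
    by_contra hc
    push Not at hc
    have hm : ∀ w k, B.repr (ψ (E o o) w) k ∈ IsLocalRing.maximalIdeal R := fun w k =>
      (IsLocalRing.mem_maximalIdeal _).mpr (hc w k)
    have h1 : B.repr ((ψ 1) (B o)) o ∈ IsLocalRing.maximalIdeal R := by
      rw [← hE1, map_sum, LinearMap.sum_apply, map_sum, Finsupp.finsetSum_apply]
      refine Submodule.sum_mem _ fun i _ => ?_
      simp only [map_mul, Module.End.mul_apply]
      set z := ψ (E o o) (ψ (E o i) (B o)) with hz
      rw [← B.sum_repr z, map_sum, map_sum, Finsupp.finsetSum_apply]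
      refine Submodule.sum_mem _ fun k _ => ?_
      rw [map_smul, map_smul, Finsupp.smul_apply, smul_eq_mul]
      exact Ideal.mul_mem_right _ _ (hm _ k)
    rw [map_one, Module.End.one_apply, B.repr_self, Finsupp.single_eq_same] at h1
    exact (IsLocalRing.maximalIdeal.isMaximal R).ne_top ((Ideal.eq_top_iff_one _).mpr h1)
  set y : ι' → N := fun i => ψ (E i o) (ψ (E o o) w) with hy
  let g₀ : Module.End R N := B.constr R y
  have hg : ∀ f x, g₀ (f x) = ψ f (g₀ x) := fun f => by
    refine LinearMap.congr_fun (B.ext fun j => ?_ : g₀ ∘ₗ f = (ψ f : Module.End R N) ∘ₗ g₀)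
    have hfj : f * E j o = ∑ i, B.repr (f (B j)) i • E i o := by
      refine B.ext fun s => ?_
      simp only [Module.End.mul_apply, LinearMap.sum_apply, LinearMap.smul_apply, E, LinearMap.smulRight_apply,
        map_smul]
      simp only [smul_comm (B.repr (f (B j)) _), ← Finset.smul_sum, B.sum_repr]
    simp only [LinearMap.comp_apply, g₀, Module.Basis.constr_basis, hy]
    rw [← Module.End.mul_apply (ψ f), ← map_mul, hfj, map_sum, LinearMap.sum_apply]
    conv_lhs => rw [← B.sum_repr (f (B j)), map_sum]
    simp [hy]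
  have hdet : IsUnit (LinearMap.toMatrix B B g₀).det := by
    by_contra hnu
    let π := IsLocalRing.residue R
    have h0 : ((LinearMap.toMatrix B B g₀).map π).det = 0 := by
      rw [← RingHom.mapMatrix_apply, ← RingHom.map_det]
      exact IsLocalRing.residue_eq_zero_iff _ |>.mpr ((IsLocalRing.mem_maximalIdeal _).mpr hnu)
    obtain ⟨c, hc, hc0⟩ := Matrix.exists_mulVec_eq_zero_iff.mpr h0
    choose c' hc' using fun i => IsLocalRing.residue_surjective (c i)
    refine hc (funext fun k => ?_)
    set x := ∑ i, c' i • B i with hx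
    have hgx : ∀ s, π (B.repr (g₀ x) s) = 0 := fun s => by
      have := congrFun hc0 s
      rw [Matrix.mulVec, dotProduct] at this
      rw [hx, map_sum, map_sum, Finsupp.finsetSum_apply, map_sum]
      refine (Finset.sum_congr rfl fun i _ => ?_).trans this
      rw [map_smul, map_smul, Finsupp.smul_apply, smul_eq_mul, map_mul, hc', Matrix.map_apply, LinearMap.toMatrix_apply,
        mul_comm]
    have h2 : g₀ (E o k x) = c' k • g₀ (B o) := by
      simp [hx, E, Finsupp.single_apply]
    have h4 : π (B.repr (c' k • g₀ (B o)) k₀) = 0 := by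
      rw [← h2, hg, ← B.sum_repr (g₀ x), map_sum, map_sum, Finsupp.finsetSum_apply, map_sum]
      refine Finset.sum_eq_zero fun s _ => ?_
      rw [map_smul, map_smul, Finsupp.smul_apply, smul_eq_mul, map_mul, hgx, zero_mul]
    have hgo : g₀ (B o) = ψ (E o o) w := by
      simp only [g₀, Module.Basis.constr_basis, hy]
      rw [← Module.End.mul_apply (ψ (E o o)), ← map_mul, hE, if_pos rfl]
    rw [map_smul, Finsupp.smul_apply, smul_eq_mul, map_mul, hc', hgo] at h4
    exact (mul_eq_zero.mp h4).resolve_right (hk₀.map π).ne_zero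
  exact ⟨LinearEquiv.ofIsUnitDet hdet, fun f x => by simpa using hg f x⟩

end Skolem

include b hn hQ in
/-- Over a local ring every automorphism of the Clifford algebra of a regular even form is inner. -/
theorem exists_inner [IsLocalRing R] (φ : CliffordAlgebra Q ≃ₐ[R] CliffordAlgebra Q) :
    ∃ u : (CliffordAlgebra Q)ˣ, ∀ x, φ x = (u : CliffordAlgebra Q) * x * ↑u⁻¹ := by
  let Φ := AlgEquiv.ofBijective (sandwich Q) (sandwich_bijective b Q hn hQ)
  let ψ : Module.End R (CliffordAlgebra Q) →ₐ[R] Module.End R (CliffordAlgebra Q) :=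
    ((sandwich Q).comp (Algebra.TensorProduct.map φ.toAlgHom (AlgHom.id R _))).comp Φ.symm.toAlgHom
  have hψ : ∀ a c x, ψ (sandwich Q (a ⊗ₜ op c)) x = φ a * x * c := fun a c x => by
    have h1 : Φ.symm (sandwich Q (a ⊗ₜ op c)) = a ⊗ₜ op c := Φ.symm_apply_apply _
    show sandwich Q (Algebra.TensorProduct.map φ.toAlgHom (AlgHom.id R _) (Φ.symm (sandwich Q (a ⊗ₜ op c)))) x = _
    rw [h1]
    simp
  obtain ⟨g, hg⟩ := exists_conj_of_end (cliffBasis b Q) ψ
  have hr : ∀ x, g x = g 1 * x := fun x => by
    have h := hg (sandwich Q (1 ⊗ₜ op x)) 1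
    rw [hψ] at h
    simpa using h
  have hl : ∀ x, g x = φ x * g 1 := fun x => by
    have h := hg (sandwich Q (x ⊗ₜ op 1)) 1
    rw [hψ] at h
    simpa using h
  obtain ⟨w, hw⟩ := g.surjective 1
  rw [hr] at hw
  have hw' : w * g 1 = 1 := g.injective (by rw [hr, ← mul_assoc, hw, one_mul])
  refine ⟨⟨g 1, w, hw, hw'⟩, fun x => ?_⟩
  show φ x = g 1 * x * w
  rw [← hr, hl, mul_assoc, hw, mul_one]

end Groth.Agent.QFormLib
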