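import Groth.Agent.QFormLib.OddRank
import Mathlib.Algebra.DualNumber
import Mathlib.LinearAlgebra.Trace
import Mathlib.LinearAlgebra.TensorProduct.Tower
import Mathlib.LinearAlgebra.Matrix.Charpoly.Coeff

/-! The centralizer of the infinitesimal isometries consists of scalars. -/

namespace Groth.Agent.QFormLib

open Matrix
open scoped TensorProduct

universe u v

variable {R : Type u} [CommRing R] {M : Type v} [AddCommGroup M] [Module R M]

/-- The infinitesimal isometry attached to two vectors. -/
noncomputable def infIso (Q : QuadraticForm R M) (a c : M) : M →ₗ[R] M :=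
  (QuadraticMap.polarBilin Q c).smulRight a - (QuadraticMap.polarBilin Q a).smulRight c

theorem infIso_apply (Q : QuadraticForm R M) (a c v : M) :
    infIso Q a c v = QuadraticMap.polar Q c v • a - QuadraticMap.polar Q a v • c := rfl

theorem polar_infIso (Q : QuadraticForm R M) (a c v : M) : QuadraticMap.polar Q v (infIso Q a c v) = 0 := by
  rw [infIso_apply, QuadraticMap.polar_sub_right, QuadraticMap.polar_smul_right, QuadraticMap.polar_smul_right,
    QuadraticMap.polar_comm Q v a, QuadraticMap.polar_comm Q v c, smul_eq_mul, smul_eq_mul, mul_comm, sub_self]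

theorem trace_infIso {n : ℕ} (b : Module.Basis (Fin n) R M) (Q : QuadraticForm R M) (a c : M) :
    LinearMap.trace R M (infIso Q a c) = 0 := by
  haveI := Module.Free.of_basis b
  haveI := Module.Finite.of_basis b
  rw [infIso, map_sub, LinearMap.trace_smulRight, LinearMap.trace_smulRight, QuadraticMap.polarBilin_apply_apply,
    QuadraticMap.polarBilin_apply_apply, QuadraticMap.polar_comm, sub_self]

section Eps

variable (ε : R) (hε : ε * ε = 0) (Q : QuadraticForm R M) (a c : M)

/-- The isometry `1 + ε X` for a square-zero scalar. -/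
noncomputable def epsIso : M ≃ₗ[R] M :=
  LinearEquiv.ofLinear (LinearMap.id + ε • infIso Q a c) (LinearMap.id - ε • infIso Q a c)
    (LinearMap.ext fun v => by
      simp only [LinearMap.comp_apply, LinearMap.sub_apply, LinearMap.add_apply, LinearMap.id_apply, LinearMap.smul_apply,
        map_sub, map_smul]
      have h0 : (ε * ε) • infIso Q a c (infIso Q a c v) = 0 := by rw [hε, zero_smul]
      linear_combination (norm := module) -h0)
    (LinearMap.ext fun v => by
      simp only [LinearMap.comp_apply, LinearMap.sub_apply, LinearMap.add_apply, LinearMap.id_apply, LinearMap.smul_apply,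
        map_add, map_smul]
      have h0 : (ε * ε) • infIso Q a c (infIso Q a c v) = 0 := by rw [hε, zero_smul]
      linear_combination (norm := module) -h0)

theorem epsIso_apply (v : M) : epsIso ε hε Q a c v = v + ε • infIso Q a c v := rfl

theorem epsIso_mem : epsIso ε hε Q a c ∈ QuadGrp.O Q := fun v => by
  rw [epsIso_apply, QuadraticMap.map_add Q, QuadraticMap.map_smul, QuadraticMap.polar_smul_right, polar_infIso, hε,
    zero_smul, smul_zero, add_zero, add_zero]

theorem det_epsIso {n : ℕ} (b : Module.Basis (Fin n) R M) :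
    LinearMap.det (epsIso ε hε Q a c : M →ₗ[R] M) = 1 := by
  rw [← LinearMap.det_toMatrix b,
    show (epsIso ε hε Q a c : M →ₗ[R] M) = LinearMap.id + ε • infIso Q a c from rfl, map_add, map_smul,
    LinearMap.toMatrix_id, Matrix.det_one_add_smul, ← LinearMap.trace_eq_matrix_trace R b, trace_infIso b, sq, hε]
  simp

end Eps

section Algebraic

variable {n : ℕ} (b : Module.Basis (Fin n) R M) (Q : QuadraticForm R M) (g : M ≃ₗ[R] M)

/-- The commutation identity used throughout. -/
def CommInf : Prop :=
  ∀ a c v, QuadraticMap.polar Q c v • g a - QuadraticMap.polar Q a v • g c =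
    QuadraticMap.polar Q (g.symm c) v • a - QuadraticMap.polar Q (g.symm a) v • c

theorem commInf_iff (hg : g ∈ QuadGrp.O Q) :
    CommInf Q g ↔ ∀ a c v, g (infIso Q a c v) = infIso Q a c (g v) := by
  have hpol : ∀ x v, QuadraticMap.polar Q x (g v) = QuadraticMap.polar Q (g.symm x) v := fun x v => by
    have hp : ∀ p q, QuadraticMap.polar Q (g p) (g q) = QuadraticMap.polar Q p q := fun p q => by
      simp only [QuadraticMap.polar, ← map_add, hg _]
    conv_lhs => rw [← g.apply_symm_apply x]
    exact hp _ _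
  refine forall₃_congr fun a c v => ?_
  rw [infIso_apply, infIso_apply, map_sub, map_smul, map_smul, hpol, hpol]

/-- The matrix entry of `g`. -/
noncomputable def ent (i k : Fin n) : R := b.repr (g (b i)) k

/-- Scalar up to a multiplier. -/
def ScalarUpTo (s : R) : Prop :=
  ∀ i k, i ≠ k → s * ent b g i k = 0 ∧ s * (ent b g i i - b.repr (g.symm (b k)) k) = 0

theorem scalarUpTo_of_full (hn : 3 ≤ n) (h : CommInf Q g) {s : R}
    (hs : ∀ l, ∃ v, ∀ x, QuadraticMap.polar Q x v = s * b.repr x l) : ScalarUpTo b g s := by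
  intro i k hik
  have eq : ∀ i j, i ≠ j → s • g (b i) =
      (s * b.repr (g.symm (b j)) j) • b i - (s * b.repr (g.symm (b i)) j) • b j := fun i j hij => by
    obtain ⟨v, hv⟩ := hs j
    have := h (b i) (b j) v
    simpa [hv, Finsupp.single_apply, hij] using this
  obtain ⟨j, hji, hjk⟩ : ∃ j : Fin n, j ≠ i ∧ j ≠ k := by
    have : ((Finset.univ : Finset (Fin n)) \ {i, k}).Nonempty := by
      rw [← Finset.card_pos, Finset.card_sdiff, Finset.inter_univ, Finset.card_univ, Fintype.card_fin]
      have := Finset.card_le_two (a := i) (b := k)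
      omega
    obtain ⟨j, hj⟩ := this
    exact ⟨j, by simp at hj; exact hj.1, by simp at hj; exact hj.2⟩
  constructor
  · have := congrArg (fun w => b.repr w k) (eq i j (Ne.symm hji))
    simpa [ent, Finsupp.single_apply, hik, hjk] using this
  · have := congrArg (fun w => b.repr w i) (eq i k hik)
    simp [Finsupp.single_apply, hik, Ne.symm hik] at this
    rw [ent, mul_sub, this, sub_self]

theorem scalarUpTo_of_minor (hn : 3 ≤ n) (hg : CommInf Q g) (hg' : CommInf Q g.symm) {s : R} (o : Fin n)
    (y : Fin n → R) (hy : y o = 0)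
    (horth : ∀ j, j ≠ o → QuadraticMap.polar Q (s • b o - ∑ l, y l • b l) (b j) = 0)
    (hs : ∀ l, l ≠ o → ∃ v, QuadraticMap.polar Q (s • b o - ∑ l, y l • b l) v = 0 ∧
      ∀ j, j ≠ o → QuadraticMap.polar Q (b j) v = s * (if j = l then 1 else 0)) :
    ScalarUpTo b g (s ^ 4) := by
  set e := s • b o - ∑ l, y l • b l with he
  let φ : Fin n → M →ₗ[R] R := fun k => if k = o then b.coord o else s • b.coord k + y k • b.coord o
  have φo : φ o = b.coord o := if_pos rfl
  have φk : ∀ k, k ≠ o → φ k = s • b.coord k + y k • b.coord o := fun k hk => if_neg hk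
  have φb : ∀ j, j ≠ o → ∀ k, φ k (b j) = if k = j then (if k = o then 1 else s) else 0 := fun j hj k => by
    by_cases hk : k = o
    · subst hk; rw [φo]; simp [Finsupp.single_apply, hj, Ne.symm hj]
    · rw [φk k hk]; simp [Finsupp.single_apply, hj, hk, eq_comm]
  have φe : ∀ k, φ k e = if k = o then s else 0 := fun k => by
    by_cases hk : k = o
    · subst hk; rw [φo, he]; simp [Finsupp.single_apply, hy]
    · rw [φk k hk, he]; simp [Finsupp.single_apply, hy, hk, Ne.symm hk]; ring
  have key : ∀ G : M ≃ₗ[R] M, CommInf Q G →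
      (∀ i j, i ≠ o → j ≠ o → i ≠ j →
        (∀ k, k ≠ i → k ≠ j → s * φ k (G (b i)) = 0) ∧
        s * (s * φ i (G (b i))) = s * (s * φ j (G.symm (b j))) ∧
        s * φ j (G.symm (b i)) = 0) ∧
      (∀ i, i ≠ o → (∀ k, k ≠ i → k ≠ o → s * φ k (G e) = 0) ∧
        s * (s * φ o (G e)) = s * (s * φ i (G.symm (b i)))) := by
    intro G hG
    have hPv : ∀ l, l ≠ o → ∀ v, QuadraticMap.polar Q e v = 0 →
        (∀ j, j ≠ o → QuadraticMap.polar Q (b j) v = s * (if j = l then 1 else 0)) →
        ∀ x, s * QuadraticMap.polar Q x v = s * φ l x := by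
      intro l hl v hev hv x
      have hbo : s * QuadraticMap.polar Q (b o) v = s * y l := by
        have h2 : QuadraticMap.polar Q (s • b o - ∑ l, y l • b l) v = 0 := hev
        rw [← QuadraticMap.polarBilin_apply_apply, map_sub, map_sum, LinearMap.sub_apply, LinearMap.sum_apply,
          sub_eq_zero] at h2
        simp only [map_smul, LinearMap.smul_apply, QuadraticMap.polarBilin_apply_apply, smul_eq_mul] at h2
        rw [h2, Finset.sum_eq_single l]
        · rw [hv l hl, if_pos rfl]; ring
        · intro j _ hj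
          by_cases hjo : j = o
          · rw [hjo, hy, zero_mul]
          · rw [hv j hjo, if_neg hj, mul_zero, mul_zero]
        · simp
      conv_lhs => rw [← b.sum_repr x, ← QuadraticMap.polarBilin_apply_apply, map_sum, LinearMap.sum_apply,
        Finset.mul_sum, ← Finset.add_sum_erase _ _ (Finset.mem_univ o)]
      simp only [map_smul, LinearMap.smul_apply, QuadraticMap.polarBilin_apply_apply, smul_eq_mul]
      rw [Finset.sum_eq_single l]
      · rw [mul_left_comm, hbo, hv l hl, if_pos rfl, φk l hl]
        simp only [LinearMap.add_apply, LinearMap.smul_apply, Module.Basis.coord_apply, smul_eq_mul]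
        ring
      · intro j hj hjl
        rw [hv j (Finset.ne_of_mem_erase hj), if_neg hjl, mul_zero, mul_zero, mul_zero]
      · intro h; exact absurd (Finset.mem_erase.mpr ⟨hl, Finset.mem_univ l⟩) h
    refine ⟨fun i j hi hj hij => ?_, fun i hi => ?_⟩
    · obtain ⟨v, hev, hv⟩ := hs j hj
      have h1 := hG (b i) (b j) v
      rw [hv j hj, if_pos rfl, hv i hi, if_neg hij, mul_one, mul_zero, zero_smul, sub_zero] at h1
      refine ⟨fun k hki hkj => ?_, ?_, ?_⟩
      · have := congrArg (φ k) h1
        simpa [φb i hi, φb j hj, hki, hkj] using this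
      · have := congrArg (φ i) h1
        simp [φb i hi, φb j hj, hij, hi] at this
        rw [← hPv j hj v hev hv, this]; ring
      · have h2 := hG (b i) e v
        rw [hev, hv i hi, if_neg hij, mul_zero, zero_smul, zero_smul, sub_zero] at h2
        have := congrArg (φ o) h2
        simp [φb i hi, φe, Ne.symm hi] at this
        rw [← hPv j hj v hev hv, ← mul_comm (QuadraticMap.polar Q (G.symm (b i)) v), this]
    · obtain ⟨v, hev, hv⟩ := hs i hi
      have h1 := hG (b i) e v
      rw [hev, hv i hi, if_pos rfl, mul_one, zero_smul, zero_sub] at h1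
      refine ⟨fun k hki hko => ?_, ?_⟩
      · have := congrArg (φ k) h1
        simpa [φb i hi, φe, hki, hko] using this
      · have := congrArg (φ o) h1
        simp [φb i hi, φe, Ne.symm hi] at this
        rw [← hPv i hi v hev hv, this]; ring
  have hG := key g hg
  have hG' := key g.symm hg'
  rw [g.symm_symm] at hG'
  have hex : ∀ i : Fin n, ∃ j, j ≠ o ∧ j ≠ i := fun i => by
    have : ((Finset.univ : Finset (Fin n)) \ {o, i}).Nonempty := by
      rw [← Finset.card_pos, Finset.card_sdiff, Finset.inter_univ, Finset.card_univ, Fintype.card_fin]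
      have := Finset.card_le_two (a := o) (b := i)
      omega
    obtain ⟨j, hj⟩ := this
    exact ⟨j, by simp at hj; exact hj.1, by simp at hj; exact hj.2⟩
  have row0 : ∀ (G : M ≃ₗ[R] M), (∀ i j, i ≠ o → j ≠ o → i ≠ j → ∀ k, k ≠ i → k ≠ j → s * φ k (G (b i)) = 0) →
      ∀ i, i ≠ o → s * b.repr (G (b i)) o = 0 := fun G hGk i hi => by
    obtain ⟨j, hjo, hji⟩ := hex i
    have := hGk i j hi hjo (Ne.symm hji) o (Ne.symm hi) (Ne.symm hjo)
    rwa [φo] at this
  have r0 := row0 g fun i j a b c => (hG.1 i j a b c).1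
  have r0' := row0 g.symm fun i j a b c => (hG'.1 i j a b c).1
  have φdiag : ∀ (G : M ≃ₗ[R] M), (∀ i, i ≠ o → s * b.repr (G (b i)) o = 0) → ∀ i k, i ≠ o → k ≠ o →
      s * φ k (G (b i)) = s * (s * b.repr (G (b i)) k) := fun G hr i k hi hk => by
    rw [φk k hk]
    simp only [LinearMap.add_apply, LinearMap.smul_apply, Module.Basis.coord_apply, smul_eq_mul]
    linear_combination (y k) * hr i hi
  have off : ∀ i k, i ≠ o → k ≠ o → i ≠ k → s * (s * ent b g i k) = 0 := fun i k hi hk hik => by
    rw [ent, ← φdiag g r0 i k hi hk]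
    exact (hG'.1 i k hi hk hik).2.2
  have dd : ∀ i j, i ≠ o → j ≠ o → i ≠ j → s * (s * (s * (ent b g i i - b.repr (g.symm (b j)) j))) = 0 :=
    fun i j hi hj hij => by
      have h2 := (hG.1 i j hi hj hij).2.1
      rw [φdiag g r0 i i hi hi, φdiag g.symm r0' j j hj hj] at h2
      rw [ent]; linear_combination h2
  have dd' : ∀ i j, i ≠ o → j ≠ o → i ≠ j → s * (s * (s * (b.repr (g.symm (b i)) i - ent b g j j))) = 0 :=
    fun i j hi hj hij => by linear_combination -(dd j i hj hi (Ne.symm hij))
  have φoe : s * φ o (g e) = s * (s * ent b g o o) := by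
    rw [φo, he, map_sub, map_sum, map_sub, map_sum, map_smul, map_smul, Module.Basis.coord_apply, smul_eq_mul, mul_sub, ent,
      sub_eq_self, Finset.mul_sum]
    refine Finset.sum_eq_zero fun l _ => ?_
    by_cases hl : l = o
    · simp [hl, hy]
    · rw [map_smul, map_smul, Module.Basis.coord_apply, smul_eq_mul, mul_left_comm, r0 l hl, mul_zero]
  have φoe' : s * φ o (g.symm e) = s * (s * b.repr (g.symm (b o)) o) := by
    rw [φo, he, map_sub, map_sum, map_sub, map_sum, map_smul, map_smul, Module.Basis.coord_apply, smul_eq_mul, mul_sub,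
      sub_eq_self, Finset.mul_sum]
    refine Finset.sum_eq_zero fun l _ => ?_
    by_cases hl : l = o
    · simp [hl, hy]
    · rw [map_smul, map_smul, Module.Basis.coord_apply, smul_eq_mul, mul_left_comm, r0' l hl, mul_zero]
  have od : ∀ i, i ≠ o → s * (s * (s * (ent b g o o - b.repr (g.symm (b i)) i))) = 0 := fun i hi => by
    have h2 := (hG.2 i hi).2
    rw [φoe, φdiag g.symm r0' i i hi hi] at h2
    linear_combination h2
  have od' : ∀ i, i ≠ o → s * (s * (s * (b.repr (g.symm (b o)) o - ent b g i i))) = 0 := fun i hi => by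
    have h2 := (hG'.2 i hi).2
    rw [φoe', φdiag g r0 i i hi hi] at h2
    rw [ent]; linear_combination h2
  intro i k hik
  by_cases hi : i = o
  · rw [hi] at hik ⊢
    have hk : k ≠ o := Ne.symm hik
    refine ⟨?_, by linear_combination s * od k hk⟩
    obtain ⟨j, hjo, hjk⟩ := hex k
    have h2 := (hG.2 j hjo).1 k (Ne.symm hjk) hk
    have h3 := od j hjo
    have h4 := dd k j hk hjo (Ne.symm hjk)
    have hsum : s * φ k (g e) = s * (s * s * ent b g o k) + s * s * (y k * ent b g o o) -
        ∑ l, y l * (s * φ k (g (b l))) := by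
      rw [φk k hk, he, map_sub, map_sum, map_smul]
      simp only [LinearMap.add_apply, LinearMap.smul_apply, map_smul, map_sub, map_sum, Module.Basis.coord_apply,
        smul_eq_mul, Finsupp.smul_apply, Finsupp.sub_apply, Finsupp.finsetSum_apply, Finset.mul_sum, mul_sub, ent,
        mul_add, Finset.sum_add_distrib]
      ring
    have hlast : s * ∑ l, y l * (s * φ k (g (b l))) = y k * (s * (s * (s * ent b g k k))) := by
      rw [Finset.sum_eq_single k]
      · rw [φdiag g r0 k k hk hk, ent]; ring
      · intro l _ hl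
        by_cases hlo : l = o
        · simp [hlo, hy]
        · rw [φdiag g r0 l k hlo hk, ← ent, off l k hlo hk hl, mul_zero]
      · simp
    linear_combination s * h2 - s * hsum + hlast - y k * h3 + y k * h4
  · by_cases hk : k = o
    · rw [hk] at hik ⊢
      refine ⟨?_, by linear_combination -s * od' i hi⟩
      rw [ent]; linear_combination (s * s * s) * r0 i hi
    · exact ⟨by linear_combination (s * s) * off i k hi hk hik, by linear_combination s * dd i k hi hk hik⟩

theorem eq_scalar_of_local (hn : 3 ≤ n) (h : ∀ p : Ideal R, p.IsPrime → ∃ s ∉ p, ScalarUpTo b g s)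
    (h' : ∀ p : Ideal R, p.IsPrime → ∃ s ∉ p, ScalarUpTo b g.symm s) :
    ∃ c : R, c * c = 1 ∧ ∀ v, g v = c • v := by
  have get : ∀ G : M ≃ₗ[R] M, (∀ p : Ideal R, p.IsPrime → ∃ s ∉ p, ScalarUpTo b G s) →
      ∀ i k, i ≠ k → ent b G i k = 0 ∧ ent b G i i - b.repr (G.symm (b k)) k = 0 := fun G hG i k hik =>
    ⟨eq_zero_of_locally fun p hp => (hG p hp).imp fun s hs => ⟨hs.1, (hs.2 i k hik).1⟩,
      eq_zero_of_locally fun p hp => (hG p hp).imp fun s hs => ⟨hs.1, (hs.2 i k hik).2⟩⟩
  let i0 : Fin n := ⟨0, by omega⟩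
  let i1 : Fin n := ⟨1, by omega⟩
  let i2 : Fin n := ⟨2, by omega⟩
  have n01 : i0 ≠ i1 := by simp [i0, i1, Fin.ext_iff]
  have n02 : i0 ≠ i2 := by simp [i0, i2, Fin.ext_iff]
  have n12 : i1 ≠ i2 := by simp [i1, i2, Fin.ext_iff]
  set lam := ent b g i0 i0 with hlam
  have hd' : ∀ k, b.repr (g.symm (b k)) k = lam := fun k => by
    by_cases hk : k = i0
    · subst hk
      have a1 := (get g h i2 i0 (Ne.symm n02)).2
      have a2 := (get g h i2 i1 (Ne.symm n12)).2
      have a3 := (get g h i0 i1 n01).2
      linear_combination -a1 + a2 - a3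
    · exact (sub_eq_zero.mp (get g h i0 k (Ne.symm hk)).2).symm
  have hd : ∀ i, ent b g i i = lam := fun i => by
    obtain ⟨k, hk⟩ : ∃ k, i ≠ k := ⟨if i = i0 then i1 else i0, by
      split_ifs with hc
      · rw [hc]; exact n01
      · exact hc⟩
    rw [sub_eq_zero.mp (get g h i k hk).2, hd']
  have hgb : ∀ i, g (b i) = lam • b i := fun i => b.repr.injective (Finsupp.ext fun k => by
    by_cases hk : i = k
    · subst hk; rw [map_smul, Finsupp.smul_apply, b.repr_self, Finsupp.single_eq_same, smul_eq_mul, mul_one]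
      exact hd i
    · rw [map_smul, Finsupp.smul_apply, b.repr_self, Finsupp.single_eq_of_ne (Ne.symm hk), smul_zero]
      exact (get g h i k hk).1)
  have hgb' : ∀ i, g.symm (b i) = lam • b i := fun i => b.repr.injective (Finsupp.ext fun k => by
    by_cases hk : i = k
    · subst hk; rw [map_smul, Finsupp.smul_apply, b.repr_self, Finsupp.single_eq_same, smul_eq_mul, mul_one]
      exact hd' i
    · rw [map_smul, Finsupp.smul_apply, b.repr_self, Finsupp.single_eq_of_ne (Ne.symm hk), smul_zero]
      exact (get g.symm h' i k hk).1)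
  have hgv : ∀ v, g v = lam • v := fun v =>
    LinearMap.congr_fun (b.ext (f₁ := (g : M →ₗ[R] M)) (f₂ := lam • LinearMap.id) fun i => by simp [hgb]) v
  refine ⟨lam, ?_, hgv⟩
  have := congrArg (fun w => b.repr w i0) (g.apply_symm_apply (b i0))
  simpa [hgb', hgv] using this

include b in
theorem exists_scalar_even (hn : 3 ≤ n) (hQ : QuadGrp.IsRegular Q) (hg : CommInf Q g) (hg' : CommInf Q g.symm) :
    ∃ c : R, c * c = 1 ∧ ∀ v, g v = c • v := by
  have hs : ∀ l, ∃ v, ∀ x, QuadraticMap.polar Q x v = 1 * b.repr x l := fun l => by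
    obtain ⟨v, hv⟩ := hQ.surjective (b.coord l)
    refine ⟨v, fun x => ?_⟩
    rw [one_mul, QuadraticMap.polar_comm, ← QuadraticMap.polarBilin_apply_apply, hv, Module.Basis.coord_apply]
  exact eq_scalar_of_local b g hn
    (fun p hp => ⟨1, fun h1 => hp.ne_top ((Ideal.eq_top_iff_one _).mpr h1), scalarUpTo_of_full b Q g hn hg hs⟩)
    (fun p hp => ⟨1, fun h1 => hp.ne_top ((Ideal.eq_top_iff_one _).mpr h1), scalarUpTo_of_full b Q g.symm hn hg' hs⟩)

theorem exists_scalar_odd {m : ℕ} (b : Module.Basis (Fin (2 * m + 1)) R M) (hm : 3 ≤ 2 * m + 1)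
    (hQ : IsUnit (QuadGrp.halfDisc b (LinearEquiv.refl R R) Q)) (hg : CommInf Q g) (hg' : CommInf Q g.symm) :
    ∃ c : R, c * c = 1 ∧ ∀ v, g v = c • v := by
  haveI := Module.Free.of_basis b
  suffices ∀ p : Ideal R, p.IsPrime → ∃ s ∉ p, ScalarUpTo b g s ∧ ScalarUpTo b g.symm s by
    exact eq_scalar_of_local b g hm (fun p hp => (this p hp).imp fun s hs => ⟨hs.1, hs.2.1⟩)
      (fun p hp => (this p hp).imp fun s hs => ⟨hs.1, hs.2.2⟩)
  intro p hp
  let K := p.ResidueField
  have hh : QuadGrp.halfDisc (b.baseChange K) (LinearEquiv.refl K K) (QuadGrp.baseChangeForm K Q) ≠ 0 := by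
    rw [halfDisc_compat (compat_baseChangeForm K b Q)]
    exact (hQ.map (algebraMap R K)).ne_zero
  have hmap : ∀ {k : ℕ} (f : Fin k → Fin (2 * m + 1)),
      (polMat (fun j => b.baseChange K (f j)) (QuadGrp.baseChangeForm K Q)).det =
        algebraMap R K (polMat (fun j => b (f j)) Q).det := by
    intro k f
    rw [RingHom.map_det]
    congr 1
    ext i j
    exact (compat_baseChangeForm K b Q).polar_all _ _
  have hnot : ∀ s : R, algebraMap R K s ≠ 0 → s ∉ p := fun s hs hsp =>
    hs (Ideal.algebraMap_residueField_eq_zero.mpr hsp)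
  rcases exists_minor_ne_zero (b.baseChange K) _ hh with hd | ⟨o, -, hd⟩
  · rw [hmap (fun j => j)] at hd
    have hs : ∀ l, ∃ v, ∀ x, QuadraticMap.polar Q x v = (polMat b Q).det * b.repr x l := fun l => by
      refine ⟨∑ i, (polMat b Q).adjugate i l • b i, fun x => ?_⟩
      have : (QuadraticMap.polarBilin Q).flip (∑ i, (polMat b Q).adjugate i l • b i) = (polMat b Q).det • b.coord l := by
        refine b.ext fun j => ?_
        have h2 := congrFun (congrFun (Matrix.mul_adjugate (polMat b Q)) j) l
        rw [Matrix.mul_apply, Matrix.smul_apply, Matrix.one_apply] at h2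
        simp only [map_sum, map_smul, LinearMap.sum_apply, LinearMap.flip_apply, QuadraticMap.polarBilin_apply_apply, smul_eq_mul,
          LinearMap.smul_apply, Module.Basis.coord_apply, Module.Basis.repr_self, Finsupp.single_apply]
        refine (Finset.sum_congr rfl fun i _ => ?_).trans (h2.trans ?_)
        · rw [polMat, Matrix.of_apply, mul_comm]
        · simp [eq_comm]
      exact LinearMap.congr_fun this x
    exact ⟨_, hnot _ hd, scalarUpTo_of_full b Q g hm hg hs, scalarUpTo_of_full b Q g.symm hm hg' hs⟩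
  · rw [hmap (fun j => o.succAbove j)] at hd
    set P := polMat (fun j => b (o.succAbove j)) Q with hP
    set s := P.det
    let z := (fun j => QuadraticMap.polar Q (b o) (b (o.succAbove j))) ᵥ* P.adjugate
    let y : Fin (2 * m + 1) → R := Fin.insertNth o 0 z
    have hy : y o = 0 := by simp [y]
    have hsum : ∑ l, y l • b l = ∑ j, z j • b (o.succAbove j) := by
      rw [Fin.sum_univ_succAbove _ o, hy, zero_smul, zero_add]
      simp [y]
    have horth : ∀ j, j ≠ o → QuadraticMap.polar Q (s • b o - ∑ l, y l • b l) (b j) = 0 := by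
      intro j hj
      obtain ⟨j', rfl⟩ := Fin.exists_succAbove_eq hj
      have h2 : z ᵥ* P = s • fun j => QuadraticMap.polar Q (b o) (b (o.succAbove j)) := by
        rw [Matrix.vecMul_vecMul, Matrix.adjugate_mul, Matrix.vecMul_smul, Matrix.vecMul_one]
      have h3 := congrFun h2 j'
      rw [hsum, ← QuadraticMap.polarBilin_apply_apply, map_sub, map_sum, LinearMap.sub_apply, LinearMap.sum_apply]
      simp only [map_smul, LinearMap.smul_apply, QuadraticMap.polarBilin_apply_apply]
      rw [sub_eq_zero]
      simpa [Matrix.vecMul, dotProduct, hP, polMat] using h3.symm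
    have hs : ∀ l, l ≠ o → ∃ v, QuadraticMap.polar Q (s • b o - ∑ l, y l • b l) v = 0 ∧
        ∀ j, j ≠ o → QuadraticMap.polar Q (b j) v = s * (if j = l then 1 else 0) := by
      intro l hl
      obtain ⟨l', rfl⟩ := Fin.exists_succAbove_eq hl
      refine ⟨∑ i, P.adjugate i l' • b (o.succAbove i), ?_, fun j hj => ?_⟩
      · rw [← QuadraticMap.polarBilin_apply_apply, map_sum]
        refine Finset.sum_eq_zero fun i _ => ?_
        rw [map_smul, QuadraticMap.polarBilin_apply_apply, horth _ (Fin.succAbove_ne o i), smul_zero]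
      · obtain ⟨j', rfl⟩ := Fin.exists_succAbove_eq hj
        have h2 := congrFun (congrFun (Matrix.mul_adjugate P) j') l'
        rw [Matrix.mul_apply, Matrix.smul_apply, Matrix.one_apply] at h2
        rw [← QuadraticMap.polarBilin_apply_apply, map_sum]
        simp only [map_smul, QuadraticMap.polarBilin_apply_apply, smul_eq_mul, Fin.succAbove_right_inj]
        refine (Finset.sum_congr rfl fun i _ => ?_).trans h2
        rw [hP, polMat, Matrix.of_apply, mul_comm]
    exact ⟨s ^ 4, fun h4 => hnot _ hd (hp.mem_of_pow_mem 4 h4),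
      scalarUpTo_of_minor b Q g hm hg hg' o y hy horth hs,
      scalarUpTo_of_minor b Q g.symm hm hg' (by rwa [g.symm_symm]) o y hy horth hs⟩

end Algebraic

end Groth.Agent.QFormLib
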