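import Groth.Agent.QFormLib.Centre
import Groth.Agent.QFormLib.EvenLocal

/-! Isometries commuting with all points are scalars. -/

namespace Groth.Agent.QFormLib

open scoped TensorProduct

universe u v

variable {R : Type u} [CommRing R] {M : Type v} [AddCommGroup M] [Module R M] [Module.Free R M]

theorem mem_O_baseChangeForm_iff {A : Type*} [CommRing A] [Algebra R A] (Q : QuadraticForm R M)
    (h : (A ⊗[R] M) ≃ₗ[A] (A ⊗[R] M)) :
    h ∈ QuadGrp.O (QuadGrp.baseChangeForm A Q) ↔ h ∈ QuadGrp.O (QuadGrp.baseChange A Q) := by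
  refine forall_congr' fun v => ?_
  simp only [QuadGrp.baseChangeForm, LinearMap.compQuadraticMap_apply, LinearEquiv.coe_coe,
    EmbeddingLike.apply_eq_iff_eq]

/-- The isometry `1 + ε X` over the dual numbers. -/
noncomputable def dualIso (Q : QuadraticForm R M) (a c : M) :
    (DualNumber R ⊗[R] M) ≃ₗ[DualNumber R] (DualNumber R ⊗[R] M) :=
  epsIso DualNumber.eps DualNumber.eps_mul_eps (QuadGrp.baseChangeForm (DualNumber R) Q) (1 ⊗ₜ a) (1 ⊗ₜ c)

theorem dualIso_mem (Q : QuadraticForm R M) (a c : M) :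
    dualIso Q a c ∈ QuadGrp.O (QuadGrp.baseChangeForm (DualNumber R) Q) :=
  epsIso_mem _ _ _ _ _

theorem det_dualIso {n : ℕ} (b : Module.Basis (Fin n) R M) (Q : QuadraticForm R M) (a c : M) :
    LinearEquiv.det (dualIso Q a c) = 1 := by
  refine Units.ext ?_
  rw [LinearEquiv.coe_det, Units.val_one]
  exact det_epsIso _ _ _ _ _ (b.baseChange (DualNumber R))

theorem polar_baseChangeForm (A : Type*) [CommRing A] [Algebra R A] (Q : QuadraticForm R M) (x y : M) :
    QuadraticMap.polar (QuadGrp.baseChangeForm A Q) (1 ⊗ₜ[R] x) (1 ⊗ₜ[R] y) =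
      algebraMap R A (QuadraticMap.polar Q x y) := by
  simp only [QuadraticMap.polar, ← TensorProduct.tmul_add, baseChangeForm_tmul, one_mul, map_sub]

theorem infIso_baseChange (A : Type*) [CommRing A] [Algebra R A] (Q : QuadraticForm R M) (a c v : M) :
    infIso (QuadGrp.baseChangeForm A Q) (1 ⊗ₜ a) (1 ⊗ₜ c) (1 ⊗ₜ[R] v) = 1 ⊗ₜ[R] infIso Q a c v := by
  rw [infIso_apply, infIso_apply, polar_baseChangeForm, polar_baseChangeForm, algebraMap_smul, algebraMap_smul,
    TensorProduct.tmul_sub, ← TensorProduct.tmul_smul, ← TensorProduct.tmul_smul]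

theorem eq_of_eps_smul {n : ℕ} (b : Module.Basis (Fin n) R M) {p q : M}
    (h : (DualNumber.eps : DualNumber R) • ((1 : DualNumber R) ⊗ₜ[R] p) = (DualNumber.eps : DualNumber R) • ((1 : DualNumber R) ⊗ₜ[R] q)) :
    p = q := by
  refine b.repr.injective (Finsupp.ext fun k => ?_)
  have h2 := congrArg (fun w => TrivSqZeroExt.snd ((b.baseChange (DualNumber R)).repr w k)) h
  simpa [Algebra.smul_def, TrivSqZeroExt.algebraMap_eq_inl] using h2

theorem commInf_of_commute {n : ℕ} (b : Module.Basis (Fin n) R M) (Q : QuadraticForm R M) (g : M ≃ₗ[R] M)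
    (hg : g ∈ QuadGrp.O Q)
    (h : ∀ a c : M, g.baseChange R (DualNumber R) M M * dualIso Q a c = dualIso Q a c * g.baseChange R (DualNumber R) M M) :
    CommInf Q g ∧ CommInf Q g.symm := by
  have key : ∀ a c v, g (infIso Q a c v) = infIso Q a c (g v) := fun a c v => by
    refine eq_of_eps_smul b ?_
    have h2 := LinearEquiv.congr_fun (h a c) (1 ⊗ₜ v)
    simp only [LinearEquiv.mul_apply, dualIso, epsIso_apply, map_add, map_smul, infIso_baseChange,
      LinearEquiv.baseChange_tmul] at h2
    exact add_left_cancel h2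
  refine ⟨(commInf_iff Q g hg).mpr key, (commInf_iff Q g.symm ((QuadGrp.O Q).inv_mem hg)).mpr fun a c v => ?_⟩
  refine g.injective ?_
  rw [g.apply_symm_apply, key, g.apply_symm_apply]

theorem baseChange_eq_smul {A : Type*} [CommRing A] [Algebra R A] (g : M ≃ₗ[R] M) (c : R) (hc : ∀ v, g v = c • v)
    (w : A ⊗[R] M) : g.baseChange R A M M w = c • w := by
  induction w using TensorProduct.induction_on with
  | zero => simp
  | tmul a v => rw [LinearEquiv.baseChange_tmul, hc, TensorProduct.tmul_smul]
  | add x y hx hy => rw [map_add, hx, hy, smul_add]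

theorem commute_of_scalar {A : Type*} [CommRing A] [Algebra R A] (g : M ≃ₗ[R] M) (c : R) (hc : ∀ v, g v = c • v)
    (h : (A ⊗[R] M) ≃ₗ[A] (A ⊗[R] M)) : g.baseChange R A M M * h = h * g.baseChange R A M M := by
  ext w
  simp only [LinearEquiv.mul_apply, baseChange_eq_smul g c hc]
  rw [← algebraMap_smul A c w, map_smul, algebraMap_smul]

theorem exists_scalar {n : ℕ} (hn : 3 ≤ n) (b : Module.Basis (Fin n) R M) (Q : QuadraticForm R M)
    (hQ : QuadGrp.IsNondeg b (LinearEquiv.refl R R) Q) (g : M ≃ₗ[R] M) (hg : g ∈ QuadGrp.O Q)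
    (h : ∀ a c : M, g.baseChange R (DualNumber R) M M * dualIso Q a c = dualIso Q a c * g.baseChange R (DualNumber R) M M) :
    ∃ c : R, c * c = 1 ∧ ∀ v, g v = c • v := by
  obtain ⟨h1, h2⟩ := commInf_of_commute b Q g hg h
  rcases Nat.even_or_odd n with he | ho
  · exact exists_scalar_even b Q g hn (hQ.1 he) h1 h2
  · obtain ⟨m, rfl⟩ := ho
    exact exists_scalar_odd Q g b hn (hQ.2 ⟨m, rfl⟩) h1 h2

omit [Module.Free R M] in
/-- An isometry reducing to the identity modulo a square-zero retraction has trivial Dickson action. -/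
theorem dicksonTrivial_of_retraction {A : Type u} [CommRing A] {N : Type*} [AddCommGroup N] [Module A N] {m : ℕ}
    (hm : 0 < m) (bA : Module.Basis (Fin (2 * m)) A N) (QA : QuadraticForm A N) (hQA : QuadGrp.IsRegular QA)
    (b : Module.Basis (Fin (2 * m)) R M) (Q : QuadraticForm R M) (σ : A →+* R) (hc : Compat σ bA QA b Q)
    (hσ : ∀ e : A, IsIdempotentElem e → σ e = 0 → e = 0)
    (h : N ≃ₗ[A] N) (hh : h ∈ QuadGrp.O QA) (hd1 : LinearMap.det (h : N →ₗ[A] N) = 1)
    (hfix : ∀ i, svec σ bA b (h (bA i)) = b i) : QuadGrp.IsDicksonTrivial QA h hh := by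
  obtain ⟨e, he, hδ, hz⟩ := exists_dickson bA QA rfl hQA hm h hh
  refine (isDicksonTrivial_iff bA QA rfl hQA hm _ hh hδ hz).mpr (hσ e he ?_)
  have hcomp : (cmap hc).comp (CliffordAlgebra.map (QuadGrp.isometryOfMem QA h hh)).toRingHom = cmap hc :=
    ringHom_ext bA (fun r => by simp) fun i => by
      simp [QuadGrp.isometryOfMem_apply, hfix]
  have hσz := RingHom.congr_fun hcomp (zEl bA QA rfl)
  rw [RingHom.comp_apply] at hσz
  change cmap hc (CliffordAlgebra.map (QuadGrp.isometryOfMem QA h hh) (zEl bA QA rfl)) = _ at hσz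
  rw [hz, hd1, one_smul, map_add, cmap_algebraMap, add_eq_right] at hσz
  have hep : σ e * σ (pEl bA QA rfl) = 0 := by
    rw [← map_mul]
    exact algebraMap_injective b Q (hσz.trans (map_zero _).symm)
  rw [hd1] at hδ
  have h2e : (2 : A) * e = 0 := by linear_combination hδ
  have h2σ : 2 * σ e = 0 := by
    have := congrArg σ h2e
    rwa [map_mul, map_ofNat, map_zero] at this
  obtain ⟨q, -, hD⟩ := exists_zEl_sq bA QA (rfl : 2 * m = 2 * m)
  obtain ⟨d, hd⟩ := (((isUnit_neg_one (α := A)).pow m).mul (isUnit_det_polMat bA QA hQA)).map σ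
  rw [hD, map_add, map_mul, map_mul, map_ofNat] at hd
  refine (Units.mul_right_eq_zero d).mp ?_
  rw [hd]
  linear_combination σ (pEl bA QA rfl) * hep + 2 * σ q * h2σ

/-- The dual-number isometries act trivially on the centre of the even part. -/
theorem dualIso_mem_SO {m : ℕ} (hm : 0 < m) (b : Module.Basis (Fin (2 * m)) R M) (Q : QuadraticForm R M)
    (hQ : QuadGrp.IsRegular Q) (a c : M) :
    dualIso Q a c ∈ QuadGrp.SO (QuadGrp.baseChangeForm (DualNumber R) Q) := by
  cases subsingleton_or_nontrivial (DualNumber R) with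
  | inl hs =>
    haveI : Subsingleton (DualNumber R ⊗[R] M) := Module.subsingleton (DualNumber R) _
    rw [show dualIso Q a c = 1 from LinearEquiv.ext fun _ => Subsingleton.elim _ _]
    exact one_mem _
  | inr hs =>
    let bA := b.baseChange (DualNumber R)
    set QA := QuadGrp.baseChangeForm (DualNumber R) Q
    rw [QuadGrp.SO, if_pos (by rw [Module.finrank_eq_card_basis bA, Fintype.card_fin]; exact even_two_mul m)]
    have hdet : IsUnit (polMat bA QA).det := by
      have : polMat bA QA = (algebraMap R (DualNumber R)).mapMatrix (polMat b Q) :=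
        Matrix.ext fun i j => (compat_baseChangeForm (DualNumber R) b Q).polar_all i j
      rw [this, ← RingHom.map_det]
      exact (isUnit_det_polMat b Q hQ).map _
    have hQA : QuadGrp.IsRegular QA := by
      have e : LinearMap.toMatrix bA bA.dualBasis (QuadraticMap.polarBilin QA) = (polMat bA QA).transpose :=
        Matrix.ext fun i j => by
          rw [LinearMap.toMatrix_apply, Module.Basis.dualBasis_repr, Matrix.transpose_apply, polMat, Matrix.of_apply]
          rfl
      have hu : IsUnit (LinearMap.toMatrix bA bA.dualBasis (QuadraticMap.polarBilin QA)).det := by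
        rw [e, Matrix.det_transpose]; exact hdet
      exact (LinearEquiv.ofIsUnitDet hu).bijective
    let σ : DualNumber R →+* R := (TrivSqZeroExt.fstHom R R R).toRingHom
    have hσ : ∀ r : R, σ (algebraMap R (DualNumber R) r) = r := fun r => TrivSqZeroExt.fst_inl R r
    have hc : Compat σ bA QA b Q :=
      { diag := fun i => by
          rw [Module.Basis.baseChange_apply, baseChangeForm_tmul, one_mul, one_mul, hσ]
        polar := fun i j _ => by
          rw [Module.Basis.baseChange_apply, Module.Basis.baseChange_apply, polar_baseChangeForm, hσ] }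
    refine ⟨dualIso_mem Q a c, dicksonTrivial_of_retraction hm bA QA hQA b Q σ hc (fun e he hse => ?_) _ _
      (det_epsIso _ _ _ _ _ bA) fun i => ?_⟩
    · have hfst : TrivSqZeroExt.fst e = 0 := hse
      refine TrivSqZeroExt.ext hfst ?_
      have h2 := congrArg TrivSqZeroExt.snd he.eq
      rw [TrivSqZeroExt.snd_mul, hfst] at h2
      simpa using h2.symm
    · rw [dualIso, epsIso_apply, map_add, map_smulₛₗ]
      have h0 : σ (DualNumber.eps : DualNumber R) = 0 := DualNumber.fst_eps
      rw [h0, zero_smul, add_zero, svec_basis]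

end Groth.Agent.QFormLib
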