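import Mathlib.LinearAlgebra.CliffordAlgebra.Contraction
import Mathlib.LinearAlgebra.CliffordAlgebra.Grading
import Mathlib.LinearAlgebra.CliffordAlgebra.Star
import Mathlib.LinearAlgebra.QuadraticForm.Basis
import Mathlib.Data.Finset.Sort
import Mathlib.LinearAlgebra.Dual.Basis
import Mathlib.Tactic.NoncommRing

/-! A basis of the Clifford algebra of a free module, with contraction calculus. -/

namespace Groth.Agent.QFormLib

open CliffordAlgebra

universe u v

variable {R : Type u} [CommRing R] {M : Type v} [AddCommGroup M] [Module R M] {n : ℕ}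

/-- Moving a vector across an element costs a contraction. -/
theorem ι_mul_sub_involute_mul (Q : QuadraticForm R M) (v : M) (x : CliffordAlgebra Q) :
    ι Q v * x - involute x * ι Q v = contractLeft (QuadraticMap.polarBilin Q v) x := by
  induction x using CliffordAlgebra.left_induction with
  | algebraMap r => rw [contractLeft_algebraMap, AlgHom.commutes, Algebra.commutes, sub_self]
  | add x y hx hy => rw [map_add, map_add, ← hx, ← hy]; noncomm_ring
  | ι_mul x m hx =>
    rw [contractLeft_ι_mul, ← hx, map_mul, involute_ι]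
    have h := ι_mul_ι_add_swap (Q := Q) v m
    rw [QuadraticMap.polarBilin_apply_apply, Algebra.smul_def, ← h]
    noncomm_ring

variable (b : Module.Basis (Fin n) R M) (Q : QuadraticForm R M)

/-- The bilinear lift of `Q` vanishing on `(b i, b j)` for `i < j`. -/
noncomputable def lowerBilin : LinearMap.BilinForm R M := (Q.toBilin b).flip

theorem lowerBilin_apply (i j : Fin n) :
    lowerBilin b Q (b i) (b j) = if j = i then Q (b j) else if j < i then QuadraticMap.polar Q (b j) (b i) else 0 :=
  QuadraticMap.toBilin_apply Q b j i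

theorem lowerBilin_toQuadraticMap : (lowerBilin b Q).toQuadraticMap = Q := by
  ext x
  exact (congrFun (congrArg DFunLike.coe (QuadraticMap.toQuadraticMap_toBilin Q b)) x :)

theorem lowerBilin_aux : (-lowerBilin b Q).toQuadraticMap = 0 - Q := by
  rw [LinearMap.BilinMap.toQuadraticMap_neg, lowerBilin_toQuadraticMap, zero_sub]

/-- The constant term in exterior coordinates. -/
noncomputable def cterm : CliffordAlgebra Q →ₗ[R] R :=
  (ExteriorAlgebra.algebraMapInv (R := R) (M := M)).toLinearMap ∘ₗ changeForm (lowerBilin_aux b Q)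

theorem cterm_algebraMap (r : R) : cterm b Q (algebraMap R _ r) = r := by
  simp only [cterm, LinearMap.comp_apply, changeForm_algebraMap]
  exact ExteriorAlgebra.algebraMap_leftInverse M r

theorem cterm_one : cterm b Q 1 = 1 := by simpa using cterm_algebraMap b Q 1

/-- The ordered product of the basis vectors indexed by `S`. -/
noncomputable def prodE (S : Finset (Fin n)) : CliffordAlgebra Q :=
  ((S.sort (· ≤ ·)).map fun i => ι Q (b i)).prod

theorem prodE_empty : prodE b Q ∅ = 1 := by simp [prodE]

theorem prodE_insert_min {a : Fin n} {S : Finset (Fin n)} (h : ∀ x ∈ S, a < x) :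
    prodE b Q (insert a S) = ι Q (b a) * prodE b Q S := by
  rw [prodE, Finset.sort_insert (r := (· ≤ ·)) (fun x hx => (h x hx).le) (fun hm => lt_irrefl a (h a hm)),
    List.map_cons, List.prod_cons, prodE]

theorem prodE_singleton (i : Fin n) : prodE b Q {i} = ι Q (b i) := by simp [prodE]

theorem changeForm_prodE (S : Finset (Fin n)) :
    changeForm (lowerBilin_aux b Q) (prodE b Q S) = prodE b (0 : QuadraticForm R M) S := by
  induction S using Finset.induction_on_min with
  | empty => rw [prodE_empty, prodE_empty, changeForm_one]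
  | insert a S h ih =>
    rw [prodE_insert_min b Q h, prodE_insert_min b (0 : QuadraticForm R M) h, changeForm_ι_mul, ih, sub_eq_self]
    clear ih
    induction S using Finset.induction_on_min with
    | empty => rw [prodE_empty, contractLeft_one]
    | insert c T hc ih =>
      have hac : a < c := h c (Finset.mem_insert_self c T)
      rw [prodE_insert_min b (0 : QuadraticForm R M) hc, contractLeft_ι_mul,
        ih fun x hx => h x (Finset.mem_insert_of_mem hx), mul_zero, sub_zero, LinearMap.neg_apply, LinearMap.neg_apply,
        lowerBilin_apply, if_neg hac.ne', if_neg hac.not_gt, neg_zero, zero_smul]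

theorem cterm_prodE {S : Finset (Fin n)} (hS : S.Nonempty) : cterm b Q (prodE b Q S) = 0 := by
  induction S using Finset.induction_on_min with
  | empty => exact absurd hS (by simp)
  | insert a T h _ =>
    rw [cterm, LinearMap.comp_apply, changeForm_prodE, prodE_insert_min b (0 : QuadraticForm R M) h,
      AlgHom.toLinearMap_apply, map_mul]
    have h0 : ExteriorAlgebra.algebraMapInv (ι (0 : QuadraticForm R M) (b a)) = 0 := by
      show ExteriorAlgebra.algebraMapInv (ExteriorAlgebra.ι R (b a)) = 0
      simp [ExteriorAlgebra.algebraMapInv]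
    rw [h0, zero_mul]

theorem coord_self (i j : Fin n) : b.coord i (b j) = if j = i then 1 else 0 := by
  rw [Module.Basis.coord_apply, Module.Basis.repr_self, Finsupp.single_apply]

theorem contractLeft_prodE_of_notMem (a : Fin n) (S : Finset (Fin n)) (h : a ∉ S) :
    contractLeft (b.coord a) (prodE b Q S) = 0 := by
  induction S using Finset.induction_on_min with
  | empty => rw [prodE_empty, contractLeft_one]
  | insert c T hc ih =>
    rw [Finset.mem_insert, not_or] at h
    rw [prodE_insert_min b Q hc, contractLeft_ι_mul, ih h.2, coord_self, if_neg (Ne.symm h.1), zero_smul, mul_zero,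
      sub_zero]

theorem contractLeft_prodE_of_mem (a : Fin n) (S : Finset (Fin n)) (h : a ∈ S) :
    ∃ e : R, contractLeft (b.coord a) (prodE b Q S) = e • prodE b Q (S.erase a) ∧
      ((∀ x ∈ S, a ≤ x) → e = 1) := by
  induction S using Finset.induction_on_min with
  | empty => simp at h
  | insert c T hc ih =>
    have hcT : c ∉ T := fun hm => lt_irrefl c (hc c hm)
    rcases Finset.mem_insert.mp h with rfl | haT
    · refine ⟨1, ?_, fun _ => rfl⟩
      rw [prodE_insert_min b Q hc, contractLeft_ι_mul, contractLeft_prodE_of_notMem b Q a T hcT, coord_self, if_pos rfl,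
        mul_zero, sub_zero, Finset.erase_insert hcT]
    · obtain ⟨e, he, -⟩ := ih haT
      refine ⟨-e, ?_, fun hmin => absurd (hmin c (Finset.mem_insert_self c T)) (not_le.mpr (hc a haT))⟩
      rw [prodE_insert_min b Q hc, contractLeft_ι_mul, he, coord_self, if_neg (hc a haT).ne, zero_smul,
        Finset.erase_insert_of_ne (hc a haT).ne,
        prodE_insert_min b Q fun x hx => hc x (Finset.mem_of_mem_erase hx), mul_smul_comm, zero_sub, neg_smul]

/-- Iterated contraction followed by the constant term. -/
noncomputable def coordOfList : List (Fin n) → (CliffordAlgebra Q →ₗ[R] R)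
  | [] => cterm b Q
  | a :: l => coordOfList l ∘ₗ contractLeft (b.coord a)

/-- The coordinate at `S`. -/
noncomputable def κ (S : Finset (Fin n)) : CliffordAlgebra Q →ₗ[R] R := coordOfList b Q (S.sort (· ≤ ·))

theorem κ_empty : κ b Q ∅ = cterm b Q := by simp [κ, coordOfList]

theorem κ_insert_min {a : Fin n} {S : Finset (Fin n)} (h : ∀ x ∈ S, a < x) :
    κ b Q (insert a S) = κ b Q S ∘ₗ contractLeft (b.coord a) := by
  rw [κ, Finset.sort_insert (r := (· ≤ ·)) (fun x hx => (h x hx).le) (fun hm => lt_irrefl a (h a hm))]
  rfl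

theorem κ_prodE (S T : Finset (Fin n)) : κ b Q S (prodE b Q T) = if T = S then 1 else 0 := by
  induction S using Finset.induction_on_min generalizing T with
  | empty =>
    rw [κ_empty]
    rcases T.eq_empty_or_nonempty with rfl | hT
    · rw [prodE_empty, cterm_one, if_pos rfl]
    · rw [cterm_prodE b Q hT, if_neg hT.ne_empty]
  | insert a S h ih =>
    have haS : a ∉ S := fun hm => lt_irrefl a (h a hm)
    rw [κ_insert_min b Q h, LinearMap.comp_apply]
    by_cases haT : a ∈ T
    · obtain ⟨e, he, hmin⟩ := contractLeft_prodE_of_mem b Q a T haT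
      rw [he, map_smul, ih]
      by_cases hTS : T = insert a S
      · rw [if_pos hTS, if_pos (by rw [hTS, Finset.erase_insert haS]), hmin fun x hx => ?_, one_smul]
        rcases Finset.mem_insert.mp (hTS ▸ hx) with rfl | hxS
        exacts [le_rfl, (h x hxS).le]
      · rw [if_neg hTS, if_neg (fun hh => hTS ?_), smul_zero]
        rw [← hh, Finset.insert_erase haT]
    · rw [contractLeft_prodE_of_notMem b Q a T haT, map_zero, if_neg]
      rintro rfl
      exact haT (Finset.mem_insert_self a S)

theorem ι_mul_prodE_mem (i : Fin n) (S : Finset (Fin n)) :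
    ι Q (b i) * prodE b Q S ∈ Submodule.span R (prodE b Q '' {U | U ⊆ insert i S}) := by
  induction S using Finset.induction_on_min with
  | empty =>
    refine Submodule.subset_span ⟨{i}, by simp, ?_⟩
    rw [prodE_singleton, prodE_empty, mul_one]
  | insert a S h ih =>
    rcases lt_trichotomy i a with hia | rfl | hia
    · refine Submodule.subset_span ⟨insert i (insert a S), Finset.Subset.refl _, ?_⟩
      refine prodE_insert_min b Q fun x hx => ?_
      rcases Finset.mem_insert.mp hx with rfl | hxS
      exacts [hia, hia.trans (h x hxS)]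
    · rw [prodE_insert_min b Q h, ← mul_assoc, ι_sq_scalar, ← Algebra.smul_def]
      exact Submodule.smul_mem _ _ (Submodule.subset_span
        ⟨S, (Finset.subset_insert i S).trans (Finset.subset_insert i _), rfl⟩)
    · rw [prodE_insert_min b Q h, ← mul_assoc, ι_mul_ι_comm, sub_mul, ← Algebra.smul_def, mul_assoc]
      refine Submodule.sub_mem _ (Submodule.smul_mem _ _ (Submodule.subset_span
        ⟨S, (Finset.subset_insert a S).trans (Finset.subset_insert i _), rfl⟩)) ?_
      have h2 : ι Q (b a) * (ι Q (b i) * prodE b Q S) ∈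
          (Submodule.span R (prodE b Q '' {U | U ⊆ insert i S})).map (LinearMap.mulLeft R (ι Q (b a))) :=
        ⟨_, ih, rfl⟩
      refine (Submodule.map_span_le _ _ _).mpr ?_ h2
      rintro _ ⟨U, hU, rfl⟩
      refine Submodule.subset_span ⟨insert a U, ?_, ?_⟩
      · exact (Finset.insert_subset_insert a hU).trans (Finset.insert_comm a i S).le
      · refine prodE_insert_min b Q fun x hx => ?_
        rcases Finset.mem_insert.mp (hU hx) with rfl | hxS
        exacts [hia, h x hxS]

theorem span_prodE : Submodule.span R (Set.range (prodE b Q)) = ⊤ := by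
  rw [eq_top_iff]
  rintro x -
  induction x using CliffordAlgebra.left_induction with
  | algebraMap r =>
    rw [Algebra.algebraMap_eq_smul_one, ← prodE_empty b Q]
    exact Submodule.smul_mem _ _ (Submodule.subset_span ⟨∅, rfl⟩)
  | add x y hx hy => exact Submodule.add_mem _ hx hy
  | ι_mul x m hx =>
    rw [← b.sum_repr m, map_sum, Finset.sum_mul]
    refine Submodule.sum_mem _ fun i _ => ?_
    rw [map_smul, smul_mul_assoc]
    refine Submodule.smul_mem _ _ ((Submodule.map_span_le (LinearMap.mulLeft R (ι Q (b i))) _ _).mpr ?_ ⟨x, hx, rfl⟩)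
    rintro _ ⟨S, rfl⟩
    exact Submodule.span_mono (Set.image_subset_range _ _) (ι_mul_prodE_mem b Q i S)

/-- The ordered products form a basis of the Clifford algebra. -/
noncomputable def cliffBasis : Module.Basis (Finset (Fin n)) R (CliffordAlgebra Q) :=
  Module.Basis.mk (v := prodE b Q)
    (Fintype.linearIndependent_iff.mpr fun g hg S => by
      have := congrArg (κ b Q S) hg
      simpa [κ_prodE] using this)
    (span_prodE b Q).ge

theorem cliffBasis_apply (S : Finset (Fin n)) : cliffBasis b Q S = prodE b Q S := by
  rw [cliffBasis, Module.Basis.mk_apply]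

theorem cliffBasis_repr (x : CliffordAlgebra Q) (S : Finset (Fin n)) : (cliffBasis b Q).repr x S = κ b Q S x := by
  have h : (cliffBasis b Q).coord S = κ b Q S := (cliffBasis b Q).ext fun T => by
    rw [Module.Basis.coord_apply, Module.Basis.repr_self, cliffBasis_apply, κ_prodE, Finsupp.single_apply]
  exact congrFun (congrArg DFunLike.coe h) x

theorem eq_sum_κ (x : CliffordAlgebra Q) : x = ∑ S, κ b Q S x • prodE b Q S := by
  conv_lhs => rw [← (cliffBasis b Q).sum_repr x]
  exact Finset.sum_congr rfl fun S _ => by rw [cliffBasis_repr, cliffBasis_apply]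

theorem eq_of_κ {x y : CliffordAlgebra Q} (h : ∀ S, κ b Q S x = κ b Q S y) : x = y := by
  rw [eq_sum_κ b Q x, eq_sum_κ b Q y]
  exact Finset.sum_congr rfl fun S _ => by rw [h]

include b in
theorem free_clifford : Module.Free R (CliffordAlgebra Q) := Module.Free.of_basis (cliffBasis b Q)

include b in
theorem finite_clifford : Module.Finite R (CliffordAlgebra Q) := Module.Finite.of_basis (cliffBasis b Q)

include b in
theorem algebraMap_injective : Function.Injective (algebraMap R (CliffordAlgebra Q)) := fun r s h => by
  simpa [cterm_algebraMap] using congrArg (cterm b Q) h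

theorem κ_algebraMap {S : Finset (Fin n)} (hS : S.Nonempty) (r : R) : κ b Q S (algebraMap R _ r) = 0 := by
  rw [Algebra.algebraMap_eq_smul_one, ← prodE_empty b Q, map_smul, κ_prodE, if_neg (Ne.symm hS.ne_empty), smul_zero]

theorem eq_algebraMap_of_κ {x : CliffordAlgebra Q} (h : ∀ S : Finset (Fin n), S.Nonempty → κ b Q S x = 0) :
    x = algebraMap R _ (cterm b Q x) := by
  refine eq_of_κ b Q fun S => ?_
  rcases S.eq_empty_or_nonempty with rfl | hS
  · rw [κ_empty, cterm_algebraMap]
  · rw [h S hS, κ_algebraMap b Q hS]

theorem κ_eq_zero_of_contractLeft {x : CliffordAlgebra Q} (h : ∀ a, contractLeft (b.coord a) x = 0)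
    {S : Finset (Fin n)} (hS : S.Nonempty) : κ b Q S x = 0 := by
  induction S using Finset.induction_on_min with
  | empty => exact absurd hS (by simp)
  | insert a T hT _ => rw [κ_insert_min b Q hT, LinearMap.comp_apply, h, map_zero]

theorem eq_algebraMap_of_contractLeft {x : CliffordAlgebra Q} (h : ∀ a, contractLeft (b.coord a) x = 0) :
    x = algebraMap R _ (cterm b Q x) :=
  eq_algebraMap_of_κ b Q fun _ hS => κ_eq_zero_of_contractLeft b Q h hS

theorem κ_eq_zero_of_contractLeft₂ (r : R) {x : CliffordAlgebra Q}
    (h : ∀ a c, r • contractLeft (b.coord a) (contractLeft (b.coord c) x) = 0)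
    {S : Finset (Fin n)} (hS : 2 ≤ S.card) : r * κ b Q S x = 0 := by
  induction S using Finset.induction_on_min with
  | empty => simp at hS
  | insert a T hT _ =>
    rw [κ_insert_min b Q hT, LinearMap.comp_apply]
    induction T using Finset.induction_on_min with
    | empty => simp at hS
    | insert c U hU _ =>
      rw [κ_insert_min b Q hU, LinearMap.comp_apply, ← smul_eq_mul, ← map_smul, h, map_zero]

theorem prodE_mem_evenOdd (S : Finset (Fin n)) : prodE b Q S ∈ evenOdd Q (S.card : ZMod 2) := by
  induction S using Finset.induction_on_min with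
  | empty => rw [prodE_empty, Finset.card_empty, Nat.cast_zero]; exact SetLike.one_mem_graded _
  | insert a T h ih =>
    rw [prodE_insert_min b Q h, Finset.card_insert_of_notMem fun hm => lt_irrefl a (h a hm), Nat.cast_add, Nat.cast_one,
      add_comm]
    exact SetLike.mul_mem_graded (ι_mem_evenOdd_one Q _) ih

theorem κ_eq_zero_of_parity {i : ZMod 2} {x : CliffordAlgebra Q} (hx : x ∈ evenOdd Q i) {S : Finset (Fin n)}
    (hS : (S.card : ZMod 2) ≠ i) : κ b Q S x = 0 := by
  classical
  set y : CliffordAlgebra Q :=
    ∑ T ∈ Finset.univ.filter (fun T : Finset (Fin n) => (T.card : ZMod 2) = i), κ b Q T x • prodE b Q T with hy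
  set z : CliffordAlgebra Q :=
    ∑ T ∈ Finset.univ.filter (fun T : Finset (Fin n) => ¬(T.card : ZMod 2) = i), κ b Q T x • prodE b Q T with hz
  have hsum : y + z = x := (Finset.sum_filter_add_sum_filter_not _ _ _).trans (eq_sum_κ b Q x).symm
  have hyi : y ∈ evenOdd Q i := Submodule.sum_mem _ fun T hT => Submodule.smul_mem _ _
    ((Finset.mem_filter.mp hT).2 ▸ prodE_mem_evenOdd b Q T)
  have hzi : z ∈ evenOdd Q i := by
    rw [show z = x - y by rw [← hsum, add_sub_cancel_left]]
    exact Submodule.sub_mem _ hx hyi
  have hzj : z ∈ evenOdd Q (i + 1) := Submodule.sum_mem _ fun T hT => Submodule.smul_mem _ _ (by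
    have hne := (Finset.mem_filter.mp hT).2
    have heq : (T.card : ZMod 2) = i + 1 :=
      (by decide : ∀ c i : ZMod 2, ¬c = i → c = i + 1) _ _ hne
    exact heq ▸ prodE_mem_evenOdd b Q T)
  have hz0 : z = 0 := by
    refine Submodule.disjoint_def.mp ?_ z hzi hzj
    have := (evenOdd_isCompl Q).disjoint
    fin_cases i
    exacts [this, this.symm]
  have := congrArg (κ b Q S) hz0
  rw [hz, map_sum, map_zero] at this
  simpa [κ_prodE, Finset.sum_ite_eq', hS] using this

include b in
theorem ι_injective : Function.Injective (ι Q) := by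
  rw [← LinearMap.ker_eq_bot, LinearMap.ker_eq_bot']
  intro v hv
  refine b.forall_coord_eq_zero_iff.mp fun i => ?_
  have h := congrArg (κ b Q {i}) hv
  rw [← b.sum_repr v, map_sum, map_sum, map_zero] at h
  simpa [map_smul, ← prodE_singleton b Q, κ_prodE] using h

include b in
theorem exists_isCompl_range_ι : ∃ W : Submodule R (CliffordAlgebra Q), IsCompl (LinearMap.range (ι Q)) W := by
  let p : CliffordAlgebra Q →ₗ[R] M := ∑ i : Fin n, (κ b Q {i}).smulRight (b i)
  have hp : p ∘ₗ ι Q = LinearMap.id := b.ext fun j => by
    simp [p, ← prodE_singleton b Q, κ_prodE, Finset.sum_apply]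
  refine ⟨LinearMap.ker p, ⟨Submodule.disjoint_def.mpr ?_, codisjoint_iff.mpr (eq_top_iff.mpr fun x _ => ?_)⟩⟩
  · rintro _ ⟨v, rfl⟩ hv
    have : v = 0 := (congrFun (congrArg DFunLike.coe hp) v).symm.trans hv
    rw [this, map_zero]
  · refine Submodule.mem_sup.mpr ⟨ι Q (p x), ⟨_, rfl⟩, x - ι Q (p x), ?_, add_sub_cancel _ _⟩
    rw [LinearMap.mem_ker, map_sub, show p (ι Q (p x)) = p x from congrFun (congrArg DFunLike.coe hp) (p x), sub_self]

/-- Contraction by an arbitrary functional. -/
theorem contractLeft_eq_sum (d : Module.Dual R M) (x : CliffordAlgebra Q) :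
    contractLeft d x = ∑ i, d (b i) • contractLeft (b.coord i) x := by
  conv_lhs => rw [← b.sum_dual_apply_smul_coord d]
  rw [map_sum, LinearMap.sum_apply]
  simp [LinearMap.smul_apply]

end Groth.Agent.QFormLib
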