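import Groth.Agent.QFormLib.CliffBasis

/-! Semilinear functoriality of the Clifford algebra in the coefficients. -/

namespace Groth.Agent.QFormLib

open CliffordAlgebra

universe u v u' v'

variable {R : Type u} [CommRing R] {M : Type v} [AddCommGroup M] [Module R M] {n : ℕ}
variable {S : Type u'} [CommRing S] {N : Type v'} [AddCommGroup N] [Module S N]

/-- The family `c` has the coefficients of `Q` at `b` pushed forward along `σ`. -/
structure Compat (σ : R →+* S) (b : Module.Basis (Fin n) R M) (Q : QuadraticForm R M) (c : Fin n → N)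
    (Q' : QuadraticForm S N) : Prop where
  diag : ∀ i, Q' (c i) = σ (Q (b i))
  polar : ∀ i j, i ≠ j → QuadraticMap.polar Q' (c i) (c j) = σ (QuadraticMap.polar Q (b i) (b j))

variable {σ : R →+* S} {b : Module.Basis (Fin n) R M} {Q : QuadraticForm R M} {c : Fin n → N}
  {Q' : QuadraticForm S N}

/-- The semilinear map on vectors. -/
noncomputable def svec (σ : R →+* S) (b : Module.Basis (Fin n) R M) (c : Fin n → N) : M →ₛₗ[σ] N where
  toFun x := ∑ i, σ (b.repr x i) • c i
  map_add' x y := by simp [add_smul, Finset.sum_add_distrib]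
  map_smul' r x := by simp [Finset.smul_sum, smul_smul]

theorem svec_apply (x : M) : svec σ b c x = ∑ i, σ (b.repr x i) • c i := rfl

@[simp]
theorem svec_basis (i : Fin n) : svec σ b c (b i) = c i := by
  rw [svec_apply, Finset.sum_eq_single i (fun j _ hj => by simp [hj.symm]) (by simp)]
  simp

theorem Compat.polar_all (h : Compat σ b Q c Q') (i j : Fin n) :
    QuadraticMap.polar Q' (c i) (c j) = σ (QuadraticMap.polar Q (b i) (b j)) := by
  by_cases hij : i = j
  · subst hij; rw [QuadraticMap.polar_self, QuadraticMap.polar_self, h.diag, map_nsmul]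
  · exact h.polar i j hij

theorem Compat.map_form (h : Compat σ b Q c Q') (x : M) : Q' (svec σ b c x) = σ (Q x) := by
  conv_rhs => rw [← b.sum_repr x]
  rw [svec_apply, QuadraticMap.map_sum, QuadraticMap.map_sum, map_add, map_sum, map_sum]
  congr 1
  · exact Finset.sum_congr rfl fun i _ => by
      rw [QuadraticMap.map_smul, QuadraticMap.map_smul, h.diag, smul_eq_mul, smul_eq_mul, map_mul, map_mul]
  · refine Finset.sum_congr rfl fun s _ => ?_
    induction s using Sym2.inductionOn with
    | hf i j =>
      simp only [QuadraticMap.polarSym2_sym2Mk, Sym2.map_mk]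
      rw [QuadraticMap.polar_smul_left, QuadraticMap.polar_smul_right, QuadraticMap.polar_smul_left,
        QuadraticMap.polar_smul_right, h.polar_all]
      simp only [smul_eq_mul, map_mul]

theorem Compat.polar_svec (h : Compat σ b Q c Q') (x y : M) :
    QuadraticMap.polar Q' (svec σ b c x) (svec σ b c y) = σ (QuadraticMap.polar Q x y) := by
  simp only [QuadraticMap.polar, ← map_add, h.map_form, map_sub]

/-- The `R`-algebra structure on the target through `σ`. -/
@[reducible] noncomputable def algOver (σ : R →+* S) (Q' : QuadraticForm S N) : Algebra R (CliffordAlgebra Q') :=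
  ((algebraMap S (CliffordAlgebra Q')).comp σ).toAlgebra' fun r x => Algebra.commutes (σ r) x

/-- The ring map of Clifford algebras induced by a compatible family. -/
noncomputable def cmap (h : Compat σ b Q c Q') : CliffordAlgebra Q →+* CliffordAlgebra Q' :=
  letI := algOver σ Q'
  let L : M →ₗ[R] CliffordAlgebra Q' :=
    { toFun := fun x => ι Q' (svec σ b c x)
      map_add' := fun x y => by rw [map_add, map_add]
      map_smul' := fun r x => by
        rw [map_smulₛₗ, map_smul, RingHom.id_apply, Algebra.smul_def r, Algebra.smul_def (σ r)]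
        rfl }
  (CliffordAlgebra.lift Q ⟨L, fun x => by
    show ι Q' (svec σ b c x) * ι Q' (svec σ b c x) = algebraMap S (CliffordAlgebra Q') (σ (Q x))
    rw [ι_sq_scalar, h.map_form]⟩).toRingHom

variable (h : Compat σ b Q c Q')

@[simp]
theorem cmap_algebraMap (r : R) : cmap h (algebraMap R _ r) = algebraMap S _ (σ r) := by
  letI := algOver σ Q'
  exact AlgHom.commutes _ r

@[simp]
theorem cmap_ι (x : M) : cmap h (ι Q x) = ι Q' (svec σ b c x) := by
  letI := algOver σ Q'
  exact CliffordAlgebra.lift_ι_apply _ _ x

theorem cmap_ι_basis (i : Fin n) : cmap h (ι Q (b i)) = ι Q' (c i) := by rw [cmap_ι, svec_basis]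

theorem cmap_smul (r : R) (x : CliffordAlgebra Q) : cmap h (r • x) = σ r • cmap h x := by
  rw [Algebra.smul_def, map_mul, cmap_algebraMap, Algebra.smul_def]

/-- Two ring maps out of the Clifford algebra agree as soon as they agree on scalars and basis vectors. -/
theorem ringHom_ext {A : Type*} [Ring A] {f g : CliffordAlgebra Q →+* A} (b : Module.Basis (Fin n) R M)
    (h0 : ∀ r : R, f (algebraMap R _ r) = g (algebraMap R _ r)) (h1 : ∀ i, f (ι Q (b i)) = g (ι Q (b i))) :
    f = g := by
  refine RingHom.ext fun x => ?_
  induction x using CliffordAlgebra.induction with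
  | algebraMap r => exact h0 r
  | ι v =>
    rw [← b.sum_repr v, map_sum, map_sum, map_sum]
    refine Finset.sum_congr rfl fun i _ => ?_
    rw [map_smul, Algebra.smul_def, map_mul, map_mul, h0, h1]
  | mul x y hx hy => rw [map_mul, map_mul, hx, hy]
  | add x y hx hy => rw [map_add, map_add, hx, hy]

theorem cmap_involute (x : CliffordAlgebra Q) : cmap h (involute x) = involute (cmap h x) := by
  induction x using CliffordAlgebra.induction with
  | algebraMap r => simp
  | ι v => simp
  | mul x y hx hy => simp [hx, hy]
  | add x y hx hy => simp [hx, hy]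

theorem cmap_star (x : CliffordAlgebra Q) : cmap h (star x) = star (cmap h x) := by
  induction x using CliffordAlgebra.induction with
  | algebraMap r => simp [CliffordAlgebra.star_algebraMap]
  | ι v => simp [CliffordAlgebra.star_ι]
  | mul x y hx hy => simp [hx, hy]
  | add x y hx hy => simp [hx, hy]

theorem cmap_mem_evenOdd {i : ZMod 2} {x : CliffordAlgebra Q} (hx : x ∈ evenOdd Q i) :
    cmap h x ∈ evenOdd Q' i := by
  induction x, hx using CliffordAlgebra.evenOdd_induction with
  | range_ι_pow v hv =>
    rcases (by decide : ∀ j : ZMod 2, j = 0 ∨ j = 1) i with rfl | rfl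
    · rw [ZMod.val_zero, pow_zero] at hv
      obtain ⟨r, rfl⟩ := Submodule.mem_one.mp hv
      rw [cmap_algebraMap]
      exact SetLike.algebraMap_mem_graded _ _
    · rw [ZMod.val_one, pow_one] at hv
      obtain ⟨m, rfl⟩ := hv
      rw [cmap_ι]
      exact ι_mem_evenOdd_one _ _
  | add x y hx hy ihx ihy => rw [map_add]; exact Submodule.add_mem _ ihx ihy
  | ι_mul_ι_mul m₁ m₂ x hx ih =>
    rw [map_mul, map_mul, cmap_ι, cmap_ι]
    exact zero_add i ▸ SetLike.mul_mem_graded (ι_mul_ι_mem_evenOdd_zero _ _ _) ih

theorem cmap_contractLeft (d : Module.Dual R M) (d' : Module.Dual S N) (hd : ∀ i, d' (c i) = σ (d (b i)))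
    (x : CliffordAlgebra Q) : cmap h (contractLeft d x) = contractLeft d' (cmap h x) := by
  have hdx : ∀ v, d' (svec σ b c v) = σ (d v) := fun v => by
    conv_rhs => rw [← b.sum_repr v]
    rw [svec_apply, map_sum, map_sum, map_sum]
    exact Finset.sum_congr rfl fun i _ => by simp [hd]
  induction x using CliffordAlgebra.left_induction with
  | algebraMap r => simp
  | add x y hx hy => simp [map_add, hx, hy]
  | ι_mul x v hx =>
    rw [contractLeft_ι_mul, map_sub, cmap_smul, map_mul, map_mul, cmap_ι, hx, contractLeft_ι_mul, hdx]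

section Basis

variable {c' : Module.Basis (Fin n) S N} (h' : Compat σ b Q c' Q')

theorem cmap_prodE (T : Finset (Fin n)) : cmap h' (prodE b Q T) = prodE c' Q' T := by
  simp only [prodE, map_list_prod, List.map_map]
  congr 1
  exact List.map_congr_left fun i _ => by simp

theorem κ_cmap (T : Finset (Fin n)) (x : CliffordAlgebra Q) : κ c' Q' T (cmap h' x) = σ (κ b Q T x) := by
  conv_lhs => rw [eq_sum_κ b Q x, map_sum, map_sum]
  simp [cmap_smul, cmap_prodE, κ_prodE]

theorem cmap_injective (hσ : Function.Injective σ) : Function.Injective (cmap h') := fun x y hxy =>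
  eq_of_κ b Q fun T => hσ (by rw [← κ_cmap h', ← κ_cmap h', hxy])

theorem cmap_surjective (hσ : Function.Surjective σ) : Function.Surjective (cmap h') := fun y => by
  choose r hr using fun T => hσ (κ c' Q' T y)
  refine ⟨∑ T, r T • prodE b Q T, eq_of_κ c' Q' fun T => ?_⟩
  rw [κ_cmap, map_sum]
  simp [κ_prodE, hr]

end Basis

end Groth.Agent.QFormLib
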