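import Groth.Prelude.Def_QuadGrp
import Mathlib.GroupTheory.Perm.Cycle.Type
import Mathlib.LinearAlgebra.Matrix.SesquilinearForm
import Mathlib.RingTheory.MvPolynomial.Basic
import Mathlib.RingTheory.ZMod

/-! The half-discriminant of a quadratic form of odd rank and its invariance. -/

set_option linter.unusedSectionVars false

namespace Groth.Agent.QFormLib

open Matrix

universe u v w

/-- A symmetric matrix with zero diagonal and of odd size is singular in characteristic two. -/
theorem det_eq_zero_of_two {R : Type u} [CommRing R] [CharP R 2] {n : Type v} [Fintype n] [DecidableEq n]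
    (hn : Odd (Fintype.card n)) {M : Matrix n n R} (hsym : ∀ i j, M i j = M j i) (hdiag : ∀ i, M i i = 0) :
    M.det = 0 := by
  rw [Matrix.det_apply']
  refine Finset.sum_involution (fun σ _ => σ⁻¹) (fun σ _ => ?_) (fun σ _ hne he => ?_) (fun σ _ => Finset.mem_univ _)
    (fun σ _ => inv_inv σ)
  · have hp : ∏ i, M (σ⁻¹ i) i = ∏ i, M (σ i) i := by
      rw [← Equiv.prod_comp σ (fun i => M (σ⁻¹ i) i)]
      exact Finset.prod_congr rfl fun i _ => by rw [show σ⁻¹ (σ i) = i from σ.symm_apply_apply i, hsym]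
    rw [Equiv.Perm.sign_inv, hp]
    exact CharTwo.add_self_eq_zero _
  · haveI : Fact (Nat.Prime 2) := ⟨Nat.prime_two⟩
    obtain ⟨a, ha⟩ := Equiv.Perm.exists_fixed_point_of_prime (p := 2) (n := 1)
      (fun h => (Nat.not_even_iff_odd.mpr hn) (even_iff_two_dvd.mpr h)) (σ := σ) (by
        rw [pow_one, pow_two]
        nth_rw 1 [← he]
        exact inv_mul_cancel σ)
    refine hne ?_
    rw [Finset.prod_eq_zero (Finset.mem_univ a) (by rw [ha, hdiag]), mul_zero]

section Table

variable {R : Type u} [CommRing R] {S : Type w} [CommRing S] {n : ℕ}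

/-- The coefficient table of the quadratic form `x ↦ xᵀ B x`. -/
def tbl (B : Matrix (Fin n) (Fin n) R) : Sym2 (Fin n) → R :=
  Sym2.lift ⟨fun i j => if i = j then B i i else B i j + B j i, fun i j => by
    show (if i = j then B i i else B i j + B j i) = if j = i then B j j else B j i + B i j
    by_cases h : i = j
    · subst h; rfl
    · rw [if_neg h, if_neg (Ne.symm h), add_comm]⟩

theorem tbl_mk (B : Matrix (Fin n) (Fin n) R) (i j : Fin n) :
    tbl B (Sym2.mk i j) = if i = j then B i i else B i j + B j i := rfl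

theorem tbl_map (φ : R →+* S) (B : Matrix (Fin n) (Fin n) R) : tbl (B.map φ) = fun s => φ (tbl B s) := by
  funext s
  induction s using Sym2.inductionOn with
  | hf i j => rw [tbl_mk, tbl_mk]; split_ifs <;> simp

/-- The half-discriminant of `x ↦ xᵀ B x`. -/
noncomputable def hd (B : Matrix (Fin n) (Fin n) R) : R :=
  MvPolynomial.eval₂ (Int.castRingHom R) (tbl B) (QuadGrp.halfDiscUniv n)

theorem hd_map (φ : R →+* S) (B : Matrix (Fin n) (Fin n) R) : hd (B.map φ) = φ (hd B) := by
  rw [hd, hd, tbl_map]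
  refine Eq.trans ?_ (MvPolynomial.eval₂_comp_left φ (Int.castRingHom R) (tbl B) (QuadGrp.halfDiscUniv n)).symm
  congr 1
  exact RingHom.ext_int _ _

theorem eval_univPolarMat (B : Matrix (Fin n) (Fin n) R) :
    (QuadGrp.univPolarMat n).map (MvPolynomial.eval₂Hom (Int.castRingHom R) (tbl B)) = B + Bᵀ := by
  ext i j
  simp only [Matrix.map_apply, QuadGrp.univPolarMat, Matrix.of_apply, Matrix.add_apply, Matrix.transpose_apply]
  split_ifs with h
  · subst h; simp [tbl_mk, two_mul]
  · simp [tbl_mk, h]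

theorem two_mul_halfDiscUniv (hn : Odd n) : 2 * QuadGrp.halfDiscUniv n = QuadGrp.discUniv n := by
  have h : MvPolynomial.map (Int.castRingHom (ZMod 2)) (QuadGrp.discUniv n) = 0 := by
    rw [QuadGrp.discUniv, RingHom.map_det]
    haveI : CharP (MvPolynomial (Sym2 (Fin n)) (ZMod 2)) 2 := inferInstance
    refine det_eq_zero_of_two (by simpa using hn) (fun i j => ?_) fun i => ?_
    · simp only [RingHom.mapMatrix_apply, Matrix.map_apply, QuadGrp.univPolarMat, Matrix.of_apply]
      by_cases h : i = j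
      · rw [h]
      · rw [if_neg h, if_neg (Ne.symm h), Sym2.eq_swap]
    · simp only [RingHom.mapMatrix_apply, Matrix.map_apply, QuadGrp.univPolarMat, Matrix.of_apply, if_true, map_mul,
        map_ofNat]
      rw [CharTwo.two_eq_zero (R := MvPolynomial (Sym2 (Fin n)) (ZMod 2)), zero_mul]
  ext s
  have h2 := congrArg (MvPolynomial.coeff s) h
  rw [MvPolynomial.coeff_map, MvPolynomial.coeff_zero, eq_intCast, ZMod.intCast_zmod_eq_zero_iff_dvd] at h2
  rw [show (2 : MvPolynomial (Sym2 (Fin n)) ℤ) = MvPolynomial.C 2 from (map_ofNat MvPolynomial.C 2).symm,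
    MvPolynomial.coeff_C_mul, QuadGrp.coeff_halfDiscUniv]
  exact Int.mul_ediv_cancel' (by simpa using h2)

theorem two_mul_hd (hn : Odd n) (B : Matrix (Fin n) (Fin n) R) : 2 * hd B = (B + Bᵀ).det := by
  rw [← eval_univPolarMat, ← RingHom.mapMatrix_apply, ← RingHom.map_det, ← QuadGrp.discUniv,
    ← two_mul_halfDiscUniv hn, map_mul, map_ofNat]
  rfl

theorem hd_conj (hn : Odd n) (B G : Matrix (Fin n) (Fin n) R) : hd (Gᵀ * B * G) = G.det ^ 2 * hd B := by
  let U := MvPolynomial ((Fin n × Fin n) ⊕ (Fin n × Fin n)) ℤ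
  let B₀ : Matrix (Fin n) (Fin n) U := Matrix.of fun i j => MvPolynomial.X (Sum.inl (i, j))
  let G₀ : Matrix (Fin n) (Fin n) U := Matrix.of fun i j => MvPolynomial.X (Sum.inr (i, j))
  let φ : U →+* R := MvPolynomial.eval₂Hom (Int.castRingHom R) (Sum.elim (fun x => B x.1 x.2) fun x => G x.1 x.2)
  have hU : hd (G₀ᵀ * B₀ * G₀) = G₀.det ^ 2 * hd B₀ := by
    refine mul_left_cancel₀ (two_ne_zero (α := U)) ?_
    rw [two_mul_hd hn, mul_left_comm, two_mul_hd hn, show G₀ᵀ * B₀ * G₀ + (G₀ᵀ * B₀ * G₀)ᵀ = G₀ᵀ * (B₀ + B₀ᵀ) * G₀ by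
      simp [Matrix.transpose_mul, Matrix.mul_add, Matrix.add_mul, Matrix.mul_assoc], Matrix.det_mul, Matrix.det_mul,
      Matrix.det_transpose]
    ring
  have hB : B₀.map φ = B := by ext i j; exact MvPolynomial.eval₂Hom_X' _ _ _
  have hG : G₀.map φ = G := by ext i j; exact MvPolynomial.eval₂Hom_X' _ _ _
  have h := congrArg φ hU
  rw [← hd_map, map_mul, map_pow, RingHom.map_det, RingHom.mapMatrix_apply, ← hd_map, Matrix.map_mul, Matrix.map_mul,
    Matrix.transpose_map, hB, hG] at h
  exact h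

end Table

section Form

variable {R : Type u} [CommRing R] {M : Type v} [AddCommGroup M] [Module R M] {n : ℕ}

/-- Any bilinear lift computes the coefficients. -/
theorem coeffs_eq_tbl (b : Module.Basis (Fin n) R M) (Q : QuadraticForm R M) (β : LinearMap.BilinMap R M R)
    (hβ : β.toQuadraticMap = Q) :
    QuadGrp.coeffs b (LinearEquiv.refl R R) Q = tbl (LinearMap.toMatrix₂ b b β) := by
  funext s
  induction s using Sym2.inductionOn with
  | hf i j =>
    rw [tbl_mk, QuadGrp.coeffs_mk]
    simp only [LinearMap.toMatrix₂_apply, LinearEquiv.refl_apply, ← hβ]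
    split_ifs with h
    · rfl
    · simp [QuadraticMap.polar, map_add]
      abel

theorem halfDisc_eq_hd (b : Module.Basis (Fin n) R M) (Q : QuadraticForm R M) (β : LinearMap.BilinMap R M R)
    (hβ : β.toQuadraticMap = Q) :
    QuadGrp.halfDisc b (LinearEquiv.refl R R) Q = hd (LinearMap.toMatrix₂ b b β) := by
  rw [QuadGrp.halfDisc, hd, coeffs_eq_tbl b Q β hβ]

theorem halfDisc_comp (hn : Odd n) (b : Module.Basis (Fin n) R M) (Q : QuadraticForm R M) (g : M →ₗ[R] M) :
    QuadGrp.halfDisc b (LinearEquiv.refl R R) (Q.comp g) =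
      LinearMap.det g ^ 2 * QuadGrp.halfDisc b (LinearEquiv.refl R R) Q := by
  haveI := Module.Free.of_basis b
  let β := QuadGrp.bilinLift Q
  have hβ : β.toQuadraticMap = Q := QuadGrp.bilinLift_spec Q
  rw [halfDisc_eq_hd b Q β hβ, halfDisc_eq_hd b (Q.comp g) (β.compl₁₂ g g) (by
      ext x
      rw [← hβ]
      rfl),
    LinearMap.toMatrix₂_compl₁₂ b b, hd_conj hn, LinearMap.det_toMatrix]

theorem det_sq_eq_one (hn : Odd n) (b : Module.Basis (Fin n) R M) (Q : QuadraticForm R M)
    (hQ : QuadGrp.IsSemiregular b (LinearEquiv.refl R R) Q) (g : M →ₗ[R] M) (hg : ∀ v, Q (g v) = Q v) :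
    LinearMap.det g ^ 2 = 1 := by
  have h := halfDisc_comp hn b Q g
  rw [show Q.comp g = Q from QuadraticMap.ext hg] at h
  exact (IsUnit.mul_left_inj hQ).mp ((h.symm).trans (one_mul _).symm)

end Form

end Groth.Agent.QFormLib
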