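import Groth.Agent.QFormLib.Conj

/-! Normalising units of an even-rank regular Clifford algebra are locally homogeneous. -/

namespace Groth.Agent.QFormLib

open CliffordAlgebra

universe u v

variable {R : Type u} [CommRing R] {M : Type v} [AddCommGroup M] [Module R M] {n : ℕ}
  (b : Module.Basis (Fin n) R M) (Q : QuadraticForm R M) {m : ℕ} (hn : n = 2 * m) (hQ : QuadGrp.IsRegular Q)

theorem exists_even_odd_decomp (x : CliffordAlgebra Q) :
    ∃ x0 ∈ evenOdd Q 0, ∃ x1 ∈ evenOdd Q 1, x = x0 + x1 := by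
  obtain ⟨x0, hx0, x1, hx1, h⟩ :=
    Submodule.mem_sup.mp (show x ∈ evenOdd Q 0 ⊔ evenOdd Q 1 by
      rw [(evenOdd_isCompl Q).codisjoint.eq_top]; exact Submodule.mem_top)
  exact ⟨x0, hx0, x1, hx1, h.symm⟩

theorem zEl_comm_odd {x : CliffordAlgebra Q} (hx : x ∈ evenOdd Q 1) :
    x * zEl b Q hn = (algebraMap R _ (pEl b Q hn) - zEl b Q hn) * x := by
  induction x, hx using CliffordAlgebra.odd_induction with
  | ι v => exact (zEl_comm' b Q hn v).symm
  | add x y _ _ ha hc => rw [mul_add, add_mul, ha, hc]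
  | ι_mul_ι_mul m₁ m₂ x _ ih =>
    rw [mul_assoc, ih, ← mul_assoc, ← mul_assoc (algebraMap R _ (pEl b Q hn) - zEl b Q hn)]
    congr 1
    rw [sub_mul, mul_sub, zEl_comm_even b Q hn (ι_mul_ι_mem_evenOdd_zero Q m₁ m₂), Algebra.commutes]

include b hn hQ in
theorem isLocHomog_of_conj (hm : 0 < m) (u : (CliffordAlgebra Q)ˣ) (hu : u ∈ QuadGrp.GPin' Q) :
    ∃ (g : M ≃ₗ[R] M) (hg : g ∈ QuadGrp.O Q) (e : R), IsIdempotentElem e ∧
      (∀ v, (u : CliffordAlgebra Q) * ι Q v * ↑u⁻¹ = ι Q (g v)) ∧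
      (QuadGrp.IsDicksonTrivial Q g hg ↔ e = 0) ∧
      (1 - e) • (u : CliffordAlgebra Q) ∈ evenOdd Q 0 ∧ e • (u : CliffordAlgebra Q) ∈ evenOdd Q 1 := by
  obtain ⟨g, hg, hgv, hgx⟩ := exists_conj b Q u hu
  obtain ⟨e, he, hδ, hz⟩ := exists_dickson b Q hn hQ hm g hg
  refine ⟨g, hg, e, he, hgv, isDicksonTrivial_iff b Q hn hQ hm g hg hδ hz, ?_⟩
  obtain ⟨u0, h0, u1, h1, hu01⟩ := exists_even_odd_decomp Q (u : CliffordAlgebra Q)
  set z := zEl b Q hn with hzdef
  set p := pEl b Q hn with hpdef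
  have hW := isUnit_wEl b Q hn hQ
  rw [hgx, hδ] at hz
  have hz2 := congrArg (· * (u : CliffordAlgebra Q)) hz
  simp only [Units.inv_mul_cancel_right] at hz2
  rw [hu01, add_mul, ← zEl_comm_even b Q hn h0, zEl_comm_odd b Q hn h1, ← hzdef, ← hpdef] at hz2
  rw [sub_mul, add_mul (algebraMap R _ (e * p)), smul_mul_assoc, ← Algebra.smul_def, ← Algebra.smul_def, mul_add,
    smul_add, smul_add] at hz2
  have hee : e * e = e := he
  have k1 : (1 - e) • (wEl b Q * u1) = 0 := by
    have := congrArg ((1 - e) • ·) hz2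
    simp only [smul_add, smul_sub, smul_smul] at this
    rw [show (1 - e) * (e * p) = 0 by linear_combination (-p) * hee,
      show (1 - e) * (1 - 2 * e) = 1 - e by linear_combination (2 : R) * hee, zero_smul, zero_smul, zero_add] at this
    rw [wEl_eq b Q hn, ← hzdef, ← hpdef, sub_mul, Algebra.algebraMap_eq_smul_one, smul_mul_assoc, smul_mul_assoc,
      one_mul, smul_sub, smul_smul, smul_smul]
    rw [← sub_eq_zero] at this
    rw [← neg_eq_zero, ← this]
    module
  have k0 : e • (wEl b Q * u0) = 0 := by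
    have := congrArg (e • ·) hz2
    simp only [smul_add, smul_sub, smul_smul] at this
    rw [show e * (e * p) = e * p by linear_combination p * hee,
      show e * (1 - 2 * e) = -e by linear_combination (-2 : R) * hee] at this
    rw [wEl_eq b Q hn, ← hzdef, ← hpdef, sub_mul, Algebra.algebraMap_eq_smul_one, smul_mul_assoc, smul_mul_assoc,
      one_mul, smul_sub, smul_smul, smul_smul]
    rw [← sub_eq_zero] at this
    rw [← this]
    module
  rw [← mul_smul_comm] at k0 k1
  have k1' := hW.mul_right_eq_zero.mp k1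
  have k0' := hW.mul_right_eq_zero.mp k0
  rw [hu01, smul_add, smul_add, k1', k0', add_zero, zero_add]
  exact ⟨Submodule.smul_mem _ _ h0, Submodule.smul_mem _ _ h1⟩

end Groth.Agent.QFormLib
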