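import Groth.Agent.QFormLib.Adjust
import Groth.Agent.QFormLib.EvenLocal
import Groth.Agent.QFormLib.EvenHomog
import Mathlib.LinearAlgebra.CliffordAlgebra.Inversion

/-! Lifting elements of Clifford groups along square zero surjections of local rings. -/

namespace Groth.Agent.QFormLib

open CliffordAlgebra Matrix

universe u v

section Units

variable {A : Type u} [CommRing A] {N : Type v} [AddCommGroup N] [Module A N] {n : ℕ}
  (b : Module.Basis (Fin n) A N) (Q : QuadraticForm A N)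

include b in
theorem isUnit_of_isUnit_algebraMap {a : A} (h : IsUnit (algebraMap A (CliffordAlgebra Q) a)) : IsUnit a := by
  obtain ⟨x, hx⟩ := h
  have h1 := congrArg (κ b Q ∅) x.mul_inv
  rw [hx, ← Algebra.smul_def, map_smul, κ_empty, cterm_one, smul_eq_mul] at h1
  exact IsUnit.of_mul_eq_one _ h1

theorem scalar_mem_GSpin (u : (CliffordAlgebra Q)ˣ) {a : A} (hu : (u : CliffordAlgebra Q) = algebraMap A _ a) :
    u ∈ QuadGrp.GSpin Q := by
  have h0 : (u : CliffordAlgebra Q) ∈ evenOdd Q 0 := hu ▸ SetLike.algebraMap_mem_graded _ _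
  refine ⟨⟨?_, 1, IsIdempotentElem.one, by rw [one_smul]; exact h0, by simp⟩, h0⟩
  show u ∈ QuadGrp.GPin' Q
  rw [QuadGrp.mem_GPin']
  refine SetLike.coe_injective ?_
  rw [Submodule.coe_pointwise_smul]
  ext x
  have hx : ∀ v, ConjAct.toConjAct u • ι Q v = ι Q v := fun v => by
    rw [ConjAct.units_smul_def, ConjAct.ofConjAct_toConjAct, hu, Algebra.commutes, ← hu, mul_assoc, Units.mul_inv,
      mul_one]
  constructor
  · rintro ⟨_, ⟨v, rfl⟩, rfl⟩; exact ⟨v, (hx v).symm⟩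
  · rintro ⟨v, rfl⟩; exact ⟨ι Q v, ⟨v, rfl⟩, hx v⟩

theorem central_mem_GPin' (u : (CliffordAlgebra Q)ˣ) (hu : ∀ x, (u : CliffordAlgebra Q) * x = x * u) :
    u ∈ QuadGrp.GPin' Q := by
  rw [QuadGrp.mem_GPin']
  refine SetLike.coe_injective ?_
  rw [Submodule.coe_pointwise_smul]
  ext x
  have hx : ∀ v, ConjAct.toConjAct u • ι Q v = ι Q v := fun v => by
    rw [ConjAct.units_smul_def, ConjAct.ofConjAct_toConjAct, hu, mul_assoc, Units.mul_inv, mul_one]
  constructor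
  · rintro ⟨_, ⟨v, rfl⟩, rfl⟩; exact ⟨v, (hx v).symm⟩
  · rintro ⟨v, rfl⟩; exact ⟨ι Q v, ⟨v, rfl⟩, hx v⟩

theorem exists_vecUnit (x : N) (hx : IsUnit (Q x)) :
    ∃ u : (CliffordAlgebra Q)ˣ, (u : CliffordAlgebra Q) = ι Q x ∧ u ∈ QuadGrp.GPin' Q := by
  obtain ⟨r, hr⟩ := hx
  have h1 : ι Q x * ((↑r⁻¹ : A) • ι Q x) = 1 := by
    rw [mul_smul_comm, ι_sq_scalar, ← hr, Algebra.algebraMap_eq_smul_one, smul_smul, Units.inv_mul, one_smul]
  have h2 : ((↑r⁻¹ : A) • ι Q x) * ι Q x = 1 := by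
    rw [smul_mul_assoc]; rw [mul_smul_comm] at h1; exact h1
  let u : (CliffordAlgebra Q)ˣ := ⟨ι Q x, (↑r⁻¹ : A) • ι Q x, h1, h2⟩
  have hc : ∀ v, ConjAct.toConjAct u • ι Q v = ι Q ((↑r⁻¹ : A) • (QuadraticMap.polar Q x v • x - Q x • v)) := fun v => by
    rw [ConjAct.units_smul_def, ConjAct.ofConjAct_toConjAct, map_smul, ← ι_mul_ι_mul_ι]
    show ι Q x * ι Q v * ((↑r⁻¹ : A) • ι Q x) = _
    rw [mul_smul_comm]
  refine ⟨u, rfl, ?_⟩
  rw [QuadGrp.mem_GPin']
  refine SetLike.coe_injective ?_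
  rw [Submodule.coe_pointwise_smul]
  ext y
  constructor
  · rintro ⟨_, ⟨v, rfl⟩, rfl⟩; exact ⟨_, (hc v).symm⟩
  · rintro ⟨v, rfl⟩
    refine ⟨ι Q ((↑r⁻¹ : A) • (QuadraticMap.polar Q x v • x - Q x • v)), ⟨_, rfl⟩, ?_⟩
    show ConjAct.toConjAct u • _ = _
    rw [hc]
    congr 1
    rw [QuadraticMap.polar_smul_right, QuadraticMap.polar_sub_right, QuadraticMap.polar_smul_right,
      QuadraticMap.polar_smul_right, QuadraticMap.polar_self, ← hr]
    simp only [smul_eq_mul, nsmul_eq_mul, Nat.cast_ofNat]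
    match_scalars
    · linear_combination (↑r⁻¹ * QuadraticMap.polar Q x v) * (2 - 1 - 1 + 0 : A) * r.inv_mul + (0 : A)
    · linear_combination (↑r⁻¹ * ↑r + 1) * r.inv_mul

include b in
theorem central_of_conj (u : (CliffordAlgebra Q)ˣ) (hu : u ∈ QuadGrp.GPin' Q) (v : N) :
    star (u : CliffordAlgebra Q) * u * ι Q v = ι Q v * (star (u : CliffordAlgebra Q) * u) := by
  obtain ⟨g, hg, hgv, -⟩ := exists_conj b Q u hu
  have h1 : (u : CliffordAlgebra Q) * ι Q v = ι Q (g v) * u := by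
    rw [← hgv, mul_assoc _ (↑u⁻¹ : CliffordAlgebra Q), Units.inv_mul, mul_one]
  have h2 : star (u : CliffordAlgebra Q) * ι Q (g v) = ι Q v * star (u : CliffordAlgebra Q) := by
    have h3 := congrArg star h1
    rw [star_mul, star_mul, CliffordAlgebra.star_ι, CliffordAlgebra.star_ι, neg_mul, mul_neg] at h3
    exact (neg_injective h3).symm
  rw [mul_assoc, h1, ← mul_assoc, h2, mul_assoc]

theorem evenOdd_star {x : CliffordAlgebra Q} {i : ZMod 2} (hx : x ∈ evenOdd Q i) : star x ∈ evenOdd Q i := by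
  rw [CliffordAlgebra.star_def]
  exact (CliffordAlgebra.reverse_mem_evenOdd_iff (Q := Q)).mpr
    ((CliffordAlgebra.involute_mem_evenOdd_iff (Q := Q)).mpr hx)

end Units

section Lift

variable {A B : Type u} [CommRing A] [CommRing B] [IsLocalRing A] [IsLocalRing B] (π : A →+* B)
  (hπ : Function.Surjective π) (h0 : ∀ a b, π a = 0 → π b = 0 → a * b = 0)
  {N N' : Type v} [AddCommGroup N] [Module A N] [AddCommGroup N'] [Module B N'] {n : ℕ}
  (b : Module.Basis (Fin n) A N) (b' : Module.Basis (Fin n) B N') (Q : QuadraticForm A N) (Q' : QuadraticForm B N')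
  (hc : Compat π b Q (fun i => b' i) Q')

/-- The comparison map on units. -/
noncomputable def umap : (CliffordAlgebra Q)ˣ →* (CliffordAlgebra Q')ˣ := Units.map (cmap hc).toMonoidHom

theorem umap_val (u : (CliffordAlgebra Q)ˣ) : ((umap π b b' Q Q' hc u : (CliffordAlgebra Q')ˣ) : CliffordAlgebra Q') =
    cmap hc (u : CliffordAlgebra Q) := rfl

include hπ in
theorem comm_correction {g : N ≃ₗ[A] N} {g' : N' ≃ₗ[B] N'} (hov : Over' π b b' g.toLinearMap g'.toLinearMap)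
    (u : (CliffordAlgebra Q)ˣ) (hu : ∀ v, (u : CliffordAlgebra Q) * ι Q v * ↑u⁻¹ = ι Q (g v))
    (u' : (CliffordAlgebra Q')ˣ) (hu' : ∀ v, (u' : CliffordAlgebra Q') * ι Q' v * ↑u'⁻¹ = ι Q' (g' v)) (v' : N') :
    ↑(umap π b b' Q Q' hc u)⁻¹ * (u' : CliffordAlgebra Q') * ι Q' v' =
      ι Q' v' * (↑(umap π b b' Q Q' hc u)⁻¹ * (u' : CliffordAlgebra Q')) := by
  obtain ⟨v, rfl⟩ := svec_surjective π hπ b b' v'
  set w := umap π b b' Q Q' hc u with hw
  set s := svec π b (fun i => b' i) v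
  have h1 : (w : CliffordAlgebra Q') * ι Q' s = ι Q' (g' s) * w := by
    have h2 := congrArg (cmap hc) (hu v)
    rw [map_mul, map_mul, cmap_ι, cmap_ι, show svec π b (fun i => b' i) (g v) = g' s from hov v] at h2
    rw [← h2, mul_assoc _ _ (w : CliffordAlgebra Q'), hw, umap_val, ← map_mul, Units.inv_mul, map_one, mul_one]
  have h3 : (u' : CliffordAlgebra Q') * ι Q' s = ι Q' (g' s) * u' := by
    rw [← hu', mul_assoc _ (↑u'⁻¹ : CliffordAlgebra Q'), Units.inv_mul, mul_one]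
  rw [mul_assoc, h3, ← mul_assoc, ← mul_assoc]
  congr 1
  rw [Units.inv_mul_eq_iff_eq_mul, ← mul_assoc, h1, mul_assoc, Units.mul_inv, mul_one]

include hπ h0 in
theorem exists_scalar_correction {u : (CliffordAlgebra Q)ˣ} {u' : (CliffordAlgebra Q')ˣ} {c : B}
    (h : ↑(umap π b b' Q Q' hc u)⁻¹ * (u' : CliffordAlgebra Q') = algebraMap B _ c) :
    ∃ s ∈ QuadGrp.GSpin Q, umap π b b' Q Q' hc (u * s) = u' := by
  have hcu : IsUnit c := isUnit_of_isUnit_algebraMap b' Q' (by rw [← h, ← Units.val_mul]; exact Units.isUnit _)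
  obtain ⟨a, ha⟩ := hπ c
  have hau : IsUnit (algebraMap A (CliffordAlgebra Q) a) :=
    (isUnit_of_map π hπ h0 (by rw [ha]; exact hcu)).map _
  obtain ⟨s, hs⟩ := hau
  refine ⟨s, scalar_mem_GSpin Q s hs, Units.ext ?_⟩
  rw [map_mul, Units.val_mul, umap_val π b b' Q Q' hc s, hs, cmap_algebraMap, ha, ← h, ← mul_assoc, Units.mul_inv,
    one_mul]

include hc hπ h0 in
/-- Clifford groups of regular forms lift. -/
theorem exists_lift_GPin_even {m : ℕ} (hn : n = 2 * m) (hm : 0 < m) (hQ : QuadGrp.IsRegular Q)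
    (u' : (CliffordAlgebra Q')ˣ) (hu' : u' ∈ QuadGrp.GPin Q') :
    ∃ u ∈ QuadGrp.GPin Q, umap π b b' Q Q' hc u = u' := by
  have hQ' : QuadGrp.IsRegular Q' := isRegular_of_isUnit_det b' Q' (by
    rw [polMat_natural hc, ← RingHom.mapMatrix_apply, ← RingHom.map_det]
    exact (isUnit_det_polMat b Q hQ).map π)
  obtain ⟨g', hg', hg'v, -⟩ := exists_conj b' Q' u' hu'.1
  obtain ⟨g, hg, hov⟩ := exists_lift_O π hπ h0 b b' Q Q' hc (isUnit_det_polMat b Q hQ) g' hg'
  obtain ⟨u, hu, huv⟩ := exists_lift b Q hn hQ g hg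
  obtain ⟨c, hcc⟩ := center_eq_scalars b' Q' hn hQ'
    (x := ↑(umap π b b' Q Q' hc u)⁻¹ * (u' : CliffordAlgebra Q')) (Subalgebra.mem_center_iff.mpr fun y => by
      induction y using CliffordAlgebra.induction with
      | algebraMap r => exact Algebra.commutes r _
      | ι v => exact (comm_correction π hπ b b' Q Q' hc hov u huv u' hg'v v).symm
      | mul x y hx hy => rw [mul_assoc, hy, ← mul_assoc, hx, mul_assoc]
      | add x y hx hy => rw [add_mul, mul_add, hx, hy])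
  obtain ⟨s, hs, hus⟩ := exists_scalar_correction π hπ h0 b b' Q Q' hc hcc
  obtain ⟨_, _, e, he, -, -, he0, he1⟩ := isLocHomog_of_conj b Q hn hQ hm u hu
  exact ⟨u * s, Subgroup.mul_mem _ ⟨hu, 1 - e, he.one_sub, he0, by rw [sub_sub_cancel]; exact he1⟩ hs.1, hus⟩

variable {m : ℕ} (hn : n = 2 * m + 1) (hQ : IsUnit (QuadGrp.halfDisc b (LinearEquiv.refl A A) Q))

include hc hn hQ in
theorem isUnit_halfDisc_target : IsUnit (QuadGrp.halfDisc b' (LinearEquiv.refl B B) Q') := by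
  rw [halfDisc_compat hc]; exact hQ.map π

include hc hπ h0 hn hQ in
/-- Even Clifford groups of semiregular forms of odd rank lift. -/
theorem exists_lift_GSpin_odd (u' : (CliffordAlgebra Q')ˣ) (hu' : u' ∈ QuadGrp.GSpin Q') :
    ∃ u ∈ QuadGrp.GSpin Q, umap π b b' Q Q' hc u = u' := by
  have hQ' := isUnit_halfDisc_target π b b' Q Q' hc hn hQ
  obtain ⟨g', hg', hg'v⟩ := exists_conj_det_one b' Q' hn hQ' u' hu'.1.1
  obtain ⟨g, hg, hov⟩ := exists_lift_SO_odd π hπ h0 b b' Q Q' hc hn hQ g' hg'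
  obtain ⟨u, hu, huv⟩ : ∃ u ∈ QuadGrp.GSpin Q, ∀ v, (u : CliffordAlgebra Q) * ι Q v * ↑u⁻¹ = ι Q (g v) := by
    subst hn
    exact exists_lift_odd b Q hQ g hg
  have heven : ↑(umap π b b' Q Q' hc u)⁻¹ * (u' : CliffordAlgebra Q') ∈ evenOdd Q' 0 := by
    have h1 : (↑(umap π b b' Q Q' hc u)⁻¹ : CliffordAlgebra Q') ∈ evenOdd Q' 0 :=
      cmap_mem_evenOdd hc ((QuadGrp.evenUnits Q).inv_mem hu.2)
    exact add_zero (0 : ZMod 2) ▸ SetLike.mul_mem_graded h1 hu'.2
  obtain ⟨c, hcc⟩ := eq_algebraMap_of_even_comm_odd b' Q' hn hQ' heven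
    (comm_correction π hπ b b' Q Q' hc hov u huv u' hg'v)
  obtain ⟨s, hs, hus⟩ := exists_scalar_correction π hπ h0 b b' Q Q' hc hcc
  exact ⟨u * s, Subgroup.mul_mem _ hu hs, hus⟩

theorem homog_of_isLocHomog {x : CliffordAlgebra Q} (h : QuadGrp.IsLocHomog Q x) :
    x ∈ evenOdd Q 0 ∨ x ∈ evenOdd Q 1 := by
  obtain ⟨e, he, he0, he1⟩ := h
  rcases IsLocalRing.isUnit_or_isUnit_one_sub_self e with hu | hu
  · left
    obtain rfl : e = 1 := hu.mul_left_cancel (by rw [he.eq, mul_one])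
    rwa [one_smul] at he0
  · right
    obtain rfl : e = 0 := hu.mul_left_eq_zero.mp (by rw [mul_sub, mul_one, he.eq, sub_self])
    rwa [sub_zero, one_smul] at he1

include hc hπ h0 hn hQ in
/-- Clifford groups of semiregular forms of odd rank lift. -/
theorem exists_lift_GPin_odd (u' : (CliffordAlgebra Q')ˣ) (hu' : u' ∈ QuadGrp.GPin Q') :
    ∃ u ∈ QuadGrp.GPin Q, umap π b b' Q Q' hc u = u' := by
  rcases homog_of_isLocHomog Q' hu'.2 with h | h
  · obtain ⟨u, hu, he⟩ := exists_lift_GSpin_odd π hπ h0 b b' Q Q' hc hn hQ u' ⟨hu', h⟩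
    exact ⟨u, hu.1, he⟩
  obtain ⟨W, hW⟩ := isUnit_wEl_odd b Q hn hQ
  have hWmem : W ∈ QuadGrp.GPin Q :=
    ⟨central_mem_GPin' Q W fun x => by rw [hW]; exact wEl_comm_all_odd b Q hn x,
      0, IsIdempotentElem.zero, by simp, by rw [sub_zero, one_smul, hW]; exact wEl_mem_odd b Q hn⟩
  have hW' : ((umap π b b' Q Q' hc W : (CliffordAlgebra Q')ˣ) : CliffordAlgebra Q') = wEl b' Q' := by
    rw [umap_val, hW, cmap_wEl_natural hc]
  have hW'mem : umap π b b' Q Q' hc W ∈ QuadGrp.GPin Q' :=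
    ⟨central_mem_GPin' Q' _ fun x => by rw [hW']; exact wEl_comm_all_odd b' Q' hn x,
      0, IsIdempotentElem.zero, by simp, by rw [sub_zero, one_smul, hW']; exact wEl_mem_odd b' Q' hn⟩
  obtain ⟨u, hu, he⟩ := exists_lift_GSpin_odd π hπ h0 b b' Q Q' hc hn hQ (u' * umap π b b' Q Q' hc W)
    ⟨Subgroup.mul_mem _ hu' hW'mem, by
      show ((u' * umap π b b' Q Q' hc W : (CliffordAlgebra Q')ˣ) : CliffordAlgebra Q') ∈ evenOdd Q' 0
      rw [Units.val_mul, hW']
      exact mul_mem_zero_of_odd Q' h (wEl_mem_odd b' Q' hn)⟩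
  exact ⟨u * W⁻¹, Subgroup.mul_mem _ hu.1 (Subgroup.inv_mem _ hWmem), by
    rw [map_mul, he, map_inv, mul_inv_cancel_right]⟩

include hQ hn in
theorem exists_polar_unit (hm : 1 ≤ m) : ∃ x z, IsUnit (Q x) ∧ IsUnit (QuadraticMap.polar Q x z) := by
  subst hn
  obtain ⟨c, -, -, hct⟩ := exists_split_basis Q b hQ
  let i0 : Fin (2 * m) := ⟨0, by omega⟩
  obtain ⟨j, hj⟩ : ∃ j : Fin (2 * m), IsUnit (QuadraticMap.polar Q (c i0.succ) (c j.succ)) := by
    by_contra hne
    push Not at hne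
    refine (IsLocalRing.mem_maximalIdeal _).mp ?_ hct
    rw [Matrix.det_apply]
    refine Submodule.sum_mem _ fun σ _ => Submodule.smul_of_tower_mem _ _ ?_
    refine Ideal.mem_of_dvd _ (Finset.dvd_prod_of_mem _ (Finset.mem_univ (σ.symm i0))) ?_
    rw [Equiv.apply_symm_apply]
    exact (IsLocalRing.mem_maximalIdeal _).mpr (hne _)
  set x0 := c i0.succ
  set xj := c j.succ
  by_cases h0' : IsUnit (Q x0)
  · exact ⟨x0, xj, h0', hj⟩
  by_cases hj' : IsUnit (Q xj)
  · exact ⟨xj, x0, hj', by rwa [QuadraticMap.polar_comm]⟩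
  have key : ∀ a r : A, ¬IsUnit a → IsUnit r → IsUnit (a + r) := fun a r ha hr => by
    by_contra hne
    exact (IsLocalRing.mem_maximalIdeal r).mp (by
      rw [← add_sub_cancel_left a r]
      exact Submodule.sub_mem _ ((IsLocalRing.mem_maximalIdeal _).mpr hne) ((IsLocalRing.mem_maximalIdeal _).mpr ha)) hr
  refine ⟨x0 + xj, x0, ?_, ?_⟩
  · rw [QuadraticMap.map_add Q]
    refine key _ _ ?_ hj
    intro hu
    rcases IsLocalRing.isUnit_or_isUnit_of_isUnit_add hu with h | h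
    · exact h0' h
    · exact hj' h
  · rw [QuadraticMap.polar_add_left, QuadraticMap.polar_self, QuadraticMap.polar_comm Q xj x0, two_nsmul]
    refine key _ _ ?_ hj
    intro hu
    rcases IsLocalRing.isUnit_or_isUnit_of_isUnit_add hu with h | h <;> exact h0' h

include hc hπ h0 hn hQ in
/-- Pin groups of semiregular forms of odd rank at least three lift. -/
theorem exists_lift_Pin_odd (hm : 1 ≤ m) (u' : (CliffordAlgebra Q')ˣ) (hu' : u' ∈ QuadGrp.Pin Q') :
    ∃ u ∈ QuadGrp.Pin Q, umap π b b' Q Q' hc u = u' := by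
  obtain ⟨u, hu, he⟩ := exists_lift_GPin_odd π hπ h0 b b' Q Q' hc hn hQ u' hu'.1
  have hev : star (u : CliffordAlgebra Q) * u ∈ evenOdd Q 0 := by
    rcases homog_of_isLocHomog Q hu.2 with h | h
    · exact add_zero (0 : ZMod 2) ▸ SetLike.mul_mem_graded (evenOdd_star Q h) h
    · exact mul_mem_zero_of_odd Q (evenOdd_star Q h) h
  obtain ⟨c, hcN⟩ := eq_algebraMap_of_even_comm_odd b Q hn hQ hev (central_of_conj b Q u hu.1)
  have hcπ : π c = 1 := algebraMap_injective b' Q' (by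
    have h1 := congrArg (cmap hc) hcN
    rw [map_mul, cmap_star, cmap_algebraMap, ← umap_val π b b' Q Q' hc, he,
      show star (u' : CliffordAlgebra Q') * u' = 1 from hu'.2] at h1
    rw [map_one]; exact h1.symm)
  obtain ⟨x, z, ⟨qx, hqx⟩, ⟨β, hβ⟩⟩ := exists_polar_unit b Q hn hQ hm
  let a : A := (1 - c) * (qx : A) * ↑β⁻¹
  have haπ : π a = 0 := by simp only [a, map_mul, map_sub, map_one, hcπ, sub_self, zero_mul]
  have hQy : Q (x + a • z) = (2 - c) * (qx : A) := by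
    rw [QuadraticMap.map_add Q, QuadraticMap.map_smul, h0 a a haπ haπ, zero_smul, add_zero,
      QuadraticMap.polar_smul_right, ← hqx, ← hβ, smul_eq_mul]
    linear_combination (1 - c) * (qx : A) * β.inv_mul
  obtain ⟨X, hX, hXm⟩ := exists_vecUnit Q x ⟨qx, hqx⟩
  obtain ⟨Y, hY, hYm⟩ := exists_vecUnit Q (x + a • z) (isUnit_of_map π hπ h0 (by
    rw [hQy, map_mul, map_sub, hcπ, map_ofNat, show (2 : B) - 1 = 1 by norm_num, one_mul]
    exact qx.isUnit.map π))
  let s : (CliffordAlgebra Q)ˣ := Units.map (algebraMap A (CliffordAlgebra Q)).toMonoidHom qx⁻¹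
  let t := s * (X * Y)
  have ht : t ∈ QuadGrp.GSpin Q := by
    refine Subgroup.mul_mem _ (scalar_mem_GSpin Q s rfl) ?_
    have hev2 : ((X * Y : (CliffordAlgebra Q)ˣ) : CliffordAlgebra Q) ∈ evenOdd Q 0 := by
      rw [Units.val_mul, hX, hY]; exact ι_mul_ι_mem_evenOdd_zero _ _ _
    exact ⟨⟨Subgroup.mul_mem _ hXm hYm, 1, IsIdempotentElem.one, by rw [one_smul]; exact hev2, by simp⟩, hev2⟩
  have htv : (t : CliffordAlgebra Q) = (↑qx⁻¹ : A) • (ι Q x * ι Q (x + a • z)) := by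
    simp only [t, s, Units.val_mul, hX, hY, Algebra.smul_def]
    rfl
  have htπ : umap π b b' Q Q' hc t = 1 := Units.ext (by
    rw [umap_val, htv, cmap_smul, map_mul, cmap_ι, cmap_ι, map_add, LinearMap.map_smulₛₗ, haπ, zero_smul, add_zero,
      ι_sq_scalar, hc.map_form, ← hqx, Units.val_one, Algebra.smul_def,
      ← map_mul, ← map_mul, Units.inv_mul, map_one, map_one])
  have hNt : star (t : CliffordAlgebra Q) * t = algebraMap A _ (2 - c) := by
    rw [htv, CliffordAlgebra.star_smul, star_mul, CliffordAlgebra.star_ι, CliffordAlgebra.star_ι, neg_mul_neg]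
    simp only [smul_mul_assoc, mul_smul_comm, smul_smul]
    rw [mul_assoc (ι Q (x + a • z)), ← mul_assoc (ι Q x) (ι Q x), ι_sq_scalar, Algebra.left_comm,
      ι_sq_scalar, hQy, ← hqx, Algebra.smul_def, ← map_mul, ← map_mul]
    congr 1
    linear_combination (2 - c) * (↑qx⁻¹ * ↑qx + 1) * qx.inv_mul
  refine ⟨u * t, ⟨Subgroup.mul_mem _ hu ht.1, ?_⟩, by rw [map_mul, he, htπ, mul_one]⟩
  show star ((u * t : (CliffordAlgebra Q)ˣ) : CliffordAlgebra Q) * ((u * t : (CliffordAlgebra Q)ˣ) : CliffordAlgebra Q) = 1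
  rw [Units.val_mul, star_mul, mul_assoc, ← mul_assoc (star (u : CliffordAlgebra Q)), hcN, Algebra.left_comm, hNt,
    ← map_mul, ← map_one (algebraMap A (CliffordAlgebra Q))]
  congr 1
  have hj : (1 - c) * (1 - c) = 0 := h0 _ _ (by rw [map_sub, map_one, hcπ, sub_self]) (by rw [map_sub, map_one, hcπ, sub_self])
  linear_combination -hj

end Lift

end Groth.Agent.QFormLib
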