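import Groth.Agent.QFormLib.OddRank
import Groth.Agent.QFormLib.Azumaya

/-! The even Clifford algebra of an odd-rank form as a Clifford algebra, and lifting isometries. -/

namespace Groth.Agent.QFormLib

open CliffordAlgebra Matrix

universe u v

variable {R : Type u} [CommRing R] {M : Type v} [AddCommGroup M] [Module R M]

theorem isRegular_of_isUnit_det {n : ℕ} (b : Module.Basis (Fin n) R M) (Q : QuadraticForm R M)
    (h : IsUnit (polMat b Q).det) : QuadGrp.IsRegular Q := by
  have e : LinearMap.toMatrix b b.dualBasis (QuadraticMap.polarBilin Q) = (polMat b Q)ᵀ := by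
    ext i j
    rw [LinearMap.toMatrix_apply, Module.Basis.dualBasis_repr, Matrix.transpose_apply, polMat, Matrix.of_apply]
    rfl
  have hu : IsUnit (LinearMap.toMatrix b b.dualBasis (QuadraticMap.polarBilin Q)).det := by
    rw [e, Matrix.det_transpose]; exact h
  exact (LinearEquiv.ofIsUnitDet hu).bijective

section Split

variable [IsLocalRing R] {k : ℕ} (b : Module.Basis (Fin (k + 1)) R M)

theorem exists_basis_cons {v : M} {a : Fin (k + 1)} (hv : IsUnit (b.repr v a)) (l : Fin k → R) :
    ∃ c : Module.Basis (Fin (k + 1)) R M, c 0 = v ∧ ∀ j, c j.succ = b (a.succAbove j) + l j • v := by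
  let f : Fin (k + 1) → M := Fin.cons v fun j => b (a.succAbove j) + l j • v
  haveI := Module.Finite.of_basis b
  have hspan : ⊤ ≤ Submodule.span R (Set.range f) := by
    have hsa : ∀ j, b (a.succAbove j) ∈ Submodule.span R (Set.range f) := fun j => by
      rw [show b (a.succAbove j) = f j.succ - l j • f 0 by simp [f]]
      exact Submodule.sub_mem _ (Submodule.subset_span ⟨_, rfl⟩) (Submodule.smul_mem _ _ (Submodule.subset_span ⟨_, rfl⟩))
    have ha : b a ∈ Submodule.span R (Set.range f) := by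
      obtain ⟨r, hr⟩ := hv
      have e : (r : R) • b a = f 0 - ∑ j, b.repr v (a.succAbove j) • b (a.succAbove j) := by
        rw [eq_sub_iff_add_eq, hr, ← Fin.sum_univ_succAbove (fun i => b.repr v i • b i) a, b.sum_repr]
        simp [f]
      have h2 : (r : R) • b a ∈ Submodule.span R (Set.range f) := e ▸ Submodule.sub_mem _
        (Submodule.subset_span ⟨_, rfl⟩) (Submodule.sum_mem _ fun j _ => Submodule.smul_mem _ _ (hsa j))
      simpa [smul_smul] using Submodule.smul_mem _ (↑r⁻¹ : R) h2
    rw [← b.span_eq]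
    refine Submodule.span_le.mpr ?_
    rintro _ ⟨i, rfl⟩
    rcases Fin.eq_self_or_eq_succAbove a i with rfl | ⟨j, rfl⟩
    exacts [ha, hsa j]
  have hsurj : Function.Surjective (b.constr R f) := by
    rw [← LinearMap.range_eq_top, Module.Basis.constr_range]
    exact top_unique hspan
  let e := LinearEquiv.ofBijective _ (OrzechProperty.bijective_of_surjective_endomorphism _ hsurj)
  refine ⟨b.map e, ?_, fun j => ?_⟩ <;>
    rw [Module.Basis.map_apply, LinearEquiv.ofBijective_apply, Module.Basis.constr_basis] <;> simp [f]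

variable (Q : QuadraticForm R M)

/-- A semiregular form over a local ring splits off an anisotropic vector. -/
theorem exists_split_basis {m : ℕ} (b : Module.Basis (Fin (2 * m + 1)) R M)
    (hQ : IsUnit (QuadGrp.halfDisc b (LinearEquiv.refl R R) Q)) :
    ∃ c : Module.Basis (Fin (2 * m + 1)) R M, (∀ j : Fin (2 * m), QuadraticMap.polar Q (c 0) (c j.succ) = 0) ∧
      IsUnit (Q (c 0)) ∧ IsUnit (polMat (fun j : Fin (2 * m) => c j.succ) Q).det := by
  haveI := Module.Free.of_basis b
  suffices ∃ c : Module.Basis (Fin (2 * m + 1)) R M, ∀ j : Fin (2 * m), QuadraticMap.polar Q (c 0) (c j.succ) = 0 by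
    obtain ⟨c, hc⟩ := this
    obtain ⟨d, hd, hcd⟩ := halfDisc_change ⟨m, rfl⟩ b c Q
    rw [halfDisc_of_split ⟨m, by ring⟩ c Q hc] at hcd
    exact ⟨c, hc, IsUnit.mul_iff.mp (hcd ▸ hd.mul hQ)⟩
  let K := IsLocalRing.ResidueField R
  have hres : ∀ x : R, algebraMap R K x ≠ 0 → IsUnit x := fun x hx => by
    by_contra hne
    exact hx ((IsLocalRing.residue_eq_zero_iff x).mpr ((IsLocalRing.mem_maximalIdeal _).mpr hne))
  have hh : QuadGrp.halfDisc (b.baseChange K) (LinearEquiv.refl K K) (QuadGrp.baseChangeForm K Q) ≠ 0 := by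
    rw [halfDisc_compat (compat_baseChangeForm K b Q)]
    exact (hQ.map (algebraMap R K)).ne_zero
  have hmap : ∀ {k : ℕ} (f : Fin k → Fin (2 * m + 1)),
      (polMat (fun j => b.baseChange K (f j)) (QuadGrp.baseChangeForm K Q)).det =
        algebraMap R K (polMat (fun j => b (f j)) Q).det := by
    intro k f
    rw [RingHom.map_det]
    congr 1
    ext i j
    exact (compat_baseChangeForm K b Q).polar_all _ _
  rcases exists_minor_ne_zero (b.baseChange K) _ hh with hd | ⟨a, -, hd⟩
  · have hP : IsUnit (polMat b Q).det := hres _ (hmap (fun j => j) ▸ hd)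
    obtain ⟨v, a, hv, hva⟩ : ∃ v a, IsUnit (Q v) ∧ IsUnit (b.repr v a) := by
      by_contra hc
      push Not at hc
      have hb : ∀ i, Q (b i) ∈ IsLocalRing.maximalIdeal R := fun i =>
        (IsLocalRing.mem_maximalIdeal _).mpr fun h => hc (b i) i h (by simp)
      refine (IsLocalRing.mem_maximalIdeal _).mp ?_ hP
      rw [← IsLocalRing.residue_eq_zero_iff, RingHom.map_det]
      refine Matrix.det_eq_zero_of_row_eq_zero 0 fun j => ?_
      simp only [RingHom.mapMatrix_apply, Matrix.map_apply, polMat, Matrix.of_apply, IsLocalRing.residue_eq_zero_iff]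
      by_cases h0 : (0 : Fin (2 * m + 1)) = j
      · subst h0
        rw [QuadraticMap.polar_self, two_nsmul]
        exact Submodule.add_mem _ (hb 0) (hb 0)
      · refine Submodule.sub_mem _ (Submodule.sub_mem _ ((IsLocalRing.mem_maximalIdeal _).mpr fun h => ?_) (hb 0)) (hb j)
        exact hc _ 0 h (by simp [Finsupp.single_apply, Ne.symm h0])
    have h2 : IsUnit (2 : R) := by
      rw [det_polMat, ← two_mul_halfDiscUniv ⟨m, rfl⟩, map_mul, map_ofNat] at hP
      exact (IsUnit.mul_iff.mp hP).1
    obtain ⟨w, hw⟩ := (h2.mul hv)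
    obtain ⟨c, hc0, hcs⟩ := exists_basis_cons b hva
      fun j => -((↑w⁻¹ : R) * QuadraticMap.polar Q v (b (a.succAbove j)))
    refine ⟨c, fun j => ?_⟩
    rw [hc0, hcs, QuadraticMap.polar_add_right, QuadraticMap.polar_smul_right, QuadraticMap.polar_self, two_nsmul,
      smul_eq_mul, ← two_mul, ← hw]
    linear_combination (-QuadraticMap.polar Q v (b (a.succAbove j))) * w.inv_mul
  · have hs : IsUnit (polMat (fun j => b (a.succAbove j)) Q).det := hres _ (hmap (fun j => a.succAbove j) ▸ hd)
    set P := polMat (fun j => b (a.succAbove j)) Q with hP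
    obtain ⟨s, hs'⟩ := hs
    set y := (↑s⁻¹ : R) • ((fun j => QuadraticMap.polar Q (b a) (b (a.succAbove j))) ᵥ* P.adjugate) with hy
    set v := b a - ∑ i, y i • b (a.succAbove i) with hv
    obtain ⟨c, hc0, hcs⟩ := exists_basis_cons b (v := v) (a := a)
      (by simp [hv, Finsupp.single_apply, Fin.succAbove_ne]) 0
    refine ⟨c, fun j => ?_⟩
    have hyP : y ᵥ* P = fun j => QuadraticMap.polar Q (b a) (b (a.succAbove j)) := by
      rw [hy, Matrix.smul_vecMul, Matrix.vecMul_vecMul, Matrix.adjugate_mul, Matrix.vecMul_smul, Matrix.vecMul_one,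
        smul_smul, ← hs', Units.inv_mul, one_smul]
    have hj := congrFun hyP j
    rw [hc0, hcs, Pi.zero_apply, zero_smul, add_zero, ← QuadraticMap.polarBilin_apply_apply, hv, map_sub, map_sum,
      LinearMap.sub_apply, LinearMap.sum_apply]
    simp only [map_smul, LinearMap.smul_apply, QuadraticMap.polarBilin_apply_apply, smul_eq_mul]
    rw [sub_eq_zero, ← hj]
    simp [Matrix.vecMul, dotProduct, hP, polMat]

end Split

section Theta

variable {k : ℕ} (c : Module.Basis (Fin (k + 1)) R M) (Q : QuadraticForm R M)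

/-- The inclusion of the span of the last vectors. -/
noncomputable def tailMap : (Fin k → R) →ₗ[R] M := Fintype.linearCombination R fun j : Fin k => c j.succ

/-- The twisted form on the tail. -/
noncomputable def tailForm : QuadraticForm R (Fin k → R) := (-Q (c 0)) • Q.comp (tailMap c)

theorem tailMap_single (i : Fin k) : tailMap c (Pi.single i 1) = c i.succ := by
  simp [tailMap, Fintype.linearCombination_apply, Pi.single_apply]

theorem polMat_tailForm : polMat (Pi.basisFun R (Fin k)) (tailForm c Q) =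
    (-Q (c 0)) • polMat (fun j : Fin k => c j.succ) Q := by
  ext i j
  simp only [polMat, Matrix.of_apply, Pi.basisFun_apply, Matrix.smul_apply]
  simp only [QuadraticMap.polar, tailForm, _root_.QuadraticMap.smul_apply, QuadraticMap.comp_apply, map_add,
    tailMap_single, smul_eq_mul]
  ring

variable {c Q} (h : ∀ j : Fin k, QuadraticMap.polar Q (c 0) (c j.succ) = 0)

include h in
theorem polar_tailMap (x : Fin k → R) : QuadraticMap.polar Q (c 0) (tailMap c x) = 0 := by
  rw [← QuadraticMap.polarBilin_apply_apply, tailMap, Fintype.linearCombination_apply, map_sum]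
  exact Finset.sum_eq_zero fun j _ => by rw [map_smul, QuadraticMap.polarBilin_apply_apply, h, smul_zero]

include h in
theorem swap_tail (x : Fin k → R) : ι Q (tailMap c x) * ι Q (c 0) = -(ι Q (c 0) * ι Q (tailMap c x)) := by
  rw [ι_mul_ι_comm, QuadraticMap.polar_comm, polar_tailMap h, map_zero, zero_sub]

/-- The map `f ↦ e₀ f` into the even part. -/
noncomputable def theta : CliffordAlgebra (tailForm c Q) →ₐ[R] CliffordAlgebra Q :=
  CliffordAlgebra.lift (tailForm c Q) ⟨LinearMap.mulLeft R (ι Q (c 0)) ∘ₗ ι Q ∘ₗ tailMap c, fun x => by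
    simp only [LinearMap.comp_apply, LinearMap.mulLeft_apply, tailForm, _root_.QuadraticMap.smul_apply,
      QuadraticMap.comp_apply, smul_eq_mul]
    rw [mul_assoc, ← mul_assoc (ι Q (tailMap c x)), swap_tail h, neg_mul, mul_assoc, ι_sq_scalar, mul_neg, ← mul_assoc,
      ι_sq_scalar, ← map_mul, ← map_neg, neg_mul]⟩

theorem theta_ι (x : Fin k → R) : theta h (ι (tailForm c Q) x) = ι Q (c 0) * ι Q (tailMap c x) :=
  CliffordAlgebra.lift_ι_apply _ _ x

/-- The index of the image of a basis product. -/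
def thetaIdx (S : Finset (Fin k)) : Finset (Fin (k + 1)) :=
  if Even S.card then S.map (Fin.succEmb k) else insert 0 (S.map (Fin.succEmb k))

theorem thetaIdx_injective : Function.Injective (thetaIdx (k := k)) := fun S T hST => by
  ext i
  have hmem : ∀ U : Finset (Fin k), i ∈ U ↔ i.succ ∈ thetaIdx U := fun U => by
    unfold thetaIdx
    split_ifs <;> simp [Fin.succ_ne_zero]
  rw [hmem S, hST, ← hmem T]

theorem prodE_insert_zero (S : Finset (Fin k)) :
    prodE c Q (insert 0 (S.map (Fin.succEmb k))) = ι Q (c 0) * prodE c Q (S.map (Fin.succEmb k)) :=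
  prodE_insert_min c Q fun x hx => by
    obtain ⟨j, -, rfl⟩ := Finset.mem_map.mp hx
    exact Fin.succ_pos j

theorem theta_prodE (hQ0 : IsUnit (Q (c 0))) (S : Finset (Fin k)) :
    ∃ r : R, IsUnit r ∧
      theta h (prodE (Pi.basisFun R (Fin k)) (tailForm c Q) S) = r • prodE c Q (thetaIdx S) := by
  induction S using Finset.induction_on_min with
  | empty => exact ⟨1, isUnit_one, by simp [thetaIdx, prodE_empty]⟩
  | insert i S hi ih =>
    obtain ⟨r, hr, hS⟩ := ih
    have hiS : i ∉ S := fun hm => lt_irrefl i (hi i hm)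
    have hmap : ι Q (c i.succ) * prodE c Q (S.map (Fin.succEmb k)) =
        prodE c Q ((insert i S).map (Fin.succEmb k)) := by
      rw [Finset.map_insert]
      refine (prodE_insert_min c Q fun x hx => ?_).symm
      obtain ⟨j, hj, rfl⟩ := Finset.mem_map.mp hx
      exact Fin.succ_lt_succ_iff.mpr (hi j hj)
    rw [prodE_insert_min _ _ hi, map_mul, hS, theta_ι, Pi.basisFun_apply, tailMap_single, mul_smul_comm]
    by_cases hev : Even S.card
    · refine ⟨r, hr, ?_⟩
      rw [thetaIdx, if_pos hev, thetaIdx, if_neg (by rw [Finset.card_insert_of_notMem hiS, Nat.even_add_one, not_not]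
                                                     exact hev), prodE_insert_zero, mul_assoc, hmap]
    · refine ⟨r * -Q (c 0), hr.mul hQ0.neg, ?_⟩
      rw [thetaIdx, if_neg hev, thetaIdx, if_pos (by rw [Finset.card_insert_of_notMem hiS, Nat.even_add_one]
                                                     exact hev), prodE_insert_zero, mul_smul]
      congr 1
      rw [mul_assoc, ← mul_assoc (ι Q (c i.succ)), ← tailMap_single c i, swap_tail h, tailMap_single, neg_mul,
        mul_assoc (ι Q (c 0)) (ι Q (c i.succ)), hmap, mul_neg, ← mul_assoc, ι_sq_scalar, ← Algebra.smul_def, neg_smul]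

theorem theta_injective (hQ0 : IsUnit (Q (c 0))) : Function.Injective (theta h) := by
  intro x y hxy
  refine eq_of_κ (Pi.basisFun R (Fin k)) _ fun S => ?_
  choose r hr hθ using theta_prodE h hQ0
  have key : ∀ z, κ c Q (thetaIdx S) (theta h z) = r S * κ (Pi.basisFun R (Fin k)) (tailForm c Q) S z := fun z => by
    conv_lhs => rw [eq_sum_κ (Pi.basisFun R (Fin k)) (tailForm c Q) z, map_sum, map_sum]
    rw [Finset.sum_eq_single S]
    · rw [map_smul, hθ, map_smul, map_smul, κ_prodE, if_pos rfl, smul_eq_mul, smul_eq_mul, mul_one, mul_comm]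
    · intro T _ hT
      rw [map_smul, hθ, map_smul, map_smul, κ_prodE, if_neg fun e => hT (thetaIdx_injective e), smul_zero, smul_zero]
    · simp
  exact (hr S).mul_left_cancel (by rw [← key, ← key, hxy])

theorem theta_mem (x : CliffordAlgebra (tailForm c Q)) : theta h x ∈ evenOdd Q 0 := by
  induction x using CliffordAlgebra.induction with
  | algebraMap r => rw [AlgHom.commutes]; exact SetLike.algebraMap_mem_graded _ _
  | ι v => rw [theta_ι]; exact ι_mul_ι_mem_evenOdd_zero _ _ _
  | mul x y hx hy => rw [map_mul]; exact add_zero (0 : ZMod 2) ▸ SetLike.mul_mem_graded hx hy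
  | add x y hx hy => rw [map_add]; exact Submodule.add_mem _ hx hy

theorem theta_surjective (hQ0 : IsUnit (Q (c 0))) {x : CliffordAlgebra Q} (hx : x ∈ evenOdd Q 0) :
    x ∈ (theta h).range := by
  classical
  rw [eq_sum_κ c Q x]
  refine Subalgebra.sum_mem _ fun U _ => ?_
  by_cases hU : (U.card : ZMod 2) = 0
  · refine Subalgebra.smul_mem _ ?_ _
    let S : Finset (Fin k) := Finset.univ.filter fun i => i.succ ∈ U
    have hSU : thetaIdx S = U := by
      have hmap : S.map (Fin.succEmb k) = U.erase 0 := by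
        ext x
        refine Fin.cases ?_ (fun i => ?_) x
        · simp [Fin.succ_ne_zero]
        · simp [S, Fin.succ_ne_zero]
      have hev : Even U.card := ZMod.natCast_eq_zero_iff_even.mp hU
      unfold thetaIdx
      have hcard : S.card = (U.erase 0).card := by rw [← hmap, Finset.card_map]
      rw [hmap, hcard]
      by_cases h0 : (0 : Fin (k + 1)) ∈ U
      · rw [if_neg, Finset.insert_erase h0]
        rw [Finset.card_erase_of_mem h0]
        have := Finset.card_pos.mpr ⟨0, h0⟩
        intro he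
        exact (Nat.even_add_one.mp (show Even (U.card - 1 + 1) by rwa [Nat.sub_add_cancel this])) he
      · rw [Finset.erase_eq_of_notMem h0, if_pos hev]
    obtain ⟨r, ⟨r', rfl⟩, hθ⟩ := theta_prodE h hQ0 S
    refine ⟨(↑r'⁻¹ : R) • prodE (Pi.basisFun R (Fin k)) (tailForm c Q) S, ?_⟩
    show theta h _ = _
    rw [map_smul, hθ, smul_smul, Units.inv_mul, one_smul, hSU]
  · rw [κ_eq_zero_of_parity c Q hx hU, zero_smul]
    exact Subalgebra.zero_mem _

/-- An automorphism preserving the even part induces one of the smaller algebra. -/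
theorem exists_thetaEquiv (hQ0 : IsUnit (Q (c 0))) (f : CliffordAlgebra Q ≃ₐ[R] CliffordAlgebra Q)
    (hf : ∀ x ∈ evenOdd Q 0, f x ∈ evenOdd Q 0) (hf' : ∀ x ∈ evenOdd Q 0, f.symm x ∈ evenOdd Q 0) :
    ∃ φ : CliffordAlgebra (tailForm c Q) ≃ₐ[R] CliffordAlgebra (tailForm c Q),
      ∀ x, theta h (φ x) = f (theta h x) := by
  let e := AlgEquiv.ofInjective (theta h) (theta_injective h hQ0)
  let F : CliffordAlgebra (tailForm c Q) →ₐ[R] CliffordAlgebra (tailForm c Q) :=
    e.symm.toAlgHom.comp ((f.toAlgHom.comp (theta h)).codRestrict _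
      fun x => theta_surjective h hQ0 (hf _ (theta_mem h x)))
  let G : CliffordAlgebra (tailForm c Q) →ₐ[R] CliffordAlgebra (tailForm c Q) :=
    e.symm.toAlgHom.comp ((f.symm.toAlgHom.comp (theta h)).codRestrict _
      fun x => theta_surjective h hQ0 (hf' _ (theta_mem h x)))
  have hF : ∀ x, theta h (F x) = f (theta h x) := fun x => congrArg Subtype.val (e.apply_symm_apply _)
  have hG : ∀ x, theta h (G x) = f.symm (theta h x) := fun x => congrArg Subtype.val (e.apply_symm_apply _)
  refine ⟨AlgEquiv.ofAlgHom F G (AlgHom.ext fun x => theta_injective h hQ0 ?_)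
    (AlgHom.ext fun x => theta_injective h hQ0 ?_), hF⟩
  · rw [AlgHom.comp_apply, hF, hG, f.apply_symm_apply]; rfl
  · rw [AlgHom.comp_apply, hG, hF, f.symm_apply_apply]; rfl

end Theta

/-- Over a local ring, determinant-one isometries in odd rank lift to the even Clifford group. -/
theorem exists_lift_odd [IsLocalRing R] {m : ℕ} (b : Module.Basis (Fin (2 * m + 1)) R M) (Q : QuadraticForm R M)
    (hQ : IsUnit (QuadGrp.halfDisc b (LinearEquiv.refl R R) Q)) (g : M ≃ₗ[R] M) (hg : g ∈ QuadGrp.SO' Q) :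
    ∃ u ∈ QuadGrp.GSpin Q, ∀ v, (u : CliffordAlgebra Q) * ι Q v * ↑u⁻¹ = ι Q (g v) := by
  obtain ⟨hgO, hdet⟩ := hg
  obtain ⟨c, hc, hc0, hct⟩ := exists_split_basis Q b hQ
  have hreg : QuadGrp.IsRegular (tailForm c Q) := isRegular_of_isUnit_det (Pi.basisFun R _) _ (by
    rw [polMat_tailForm, Matrix.det_smul]
    exact (hc0.neg.pow _).mul hct)
  let e : Q.IsometryEquiv Q := { g with map_app' := hgO }
  let f := CliffordAlgebra.equivOfIsometry e
  have hpres : ∀ (F : CliffordAlgebra Q ≃ₐ[R] CliffordAlgebra Q) (g' : M → M),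
      (∀ v, F (ι Q v) = ι Q (g' v)) → ∀ x ∈ evenOdd Q 0, F x ∈ evenOdd Q 0 := by
    intro F g' hF x hx
    induction x, hx using CliffordAlgebra.even_induction with
    | algebraMap r => rw [AlgEquiv.commutes]; exact SetLike.algebraMap_mem_graded _ _
    | add x y _ _ hx hy => rw [map_add]; exact Submodule.add_mem _ hx hy
    | ι_mul_ι_mul v w x _ hx =>
      rw [map_mul, map_mul, hF, hF]
      exact add_zero (0 : ZMod 2) ▸ SetLike.mul_mem_graded (ι_mul_ι_mem_evenOdd_zero _ _ _) hx
  obtain ⟨φ, hφ⟩ := exists_thetaEquiv hc hc0 f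
    (hpres f g fun v => CliffordAlgebra.map_apply_ι e.toIsometry v)
    (hpres f.symm g.symm fun v => CliffordAlgebra.map_apply_ι e.symm.toIsometry v)
  obtain ⟨u', hu'⟩ := exists_inner (Pi.basisFun R _) _ rfl hreg φ
  let u : (CliffordAlgebra Q)ˣ := Units.map (theta hc).toRingHom.toMonoidHom u'
  have hu0 : (u : CliffordAlgebra Q) ∈ evenOdd Q 0 := theta_mem hc _
  have hconj : ∀ x ∈ evenOdd Q 0, (u : CliffordAlgebra Q) * x * ↑u⁻¹ = f x := by
    intro x hx
    obtain ⟨y, hy⟩ := theta_surjective hc hc0 hx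
    have hy' : theta hc y = x := hy
    rw [← hy', ← hφ, hu', map_mul, map_mul]
    rfl
  have hW := isUnit_wEl_odd b Q rfl hQ
  have hfW : f (wEl b Q) = wEl b Q := by
    have h2 := map_wEl b Q e.toIsometry
    rw [show LinearMap.det e.toIsometry.toLinearMap = 1 by
      rw [show e.toIsometry.toLinearMap = (g : M →ₗ[R] M) from rfl, ← LinearEquiv.coe_det, MonoidHom.mem_ker.mp hdet,
        Units.val_one], one_smul] at h2
    exact h2
  have hv : ∀ v, (u : CliffordAlgebra Q) * ι Q v * ↑u⁻¹ = ι Q (g v) := fun v => by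
    refine hW.mul_left_cancel ?_
    have h2 := hconj _ (mul_mem_zero_of_odd Q (wEl_mem_odd b Q rfl) (ι_mem_evenOdd_one Q v))
    rw [map_mul, hfW] at h2
    rw [← mul_assoc, ← mul_assoc, wEl_comm_all_odd b Q rfl, mul_assoc (u : CliffordAlgebra Q) (wEl b Q), h2]
    congr 1
    exact CliffordAlgebra.map_apply_ι e.toIsometry v
  refine ⟨u, ⟨⟨?_, 1, IsIdempotentElem.one, by rw [one_smul]; exact hu0, by simp⟩, hu0⟩, hv⟩
  show u ∈ QuadGrp.GPin' Q
  rw [QuadGrp.mem_GPin']
  refine SetLike.coe_injective ?_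
  rw [Submodule.coe_pointwise_smul]
  ext x
  constructor
  · rintro ⟨_, ⟨v, rfl⟩, rfl⟩
    exact ⟨g v, by rw [← hv]; rfl⟩
  · rintro ⟨v, rfl⟩
    refine ⟨ι Q (g.symm v), LinearMap.mem_range_self _ _, ?_⟩
    show (u : CliffordAlgebra Q) * ι Q (g.symm v) * ↑u⁻¹ = ι Q v
    rw [hv, g.apply_symm_apply]

section RankThree

variable (b : Module.Basis (Fin 3) R M) (Q : QuadraticForm R M)

theorem κ_univ_ι (v : M) : κ b Q Finset.univ (ι Q v) = 0 :=
  κ_eq_zero_of_card b Q v
where
  κ_eq_zero_of_card (b : Module.Basis (Fin 3) R M) (Q : QuadraticForm R M) (v : M) :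
      κ b Q Finset.univ (ι Q v) = 0 := by
    rw [← b.sum_repr v, map_sum, map_sum]
    refine Finset.sum_eq_zero fun i _ => ?_
    rw [map_smul, map_smul, ← prodE_singleton b Q, κ_prodE, if_neg, smul_zero]
    intro h
    simpa using congrArg Finset.card h

theorem prodE_univ_three : prodE b Q Finset.univ = ι Q (b 0) * (ι Q (b 1) * ι Q (b 2)) := by
  rw [show (Finset.univ : Finset (Fin 3)) = insert 0 (insert 1 {2}) by decide, prodE_insert_min b Q (by decide),
    prodE_insert_min b Q (by decide), prodE_singleton]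

theorem κ_repeat₁ (a c : M) : κ b Q Finset.univ (ι Q a * (ι Q a * ι Q c)) = 0 := by
  rw [← mul_assoc, ι_sq_scalar, ← Algebra.smul_def, map_smul, κ_univ_ι, smul_zero]

theorem κ_repeat₂ (a c : M) : κ b Q Finset.univ (ι Q a * (ι Q c * ι Q c)) = 0 := by
  rw [ι_sq_scalar, ← Algebra.commutes, ← Algebra.smul_def, map_smul, κ_univ_ι, smul_zero]

theorem κ_repeat₃ (a c : M) : κ b Q Finset.univ (ι Q a * (ι Q c * ι Q a)) = 0 := by
  rw [ι_mul_ι_comm c a, mul_sub, map_sub, κ_repeat₁, sub_zero, ← Algebra.commutes, ← Algebra.smul_def, map_smul,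
    κ_univ_ι, smul_zero]

theorem bracket_ι (a c v : M) : ι Q a * ι Q c * ι Q v - ι Q v * (ι Q a * ι Q c) =
    ι Q (QuadraticMap.polar Q c v • a - QuadraticMap.polar Q a v • c) := by
  rw [map_sub, map_smul, map_smul, Algebra.smul_def, Algebra.smul_def, ← ι_mul_ι_add_swap, ← ι_mul_ι_add_swap]
  have h := Algebra.commutes (QuadraticMap.polar Q c v) (ι Q a)
  rw [← ι_mul_ι_add_swap] at h
  rw [h]
  noncomm_ring

theorem κ_pair_comm (a c : M) {y : CliffordAlgebra Q} (hy : y ∈ evenOdd Q 1) :
    κ b Q Finset.univ (ι Q a * ι Q c * y) = κ b Q Finset.univ (y * (ι Q a * ι Q c)) := by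
  rw [eq_sum_κ b Q y, Finset.mul_sum, Finset.sum_mul, map_sum, map_sum]
  refine Finset.sum_congr rfl fun S _ => ?_
  rw [mul_smul_comm, smul_mul_assoc, map_smul, map_smul]
  by_cases hS : (S.card : ZMod 2) = 1
  · congr 1
    rw [← sub_eq_zero, ← map_sub]
    have hle : S.card ≤ 3 := by simpa using Finset.card_le_univ S
    have : S.card = 1 ∨ S.card = 3 := by
      rcases Nat.lt_or_ge S.card 1 with h | h
      · simp [Nat.lt_one_iff.mp h] at hS
      · rcases (by omega : S.card = 1 ∨ S.card = 2 ∨ S.card = 3) with h | h | h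
        exacts [Or.inl h, absurd hS (by rw [h]; decide), Or.inr h]
    rcases this with h1 | h3
    · obtain ⟨i, rfl⟩ := Finset.card_eq_one.mp h1
      rw [prodE_singleton, bracket_ι, κ_univ_ι]
    · obtain rfl : S = Finset.univ := Finset.eq_univ_of_card S (by simpa using h3)
      have key : ∀ x y z : CliffordAlgebra Q, ι Q a * ι Q c * (x * (y * z)) - x * (y * z) * (ι Q a * ι Q c) =
          (ι Q a * ι Q c * x - x * (ι Q a * ι Q c)) * (y * z) +
            x * ((ι Q a * ι Q c * y - y * (ι Q a * ι Q c)) * z) +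
            x * (y * (ι Q a * ι Q c * z - z * (ι Q a * ι Q c))) := fun x y z => by noncomm_ring
      rw [prodE_univ_three, key, bracket_ι, bracket_ι, bracket_ι, map_add, map_add]
      set L : M → M := fun v => QuadraticMap.polar Q c v • a - QuadraticMap.polar Q a v • c
      have hk : ∀ v, κ b Q Finset.univ (ι Q v * (ι Q (b 1) * ι Q (b 2))) = b.repr v 0 := fun v => by
        conv_lhs => rw [← b.sum_repr v, Fin.sum_univ_three]
        simp only [map_add, map_smul, add_mul, smul_mul_assoc, κ_repeat₁, κ_repeat₃, ← prodE_univ_three, κ_prodE,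
          if_true, smul_eq_mul, mul_one, mul_zero, add_zero]
      have hk1 : ∀ v, κ b Q Finset.univ (ι Q (b 0) * (ι Q v * ι Q (b 2))) = b.repr v 1 := fun v => by
        conv_lhs => rw [← b.sum_repr v, Fin.sum_univ_three]
        simp only [map_add, map_smul, add_mul, mul_add, smul_mul_assoc, mul_smul_comm, κ_repeat₁, κ_repeat₂,
          ← prodE_univ_three, κ_prodE, if_true, smul_eq_mul, mul_one, mul_zero, add_zero, zero_add]
      have hk2 : ∀ v, κ b Q Finset.univ (ι Q (b 0) * (ι Q (b 1) * ι Q v)) = b.repr v 2 := fun v => by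
        conv_lhs => rw [← b.sum_repr v, Fin.sum_univ_three]
        simp only [map_add, map_smul, mul_add, mul_smul_comm, κ_repeat₂, κ_repeat₃,
          ← prodE_univ_three, κ_prodE, if_true, smul_eq_mul, mul_one, mul_zero, zero_add]
      rw [show ι Q (b 0) * (ι Q (L (b 1)) * ι Q (b 2)) = ι Q (b 0) * (ι Q (L (b 1)) * ι Q (b 2)) from rfl,
        hk, hk1, hk2]
      have hsum : ∀ d : M, ∑ i, QuadraticMap.polar Q d (b i) * b.repr a i = QuadraticMap.polar Q d a ∧
          ∑ i, QuadraticMap.polar Q d (b i) * b.repr c i = QuadraticMap.polar Q d c := fun d => by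
        constructor
        · conv_rhs => rw [← QuadraticMap.polarBilin_apply_apply, ← b.sum_repr a, map_sum]
          exact Finset.sum_congr rfl fun i _ => by simp [mul_comm]
        · conv_rhs => rw [← QuadraticMap.polarBilin_apply_apply, ← b.sum_repr c, map_sum]
          exact Finset.sum_congr rfl fun i _ => by simp [mul_comm]
      have e1 := (hsum c).1
      have e2 := (hsum a).2
      rw [Fin.sum_univ_three] at e1 e2
      simp only [L, map_sub, map_smul, Finsupp.sub_apply, Finsupp.smul_apply, smul_eq_mul]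
      rw [QuadraticMap.polar_comm Q c a] at e1
      linear_combination e1 - e2
  · rw [κ_eq_zero_of_parity b Q hy hS, zero_smul, zero_smul]

theorem κ_trace {x : CliffordAlgebra Q} (hx : x ∈ evenOdd Q 0) {y : CliffordAlgebra Q} (hy : y ∈ evenOdd Q 1) :
    κ b Q Finset.univ (x * y) = κ b Q Finset.univ (y * x) := by
  induction x, hx using CliffordAlgebra.even_induction generalizing y with
  | algebraMap r => rw [Algebra.commutes]
  | add x z _ _ hx hz => rw [add_mul, mul_add, map_add, map_add, hx hy, hz hy]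
  | ι_mul_ι_mul a c x hx0 ih =>
    have h1 : x * y ∈ evenOdd Q 1 := zero_add (1 : ZMod 2) ▸ SetLike.mul_mem_graded hx0 hy
    have h2 : y * (ι Q a * ι Q c) ∈ evenOdd Q 1 :=
      add_zero (1 : ZMod 2) ▸ SetLike.mul_mem_graded hy (ι_mul_ι_mem_evenOdd_zero Q a c)
    rw [mul_assoc, κ_pair_comm b Q a c h1, mul_assoc x, ih h2]
    simp only [mul_assoc]

include b in
/-- In rank three every even unit normalises `M`. -/
theorem evenUnits_le_GPin' : QuadGrp.evenUnits Q ≤ QuadGrp.GPin' Q := by
  have key : ∀ u : (CliffordAlgebra Q)ˣ, u ∈ QuadGrp.evenUnits Q → ∀ v,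
      (u : CliffordAlgebra Q) * ι Q v * ↑u⁻¹ ∈ LinearMap.range (ι Q) := by
    intro u hu v
    have hinv : (↑u⁻¹ : CliffordAlgebra Q) ∈ evenOdd Q 0 := (QuadGrp.evenUnits Q).inv_mem hu
    have hvu : ι Q v * (↑u⁻¹ : CliffordAlgebra Q) ∈ evenOdd Q 1 :=
      add_zero (1 : ZMod 2) ▸ SetLike.mul_mem_graded (ι_mem_evenOdd_one Q v) hinv
    have hy : (u : CliffordAlgebra Q) * ι Q v * ↑u⁻¹ ∈ evenOdd Q 1 := by
      rw [mul_assoc]; exact zero_add (1 : ZMod 2) ▸ SetLike.mul_mem_graded hu hvu
    have h0 : κ b Q Finset.univ ((u : CliffordAlgebra Q) * ι Q v * ↑u⁻¹) = 0 := by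
      rw [mul_assoc, κ_trace b Q hu hvu, mul_assoc, Units.inv_mul, mul_one, κ_univ_ι]
    rw [eq_sum_κ b Q ((u : CliffordAlgebra Q) * ι Q v * ↑u⁻¹)]
    refine Submodule.sum_mem _ fun S _ => ?_
    by_cases hS : (S.card : ZMod 2) = 1
    · have hle : S.card ≤ 3 := by simpa using Finset.card_le_univ S
      rcases (by omega : S.card = 0 ∨ S.card = 1 ∨ S.card = 2 ∨ S.card = 3) with h | h | h | h
      · simp [h] at hS
      · obtain ⟨i, rfl⟩ := Finset.card_eq_one.mp h
        exact Submodule.smul_mem _ _ ⟨b i, (prodE_singleton b Q i).symm⟩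
      · exact absurd hS (by rw [h]; decide)
      · obtain rfl : S = Finset.univ := Finset.eq_univ_of_card S (by simpa using h)
        rw [h0, zero_smul]; exact Submodule.zero_mem _
    · rw [κ_eq_zero_of_parity b Q hy hS, zero_smul]; exact Submodule.zero_mem _
  intro u hu
  rw [QuadGrp.mem_GPin']
  refine SetLike.coe_injective ?_
  rw [Submodule.coe_pointwise_smul]
  ext x
  constructor
  · rintro ⟨_, ⟨v, rfl⟩, rfl⟩
    exact key u hu v
  · rintro ⟨v, rfl⟩
    obtain ⟨w, hw⟩ := key u⁻¹ ((QuadGrp.evenUnits Q).inv_mem hu) v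
    refine ⟨ι Q w, LinearMap.mem_range_self _ _, ?_⟩
    show (u : CliffordAlgebra Q) * ι Q w * ↑u⁻¹ = ι Q v
    rw [hw, inv_inv]
    simp only [mul_assoc, Units.mul_inv_cancel_left, Units.mul_inv, mul_one]

end RankThree

end Groth.Agent.QFormLib
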