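import Groth.Agent.QFormLib.Univ
import Mathlib.LinearAlgebra.Matrix.ToLinearEquiv
import Mathlib.LinearAlgebra.QuadraticForm.Radical
import Mathlib.LinearAlgebra.TensorProduct.Basis
import Mathlib.LinearAlgebra.Dimension.FreeAndStrongRankCondition
import Mathlib.RingTheory.LocalRing.ResidueField.Ideal

/-! The half-discriminant over fields and residue fields. -/

namespace Groth.Agent.QFormLib

open Matrix
open scoped TensorProduct

universe u v u'

variable {R : Type u} [CommRing R] {k : ℕ}

/-- The block matrix with corner `a`. -/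
def consDiag (a : R) (B : Matrix (Fin k) (Fin k) R) : Matrix (Fin (k + 1)) (Fin (k + 1)) R :=
  Matrix.of fun i j => Fin.cases (Fin.cases a (fun _ => 0) j) (fun i' => Fin.cases 0 (fun j' => B i' j') j) i

theorem consDiag_add_transpose_det (a : R) (B : Matrix (Fin k) (Fin k) R) :
    (consDiag a B + (consDiag a B)ᵀ).det = 2 * a * (B + Bᵀ).det := by
  rw [Matrix.det_succ_row_zero, Finset.sum_eq_single 0]
  · have hsub : (consDiag a B + (consDiag a B)ᵀ).submatrix Fin.succ (0 : Fin (k + 1)).succAbove = B + Bᵀ := by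
      ext i j
      simp [consDiag]
    rw [hsub]
    simp [consDiag, two_mul]
  · intro j _ hj
    obtain ⟨j', rfl⟩ := Fin.exists_succ_eq.mpr hj
    simp [consDiag]
  · simp

theorem consDiag_map {S : Type u'} [CommRing S] (φ : R →+* S) (a : R) (B : Matrix (Fin k) (Fin k) R) :
    (consDiag a B).map φ = consDiag (φ a) (B.map φ) := by
  ext i j
  refine Fin.cases ?_ (fun i' => ?_) i <;> refine Fin.cases ?_ (fun j' => ?_) j <;> simp [consDiag]

theorem hd_consDiag (hk : Even k) (a : R) (B : Matrix (Fin k) (Fin k) R) :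
    hd (consDiag a B) = a * (B + Bᵀ).det := by
  have hk1 : Odd (k + 1) := hk.add_one
  let V := MvPolynomial (Option (Fin k × Fin k)) ℤ
  let B₀ : Matrix (Fin k) (Fin k) V := Matrix.of fun i j => MvPolynomial.X (some (i, j))
  let φ : V →+* R := MvPolynomial.eval₂Hom (Int.castRingHom R) (Option.elim · a fun x => B x.1 x.2)
  have hV : hd (consDiag (MvPolynomial.X none : V) B₀) = MvPolynomial.X none * (B₀ + B₀ᵀ).det := by
    refine mul_left_cancel₀ (two_ne_zero (α := V)) ?_
    rw [two_mul_hd hk1, consDiag_add_transpose_det, mul_assoc]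
  have h := congrArg φ hV
  rw [← hd_map, consDiag_map, map_mul, RingHom.map_det, RingHom.mapMatrix_apply] at h
  have h0 : φ (MvPolynomial.X none) = a := MvPolynomial.eval₂Hom_X' _ _ _
  have hB : B₀.map φ = B := by ext i j; exact MvPolynomial.eval₂Hom_X' _ _ _
  rw [h0, hB, Matrix.map_add _ (map_add φ), Matrix.transpose_map, hB] at h
  exact h

variable {M : Type v} [AddCommGroup M] [Module R M]

/-- The half-discriminant when the first vector is orthogonal to the others. -/
theorem halfDisc_of_split (hk : Even k) (b : Module.Basis (Fin (k + 1)) R M) (Q : QuadraticForm R M)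
    (h : ∀ j : Fin k, QuadraticMap.polar Q (b 0) (b j.succ) = 0) :
    QuadGrp.halfDisc b (LinearEquiv.refl R R) Q = Q (b 0) * (polMat (fun j => b j.succ) Q).det := by
  let B₁ : Matrix (Fin k) (Fin k) R := Matrix.of fun i j =>
    if i = j then Q (b i.succ) else if i < j then QuadraticMap.polar Q (b i.succ) (b j.succ) else 0
  have ht : tbl (consDiag (Q (b 0)) B₁) = QuadGrp.coeffs b (LinearEquiv.refl R R) Q := by
    funext s
    induction s using Sym2.inductionOn with
    | hf i j =>
      rw [tbl_mk, QuadGrp.coeffs_mk]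
      refine Fin.cases ?_ (fun i' => ?_) i <;> refine Fin.cases ?_ (fun j' => ?_) j
      · simp [consDiag]
      · simp [consDiag, (Fin.succ_ne_zero j').symm, h]
      · simp [consDiag, Fin.succ_ne_zero i', QuadraticMap.polar_comm Q (b i'.succ), h]
      · rcases lt_trichotomy i' j' with hl | rfl | hl
        · simp [consDiag, B₁, hl.ne, hl.ne', hl, not_lt.mpr hl.le]
        · simp [consDiag, B₁]
        · simp [consDiag, B₁, hl.ne, hl.ne', hl, not_lt.mpr hl.le, QuadraticMap.polar_comm Q (b i'.succ)]
  have hB : B₁ + B₁ᵀ = polMat (fun j => b j.succ) Q := by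
    ext i j
    simp only [Matrix.add_apply, Matrix.transpose_apply, polMat, Matrix.of_apply, B₁]
    rcases lt_trichotomy i j with hl | rfl | hl
    · simp [hl.ne, hl.ne', hl, not_lt.mpr hl.le]
    · simp [two_mul, two_nsmul]
    · simp [hl.ne, hl.ne', hl, not_lt.mpr hl.le, QuadraticMap.polar_comm Q (b i.succ)]
  rw [← hB, ← hd_consDiag hk, hd, ht]
  rfl

/-- The half-discriminant changes by the square of a unit with the basis. -/
theorem halfDisc_change {n : ℕ} (hn : Odd n) (b c : Module.Basis (Fin n) R M) (Q : QuadraticForm R M) :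
    ∃ d : R, IsUnit d ∧
      QuadGrp.halfDisc c (LinearEquiv.refl R R) Q = d * QuadGrp.halfDisc b (LinearEquiv.refl R R) Q := by
  let g : M ≃ₗ[R] M := b.equiv c (Equiv.refl _)
  refine ⟨LinearMap.det (g : M →ₗ[R] M) ^ 2, (LinearEquiv.isUnit_det' g).pow 2, ?_⟩
  rw [← halfDisc_comp hn b Q g]
  show MvPolynomial.eval₂ _ (QuadGrp.coeffs c (LinearEquiv.refl R R) Q) _ =
    MvPolynomial.eval₂ _ (QuadGrp.coeffs b (LinearEquiv.refl R R) (Q.comp (g : M →ₗ[R] M))) _
  congr 1
  funext s
  induction s using Sym2.inductionOn with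
  | hf i j =>
    simp [QuadGrp.coeffs_mk, QuadraticMap.polar, g, Module.Basis.equiv_apply]

theorem halfDisc_compat {S : Type u'} [CommRing S] {N : Type*} [AddCommGroup N] [Module S N] {n : ℕ} {σ : R →+* S}
    {b : Module.Basis (Fin n) R M} {Q : QuadraticForm R M} {c : Module.Basis (Fin n) S N} {Q' : QuadraticForm S N}
    (h : Compat σ b Q c Q') :
    QuadGrp.halfDisc c (LinearEquiv.refl S S) Q' = σ (QuadGrp.halfDisc b (LinearEquiv.refl R R) Q) := by
  rw [← spec_halfDisc c Q', ← spec_halfDisc b Q, ← RingHom.comp_apply σ]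
  refine RingHom.congr_fun ?_ _
  refine MvPolynomial.ringHom_ext (fun r => by simp) fun s => ?_
  rw [RingHom.comp_apply, spec, spec, MvPolynomial.eval₂Hom_X', MvPolynomial.eval₂Hom_X']
  induction s using Sym2.inductionOn with
  | hf i j =>
    rw [QuadGrp.coeffs_mk, QuadGrp.coeffs_mk, apply_ite σ]
    split_ifs with hij
    · simp [h.diag]
    · simp [h.polar i j hij]

section Field

variable {K : Type u} [Field K] {V : Type v} [AddCommGroup V] [Module K V]

/-- A nonzero vector can be taken as first vector of a basis. -/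
theorem exists_basis_zero (b : Module.Basis (Fin (k + 1)) K V) {r : V} (hr : r ≠ 0) :
    ∃ c : Module.Basis (Fin (k + 1)) K V, c 0 = r ∧
      ∃ a, b.repr r a ≠ 0 ∧ ∀ j : Fin k, ∃ i, i ≠ a ∧ c j.succ = b i := by
  classical
  obtain ⟨a, ha⟩ : ∃ a, b.repr r a ≠ 0 := by
    by_contra hc
    exact hr (b.forall_coord_eq_zero_iff.mp fun i => not_not.mp fun h => hc ⟨i, h⟩)
  let f : Fin (k + 1) → V := Function.update b a r
  let T : Matrix (Fin (k + 1)) (Fin (k + 1)) K := b.toMatrix f
  have hT : IsUnit (b.det f) := by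
    rw [isUnit_iff_ne_zero, show f = Function.update (⇑b) a r from rfl]
    conv => enter [1, 2, 3]; rw [← b.sum_repr r]
    rw [AlternatingMap.map_update_sum, Finset.sum_eq_single a]
    · rw [AlternatingMap.map_update_smul, Function.update_eq_self, Module.Basis.det_self, smul_eq_mul, mul_one]
      exact ha
    · intro i _ hi
      rw [AlternatingMap.map_update_smul, AlternatingMap.map_eq_zero_of_eq _ _ (i := a) (j := i) ?_ hi.symm, smul_zero]
      simp [Function.update_of_ne hi]
    · simp
  let e : Fin (k + 1) ≃ Fin (k + 1) := Equiv.swap 0 a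
  let c₀ : Module.Basis (Fin (k + 1)) K V :=
    Module.Basis.mk ((Module.Basis.is_basis_iff_det b).mpr hT).1 ((Module.Basis.is_basis_iff_det b).mpr hT).2.ge
  refine ⟨c₀.reindex e, ?_, a, ha, fun j => ⟨e j.succ, ?_, ?_⟩⟩
  · simp [c₀, e, f]
  · intro h
    have := congrArg e h
    simp [e, Fin.succ_ne_zero] at this
  · have hne : e j.succ ≠ a := fun h => by
      have := congrArg e h
      simp [e, Fin.succ_ne_zero] at this
    simp [c₀, Module.Basis.reindex_apply, e] at hne ⊢
    simp [f, Function.update_of_ne hne]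

theorem exists_tail_vec {m : ℕ} (c : Module.Basis (Fin (m + 1)) K V) (Q : QuadraticForm K V)
    (h0 : (polMat (fun j => c j.succ) Q).det = 0) :
    ∃ w : V, w ≠ 0 ∧ c.repr w 0 = 0 ∧ ∀ j : Fin m, QuadraticMap.polarBilin Q w (c j.succ) = 0 := by
  obtain ⟨x, hx, hx0⟩ := Matrix.exists_vecMul_eq_zero_iff.mpr h0
  refine ⟨∑ j, x j • c j.succ, fun h => hx (funext fun j => ?_), ?_, fun j => ?_⟩
  · have := congrArg (fun w => c.repr w j.succ) h
    simpa [Finsupp.single_apply] using this
  · simp [Finsupp.single_apply, Fin.succ_ne_zero]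
  · have := congrFun hx0 j
    simpa [Matrix.vecMul, dotProduct, polMat] using this

/-- A nonzero half-discriminant forces the polar kernel to be a line spanned by an anisotropic vector. -/
theorem halfDisc_ne_zero_iff {m : ℕ} (b : Module.Basis (Fin (2 * m + 1)) K V) (Q : QuadraticForm K V) :
    QuadGrp.halfDisc b (LinearEquiv.refl K K) Q ≠ 0 ↔ QuadraticMap.Nondegenerate (Q := Q) := by
  have hk : Even (2 * m) := ⟨m, by ring⟩
  have hodd : Odd (2 * m + 1) := ⟨m, rfl⟩
  constructor
  · intro h
    have key : ∀ r : V, r ≠ 0 → QuadraticMap.polarBilin Q r = 0 →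
        Q r ≠ 0 ∧ ∀ c : Module.Basis (Fin (2 * m + 1)) K V, c 0 = r → (polMat (fun j => c j.succ) Q).det ≠ 0 := by
      intro r hr hker
      obtain ⟨c, hc0, -⟩ := exists_basis_zero b hr
      have main : ∀ c : Module.Basis (Fin (2 * m + 1)) K V, c 0 = r →
          Q r ≠ 0 ∧ (polMat (fun j => c j.succ) Q).det ≠ 0 := by
        intro c hc0
        obtain ⟨d, hd, hcd⟩ := halfDisc_change hodd b c Q
        rw [halfDisc_of_split hk c Q (fun j => by
          rw [hc0, ← QuadraticMap.polarBilin_apply_apply, hker, LinearMap.zero_apply]), hc0] at hcd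
        exact mul_ne_zero_iff.mp (hcd ▸ mul_ne_zero hd.ne_zero h)
      exact ⟨(main c hc0).1, fun c hc => (main c hc).2⟩
    refine ⟨(Submodule.eq_bot_iff _).mpr fun r hr => ?_, rank_le_one_iff.mpr ?_⟩
    · by_contra hr0
      exact (key r hr0 hr.2).1 hr.1
    · by_cases hK : ∀ r ∈ LinearMap.ker (QuadraticMap.polarBilin Q), r = 0
      · exact ⟨0, fun v => ⟨0, by rw [smul_zero]; exact (Subtype.ext (hK v.1 v.2)).symm⟩⟩
      push Not at hK
      obtain ⟨r, hr, hr0⟩ := hK
      refine ⟨⟨r, hr⟩, fun v => ?_⟩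
      obtain ⟨c, hc0, -⟩ := exists_basis_zero b hr0
      refine ⟨c.repr v.1 0, Subtype.ext ?_⟩
      by_contra hne
      set w := v.1 - c.repr v.1 0 • r with hw
      have hw0 : w ≠ 0 := fun h => hne (sub_eq_zero.mp h).symm
      refine (key r hr0 hr).2 c hc0 (Matrix.exists_vecMul_eq_zero_iff.mp ⟨fun j => c.repr w j.succ, fun h => hw0 ?_, ?_⟩)
      · refine c.forall_coord_eq_zero_iff.mp fun i => ?_
        refine Fin.cases ?_ (fun j => congrFun h j) i
        simp [hw, ← hc0]
      · funext j
        have hwk : QuadraticMap.polarBilin Q w = 0 := by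
          rw [hw, map_sub, map_smul, LinearMap.mem_ker.mp v.2, LinearMap.mem_ker.mp hr, smul_zero, sub_zero]
        have e : QuadraticMap.polarBilin Q (∑ i, c.repr w i • c i) (c j.succ) = 0 := by
          rw [c.sum_repr, hwk, LinearMap.zero_apply]
        rw [Fin.sum_univ_succ, map_add, map_smul, hc0, LinearMap.mem_ker.mp hr, smul_zero, zero_add] at e
        simpa [Matrix.vecMul, dotProduct, polMat] using e
  · intro h hd
    have h2 : (polMat b Q).det = 0 := by
      rw [det_polMat, ← two_mul_halfDiscUniv hodd, map_mul, spec_halfDisc, hd, mul_zero]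
    obtain ⟨x, hx, hx0⟩ := Matrix.exists_vecMul_eq_zero_iff.mpr h2
    set r := ∑ i, x i • b i with hr
    have hr0 : r ≠ 0 := fun h0 => hx (funext fun i => by
      have := congrArg (fun w => b.repr w i) h0
      simpa [hr, Finsupp.single_apply] using this)
    have hker : QuadraticMap.polarBilin Q r = 0 := b.ext fun j => by
      have := congrFun hx0 j
      simpa [hr, Matrix.vecMul, dotProduct, polMat] using this
    have hQr : Q r ≠ 0 := fun h0 => hr0 ((Submodule.eq_bot_iff _).mp h.radical_eq_bot r ⟨h0, hker⟩)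
    obtain ⟨c, hc0, -⟩ := exists_basis_zero b hr0
    have hcr : ∀ v, QuadraticMap.polar Q (c 0) v = 0 := fun v => by
      rw [hc0, ← QuadraticMap.polarBilin_apply_apply, hker, LinearMap.zero_apply]
    obtain ⟨d, hdu, hcd⟩ := halfDisc_change hodd b c Q
    rw [halfDisc_of_split hk c Q (fun j => hcr _), hd, mul_zero, hc0] at hcd
    obtain ⟨w, hw0, hwc, hwj⟩ := exists_tail_vec c Q ((mul_eq_zero.mp hcd).resolve_left hQr)
    have hwker : QuadraticMap.polarBilin Q w = 0 := c.ext fun i => by
      refine Fin.cases ?_ hwj i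
      rw [QuadraticMap.polarBilin_apply_apply, QuadraticMap.polar_comm, hcr, LinearMap.zero_apply]
    obtain ⟨v0, hv0⟩ := rank_le_one_iff.mp h.rank_rad_polar_le
    obtain ⟨s, hs⟩ := hv0 ⟨r, hker⟩
    obtain ⟨t, ht⟩ := hv0 ⟨w, hwker⟩
    have hs' : s • v0.1 = r := congrArg Subtype.val hs
    have ht' : t • v0.1 = w := congrArg Subtype.val ht
    have hs0 : s ≠ 0 := fun h0 => hr0 (by rw [← hs', h0, zero_smul])
    have hwr : w = (t / s) • r := by rw [← ht', ← hs', smul_smul, div_mul_cancel₀ t hs0]
    rw [hwr, ← hc0, map_smul, Finsupp.smul_apply, Module.Basis.repr_self, Finsupp.single_eq_same, smul_eq_mul,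
      mul_one] at hwc
    exact hw0 (by rw [hwr, hwc, zero_smul])

/-- A principal minor of corank one is nonzero, or the whole polar matrix is invertible. -/
theorem exists_minor_ne_zero {m : ℕ} (b : Module.Basis (Fin (2 * m + 1)) K V) (Q : QuadraticForm K V)
    (h : QuadGrp.halfDisc b (LinearEquiv.refl K K) Q ≠ 0) :
    (polMat b Q).det ≠ 0 ∨
      ∃ a : Fin (2 * m + 1), Q (∑ i, Pi.single (M := fun _ => K) a 1 i • b i) = Q (b a) ∧
        (polMat (fun j => b (a.succAbove j)) Q).det ≠ 0 := by
  rw [or_iff_not_imp_left, not_not]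
  intro h2
  obtain ⟨x, hx, hx0⟩ := Matrix.exists_vecMul_eq_zero_iff.mpr h2
  set r := ∑ i, x i • b i with hr
  have hr0 : r ≠ 0 := fun h0 => hx (funext fun i => by
    have := congrArg (fun w => b.repr w i) h0
    simpa [hr, Finsupp.single_apply] using this)
  have hker : QuadraticMap.polarBilin Q r = 0 := b.ext fun j => by
    have := congrFun hx0 j
    simpa [hr, Matrix.vecMul, dotProduct, polMat] using this
  obtain ⟨hrad, hrank⟩ := (halfDisc_ne_zero_iff b Q).mp h
  obtain ⟨c, hc0, a, ha, -⟩ := exists_basis_zero b hr0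
  refine ⟨a, by simp [Pi.single_apply], fun hdet => ?_⟩
  obtain ⟨y, hy, hy0⟩ := Matrix.exists_vecMul_eq_zero_iff.mpr hdet
  set w := ∑ j, y j • b (a.succAbove j) with hw
  have hwa : b.repr w a = 0 := by simp [hw, Finsupp.single_apply, Fin.succAbove_ne]
  have hw0 : w ≠ 0 := fun h0 => hy (funext fun j => by
    have := congrArg (fun t => b.repr t (a.succAbove j)) h0
    simpa [hw, Finsupp.single_apply, Fin.succAbove_right_inj] using this)
  have hwker : QuadraticMap.polarBilin Q w = 0 := b.ext fun i => by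
    rcases Fin.eq_self_or_eq_succAbove a i with rfl | ⟨j, rfl⟩
    · have hz : QuadraticMap.polarBilin Q w r = 0 := by
        rw [QuadraticMap.polarBilin_apply_apply, QuadraticMap.polar_comm, ← QuadraticMap.polarBilin_apply_apply, hker,
          LinearMap.zero_apply]
      rw [← b.sum_repr r, map_sum, Fin.sum_univ_succAbove _ i] at hz
      have hj : ∀ j, QuadraticMap.polarBilin Q w (b (i.succAbove j)) = 0 := fun j => by
        have := congrFun hy0 j
        simpa [hw, Matrix.vecMul, dotProduct, polMat] using this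
      simp only [map_smul, hj, smul_eq_mul, mul_zero, Finset.sum_const_zero, add_zero, mul_eq_zero] at hz
      rw [LinearMap.zero_apply]
      exact hz.resolve_left ha
    · have := congrFun hy0 j
      simpa [hw, Matrix.vecMul, dotProduct, polMat] using this
  obtain ⟨v0, hv0⟩ := rank_le_one_iff.mp hrank
  obtain ⟨s, hs⟩ := hv0 ⟨r, hker⟩
  obtain ⟨t, ht⟩ := hv0 ⟨w, hwker⟩
  have hs' : s • v0.1 = r := congrArg Subtype.val hs
  have ht' : t • v0.1 = w := congrArg Subtype.val ht
  have hs0 : s ≠ 0 := fun h0 => hr0 (by rw [← hs', h0, zero_smul])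
  have hwr : w = (t / s) • r := by rw [← ht', ← hs', smul_smul, div_mul_cancel₀ t hs0]
  rw [hwr, map_smul, Finsupp.smul_apply, smul_eq_mul, mul_eq_zero] at hwa
  exact hw0 (by rw [hwr, hwa.resolve_right ha, zero_smul])

end Field

section BaseChange

variable [Module.Free R M]

theorem baseChangeForm_tmul (A : Type u') [CommRing A] [Algebra R A] (Q : QuadraticForm R M) (a : A) (m : M) :
    QuadGrp.baseChangeForm A Q (a ⊗ₜ[R] m) = a * a * algebraMap R A (Q m) := by
  rw [QuadGrp.baseChangeForm, LinearMap.compQuadraticMap_apply, QuadGrp.baseChange_tmul]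
  simp [Algebra.smul_def, mul_comm]

theorem compat_baseChangeForm {n : ℕ} (A : Type u') [CommRing A] [Algebra R A] (b : Module.Basis (Fin n) R M)
    (Q : QuadraticForm R M) :
    Compat (algebraMap R A) b Q (b.baseChange A) (QuadGrp.baseChangeForm A Q) where
  diag i := by rw [Module.Basis.baseChange_apply, baseChangeForm_tmul, one_mul, one_mul]
  polar i j _ := by
    simp only [QuadraticMap.polar, Module.Basis.baseChange_apply, ← TensorProduct.tmul_add, baseChangeForm_tmul,
      one_mul, map_sub]

theorem isUnit_halfDisc_iff {m : ℕ} (b : Module.Basis (Fin (2 * m + 1)) R M) (Q : QuadraticForm R M) :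
    IsUnit (QuadGrp.halfDisc b (LinearEquiv.refl R R) Q) ↔
      ∀ (p : Ideal R) [p.IsPrime], QuadraticMap.Nondegenerate (Q := QuadGrp.baseChangeForm p.ResidueField Q) := by
  constructor
  · intro h p _
    rw [← halfDisc_ne_zero_iff (b.baseChange p.ResidueField), halfDisc_compat (compat_baseChangeForm _ b Q)]
    exact (h.map (algebraMap R p.ResidueField)).ne_zero
  · intro h
    by_contra hne
    obtain ⟨p, hp, hmem⟩ := exists_max_ideal_of_mem_nonunits hne
    haveI := hp.isPrime
    refine (halfDisc_ne_zero_iff (b.baseChange p.ResidueField) _).mpr (h p) ?_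
    rw [halfDisc_compat (compat_baseChangeForm _ b Q)]
    exact Ideal.algebraMap_residueField_eq_zero.mpr hmem

end BaseChange

end Groth.Agent.QFormLib
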