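import Groth.Agent.QFormLib.EvenHomog
import Groth.Agent.QFormLib.Residue

/-! The centre and the normalising units for semiregular forms of odd rank. -/

namespace Groth.Agent.QFormLib

open CliffordAlgebra Matrix

universe u v

variable {R : Type u} [CommRing R] {M : Type v} [AddCommGroup M] [Module R M]

theorem eq_zero_of_locally {r : R} (h : ∀ p : Ideal R, p.IsPrime → ∃ s ∉ p, s * r = 0) : r = 0 := by
  by_contra hr
  have hA : Ideal.span {r} ≠ ⊥ := by simpa using hr
  obtain ⟨P, hP, hle⟩ := Ideal.exists_le_maximal (Ideal.span ({r} : Set R)).annihilator (fun h1 => hr (by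
    have := (Ideal.eq_top_iff_one _).mp h1
    rw [Submodule.mem_annihilator] at this
    simpa using this r (Ideal.mem_span_singleton_self r)))
  obtain ⟨s, hs, hsr⟩ := h P hP.isPrime
  refine hs (hle ?_)
  rw [Submodule.mem_annihilator]
  intro x hx
  obtain ⟨c, rfl⟩ := Ideal.mem_span_singleton'.mp hx
  rw [smul_eq_mul, mul_left_comm, hsr, mul_zero]

variable {n : ℕ} (b : Module.Basis (Fin n) R M) (Q : QuadraticForm R M)

theorem mem_evenOdd_of_mul_odd {i : ZMod 2} {x y : CliffordAlgebra Q} (hx : x ∈ evenOdd Q 1) (hy : y ∈ evenOdd Q i) :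
    x * y ∈ evenOdd Q (1 + i) := SetLike.mul_mem_graded hx hy

variable {m : ℕ} (hn : n = 2 * m + 1) (hQ : IsUnit (QuadGrp.halfDisc b (LinearEquiv.refl R R) Q))

include hn hQ in
/-- Locally the image of the polar form has corank at most one, spanned together with a coordinate. -/
theorem exists_corank_one (p : Ideal R) [p.IsPrime] :
    ∃ s ∉ p, ∃ a, ∀ d : Module.Dual R M, ∃ (v : M) (t : R), s • d = QuadraticMap.polarBilin Q v + t • b.coord a := by
  subst hn
  haveI := Module.Free.of_basis b
  let K := p.ResidueField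
  have hh : QuadGrp.halfDisc (b.baseChange K) (LinearEquiv.refl K K) (QuadGrp.baseChangeForm K Q) ≠ 0 := by
    rw [halfDisc_compat (compat_baseChangeForm K b Q)]
    exact (hQ.map (algebraMap R K)).ne_zero
  have hmap : ∀ {k : ℕ} (f : Fin k → Fin (2 * m + 1)),
      (polMat (fun j => b.baseChange K (f j)) (QuadGrp.baseChangeForm K Q)).det =
        algebraMap R K (polMat (fun j => b (f j)) Q).det := by
    intro k f
    rw [RingHom.map_det]
    congr 1
    ext i j
    exact (compat_baseChangeForm K b Q).polar_all _ _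
  have hnot : ∀ s : R, algebraMap R K s ≠ 0 → s ∉ p := fun s hs hsp =>
    hs (Ideal.algebraMap_residueField_eq_zero.mpr hsp)
  rcases exists_minor_ne_zero (b.baseChange K) _ hh with hd | ⟨a, -, hd⟩
  · rw [hmap (fun j => j)] at hd
    refine ⟨_, hnot _ hd, 0, fun d => ⟨∑ i, ((fun j => d (b j)) ᵥ* (polMat b Q).adjugate) i • b i, 0, ?_⟩⟩
    rw [zero_smul, add_zero]
    refine b.ext fun j => ?_
    have := congrFun (Matrix.vecMul_vecMul (fun j => d (b j)) (polMat b Q).adjugate (polMat b Q)) j
    rw [Matrix.adjugate_mul, Matrix.vecMul_smul, Matrix.vecMul_one] at this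
    simp only [LinearMap.smul_apply, map_sum, map_smul, LinearMap.sum_apply]
    rw [show (fun j => b j) = ⇑b from rfl] at *
    refine Eq.trans ?_ this.symm |>.trans ?_
    · rfl
    · simp [Matrix.vecMul, dotProduct, polMat]
  · rw [hmap (fun j => a.succAbove j)] at hd
    refine ⟨_, hnot _ hd, a, fun d => ?_⟩
    set P := polMat (fun j => b (a.succAbove j)) Q with hP
    set v := ∑ i, ((fun j => d (b (a.succAbove j))) ᵥ* P.adjugate) i • b (a.succAbove i) with hv
    refine ⟨v, P.det * d (b a) - QuadraticMap.polarBilin Q v (b a), b.ext fun i => ?_⟩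
    rcases Fin.eq_self_or_eq_succAbove a i with rfl | ⟨j, rfl⟩
    · simp [Module.Basis.coord_apply, Module.Basis.repr_self]
    · have := congrFun (Matrix.vecMul_vecMul (fun j => d (b (a.succAbove j))) P.adjugate P) j
      rw [Matrix.adjugate_mul, Matrix.vecMul_smul, Matrix.vecMul_one] at this
      simp only [LinearMap.smul_apply, LinearMap.add_apply, Module.Basis.coord_apply, Module.Basis.repr_self,
        Finsupp.single_apply, if_neg (Fin.succAbove_ne a j), smul_zero, add_zero]
      rw [hv, map_sum, LinearMap.sum_apply]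
      refine Eq.trans ?_ this.symm |>.trans ?_
      · rfl
      · simp [Matrix.vecMul, dotProduct, hP, polMat]

include hn hQ in
/-- An even element commuting with all vectors is a scalar. -/
theorem eq_algebraMap_of_even_comm_odd {x : CliffordAlgebra Q} (hx : x ∈ evenOdd Q 0)
    (hc : ∀ v, x * ι Q v = ι Q v * x) : ∃ r, x = algebraMap R _ r := by
  refine ⟨_, eq_algebraMap_of_κ b Q fun S hS => ?_⟩
  by_cases hpar : (S.card : ZMod 2) = 0
  · have hS2 : 2 ≤ S.card := by
      rcases Nat.lt_or_ge S.card 2 with h | h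
      · exfalso
        have h1 : S.card = 1 := by have := hS.card_pos; omega
        rw [h1, Nat.cast_one] at hpar
        exact one_ne_zero hpar
      · exact h
    refine eq_zero_of_locally fun p hp => ?_
    obtain ⟨s, hs, a, ha⟩ := exists_corank_one b Q hn hQ p
    refine ⟨s * s, fun hss => hs ((hp.mem_or_mem hss).elim id id),
      κ_eq_zero_of_contractLeft₂ b Q (s * s) (fun c e => ?_) hS2⟩
    have kill : ∀ v, contractLeft (QuadraticMap.polarBilin Q v) x = 0 := fun v => by
      rw [← ι_mul_sub_involute_mul, involute_eq_of_mem_even hx, hc, sub_self]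
    have hstep : ∀ d : Module.Dual R M, ∃ t : R, s • contractLeft d x = t • contractLeft (b.coord a) x := fun d => by
      obtain ⟨v, t, hvt⟩ := ha d
      refine ⟨t, ?_⟩
      have := congrArg (fun d => contractLeft d x) hvt
      simpa [kill v] using this
    obtain ⟨te, hte⟩ := hstep (b.coord e)
    obtain ⟨tc, htc⟩ := hstep (b.coord c)
    rw [mul_smul, ← map_smul (contractLeft (b.coord c)) s, hte, map_smul, contractLeft_comm, smul_neg, smul_neg,
      smul_comm, ← map_smul (contractLeft (b.coord a)) s, htc, map_smul, contractLeft_contractLeft, smul_zero,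
      smul_zero, neg_zero]
  · exact κ_eq_zero_of_parity b Q hx hpar

include hn in
theorem wEl_mem_odd : wEl b Q ∈ evenOdd Q 1 := by
  have h : (n : ZMod 2) = 1 := by
    rw [hn, Nat.cast_add, Nat.cast_mul, show ((2 : ℕ) : ZMod 2) = 0 from rfl, zero_mul, zero_add, Nat.cast_one]
  exact h ▸ wEl_mem b Q

include hn hQ in
theorem isUnit_wEl_odd : IsUnit (wEl b Q) :=
  isUnit_of_sq Q (((isUnit_neg_one (α := R)).pow m).mul hQ) (wEl_sq_odd b Q hn)

include hn hQ in
/-- An odd central element is a multiple of the volume element. -/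
theorem eq_smul_wEl {x : CliffordAlgebra Q} (hx : x ∈ evenOdd Q 1) (hc : ∀ v, x * ι Q v = ι Q v * x) :
    ∃ r : R, x = r • wEl b Q := by
  obtain ⟨s, hs⟩ := eq_algebraMap_of_even_comm_odd b Q hn hQ (x := wEl b Q * x)
    (mul_mem_zero_of_odd Q (wEl_mem_odd b Q hn) hx) fun v => by
      rw [mul_assoc, hc, ← mul_assoc, wEl_comm_odd b Q hn, mul_assoc]
  obtain ⟨d, hd⟩ := ((isUnit_neg_one (α := R)).pow m).mul hQ
  refine ⟨↑d⁻¹ * s, ?_⟩
  have := congrArg (fun t => wEl b Q * t) hs
  simp only [← mul_assoc, wEl_sq_odd b Q hn, ← hd, ← Algebra.commutes, ← Algebra.smul_def] at this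
  rw [mul_smul, ← this, smul_smul, Units.inv_mul, one_smul]

include hn hQ in
/-- The centre is spanned by `1` and the volume element. -/
theorem exists_of_center {x : CliffordAlgebra Q} (hx : ∀ v, x * ι Q v = ι Q v * x) :
    ∃ a r : R, x = algebraMap R _ a + r • wEl b Q := by
  obtain ⟨x0, h0, x1, h1, rfl⟩ := exists_even_odd_decomp Q x
  have hparts : ∀ v, x0 * ι Q v = ι Q v * x0 ∧ x1 * ι Q v = ι Q v * x1 := fun v => by
    have hv : (x0 * ι Q v - ι Q v * x0) + (x1 * ι Q v - ι Q v * x1) = 0 := by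
      rw [show (x0 * ι Q v - ι Q v * x0) + (x1 * ι Q v - ι Q v * x1) = (x0 + x1) * ι Q v - ι Q v * (x0 + x1) by
        noncomm_ring, hx, sub_self]
    have k1 : x0 * ι Q v - ι Q v * x0 ∈ evenOdd Q 1 := Submodule.sub_mem _
      (zero_add (1 : ZMod 2) ▸ SetLike.mul_mem_graded h0 (ι_mem_evenOdd_one Q v))
      (add_zero (1 : ZMod 2) ▸ SetLike.mul_mem_graded (ι_mem_evenOdd_one Q v) h0)
    have k0 : x1 * ι Q v - ι Q v * x1 ∈ evenOdd Q 0 := Submodule.sub_mem _
      (mul_mem_zero_of_odd Q h1 (ι_mem_evenOdd_one Q v)) (mul_mem_zero_of_odd Q (ι_mem_evenOdd_one Q v) h1)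
    have hz := Submodule.disjoint_def.mp (evenOdd_isCompl Q).disjoint _ k0 (by
      rw [eq_neg_of_add_eq_zero_right hv]; exact Submodule.neg_mem _ k1)
    rw [hz, add_zero] at hv
    exact ⟨sub_eq_zero.mp hv, sub_eq_zero.mp hz⟩
  obtain ⟨a, rfl⟩ := eq_algebraMap_of_even_comm_odd b Q hn hQ h0 fun v => (hparts v).1
  obtain ⟨r, rfl⟩ := eq_smul_wEl b Q hn hQ h1 fun v => (hparts v).2
  exact ⟨a, r, rfl⟩

include hn hQ in
theorem wEl_indep {a r : R} (h : algebraMap R _ a + r • wEl b Q = 0) : a = 0 ∧ r = 0 := by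
  have hz : r • wEl b Q = 0 := by
    refine Submodule.disjoint_def.mp (evenOdd_isCompl Q).disjoint _ ?_
      (Submodule.smul_mem _ _ (wEl_mem_odd b Q hn))
    rw [eq_neg_of_add_eq_zero_right h]
    exact Submodule.neg_mem _ (SetLike.algebraMap_mem_graded _ _)
  rw [hz, add_zero, ← map_zero (algebraMap R (CliffordAlgebra Q))] at h
  refine ⟨algebraMap_injective b Q h, algebraMap_injective b Q ?_⟩
  rw [map_zero]
  exact (isUnit_wEl_odd b Q hn hQ).mul_left_eq_zero.mp (by rw [← Algebra.smul_def]; exact hz)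

include hn hQ in
/-- Elements commuting with the even part are central. -/
theorem comm_of_comm_even {x : CliffordAlgebra Q} (hx : ∀ y ∈ evenOdd Q 0, x * y = y * x) (v : M) :
    x * ι Q v = ι Q v * x := by
  have hW := isUnit_wEl_odd b Q hn hQ
  refine hW.mul_left_cancel ?_
  rw [← mul_assoc, wEl_comm_all_odd b Q hn x, mul_assoc, ← mul_assoc (wEl b Q) (ι Q v)]
  exact hx _ (mul_mem_zero_of_odd Q (wEl_mem_odd b Q hn) (ι_mem_evenOdd_one Q v))

include hn hQ in
/-- Normalising units induce isometries of determinant one. -/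
theorem exists_conj_det_one (u : (CliffordAlgebra Q)ˣ) (hu : u ∈ QuadGrp.GPin' Q) :
    ∃ g ∈ QuadGrp.SO' Q, ∀ v, (u : CliffordAlgebra Q) * ι Q v * ↑u⁻¹ = ι Q (g v) := by
  obtain ⟨g, hg, hgv, hgx⟩ := exists_conj b Q u hu
  refine ⟨g, ⟨hg, MonoidHom.mem_ker.mpr (Units.ext ?_)⟩, hgv⟩
  rw [LinearEquiv.coe_det, Units.val_one, ← sub_eq_zero]
  have h := map_wEl b Q (QuadGrp.isometryOfMem Q g hg)
  rw [hgx, ← wEl_comm_all_odd b Q hn, mul_assoc, Units.mul_inv, mul_one] at h
  refine (wEl_indep b Q hn hQ (a := 0) ?_).2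
  rw [map_zero, zero_add, sub_smul, one_smul, sub_eq_zero]
  exact h.symm

include hn hQ in
/-- The even part of a normalising unit is a central multiple of it. -/
theorem exists_even_part (u : (CliffordAlgebra Q)ˣ) (hu : u ∈ QuadGrp.GPin' Q) :
    ∃ u0 ∈ evenOdd Q 0, ∃ u1 ∈ evenOdd Q 1, (u : CliffordAlgebra Q) = u0 + u1 ∧ ∃ a c : R,
      u0 = (algebraMap R _ a + c • wEl b Q) * u ∧ u1 = (algebraMap R _ (1 - a) + (-c) • wEl b Q) * u ∧
      u0 = a • u0 + c • (wEl b Q * u1) ∧ a • u1 + c • (wEl b Q * u0) = 0 := by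
  obtain ⟨g, hg, -, hgx⟩ := exists_conj b Q u hu
  obtain ⟨u0, h0, u1, h1, hu01⟩ := exists_even_odd_decomp Q (u : CliffordAlgebra Q)
  have hcomm : ∀ y ∈ evenOdd Q 0, (↑u⁻¹ * u0) * y = y * (↑u⁻¹ * u0) := by
    intro y hy
    set y' := CliffordAlgebra.map (QuadGrp.isometryOfMem Q g hg) y with hy'
    have hy'0 : y' ∈ evenOdd Q 0 := by
      rw [hy']
      have := cmap_mem_evenOdd (compat_isometry b Q (QuadGrp.isometryOfMem Q g hg)) hy
      rwa [cmap_isometry] at this
    have hrel : (u : CliffordAlgebra Q) * y = y' * u := by rw [hy', hgx, Units.inv_mul_cancel_right]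
    rw [hu01, add_mul, mul_add] at hrel
    have k0 : u0 * y - y' * u0 = 0 := by
      refine Submodule.disjoint_def.mp (evenOdd_isCompl Q).disjoint _ ?_ ?_
      · exact Submodule.sub_mem _ (add_zero (0 : ZMod 2) ▸ SetLike.mul_mem_graded h0 hy)
          (add_zero (0 : ZMod 2) ▸ SetLike.mul_mem_graded hy'0 h0)
      · rw [show u0 * y - y' * u0 = y' * u1 - u1 * y by rw [sub_eq_sub_iff_add_eq_add, hrel]; abel]
        exact Submodule.sub_mem _ (zero_add (1 : ZMod 2) ▸ SetLike.mul_mem_graded hy'0 h1)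
          (add_zero (1 : ZMod 2) ▸ SetLike.mul_mem_graded h1 hy)
    rw [mul_assoc, sub_eq_zero.mp k0, hy', hgx]
    simp only [mul_assoc, Units.inv_mul_cancel_left]
  obtain ⟨a, c, hac⟩ := exists_of_center b Q hn hQ (comm_of_comm_even b Q hn hQ hcomm)
  have hcen : ∀ t, (algebraMap R _ a + c • wEl b Q) * t = t * (algebraMap R _ a + c • wEl b Q) := fun t => by
    rw [add_mul, mul_add, smul_mul_assoc, mul_smul_comm, wEl_comm_all_odd b Q hn, Algebra.commutes]
  have hu0 : u0 = (algebraMap R _ a + c • wEl b Q) * u := by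
    rw [hcen, ← hac, Units.mul_inv_cancel_left]
  have hu1 : u1 = (algebraMap R _ (1 - a) + (-c) • wEl b Q) * u := by
    rw [show algebraMap R _ (1 - a) + (-c) • wEl b Q = 1 - (algebraMap R _ a + c • wEl b Q) by
      rw [map_sub, map_one, neg_smul]; abel, sub_mul, one_mul, ← hu0, hu01, add_sub_cancel_left]
  have hW1 := wEl_mem_odd b Q hn
  have heq := hu0
  rw [hu01, add_mul, smul_mul_assoc, mul_add, mul_add, ← Algebra.smul_def, ← Algebra.smul_def, smul_add] at heq
  have k : u0 - (a • u0 + c • (wEl b Q * u1)) = 0 := by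
    refine Submodule.disjoint_def.mp (evenOdd_isCompl Q).disjoint _ ?_ ?_
    · exact Submodule.sub_mem _ h0 (Submodule.add_mem _ (Submodule.smul_mem _ _ h0)
        (Submodule.smul_mem _ _ (mul_mem_zero_of_odd Q hW1 h1)))
    · rw [show u0 - (a • u0 + c • (wEl b Q * u1)) = a • u1 + c • (wEl b Q * u0) by
        rw [sub_eq_iff_eq_add]; nth_rw 1 [heq]; abel]
      exact Submodule.add_mem _ (Submodule.smul_mem _ _ h1)
        (Submodule.smul_mem _ _ (add_zero (1 : ZMod 2) ▸ SetLike.mul_mem_graded hW1 h0))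
  refine ⟨u0, h0, u1, h1, hu01, a, c, hu0, hu1, sub_eq_zero.mp k, ?_⟩
  rw [← k, eq_sub_iff_add_eq]
  nth_rw 3 [heq]
  abel

include hn hQ in
/-- Over a local ring a normalising unit is central times even. -/
theorem exists_center_mul_even [IsLocalRing R] (u : (CliffordAlgebra Q)ˣ) (hu : u ∈ QuadGrp.GPin' Q) :
    ∃ z : CliffordAlgebra Q, z ∈ Subalgebra.center R (CliffordAlgebra Q) ∧ IsUnit z ∧
      ∃ w ∈ QuadGrp.GSpin Q, (u : CliffordAlgebra Q) = z * w := by
  obtain ⟨g, hg, hgv, -⟩ := exists_conj b Q u hu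
  obtain ⟨u0, h0, u1, h1, hu01, a, c, hu0, hu1, hk0, hk1⟩ := exists_even_part b Q hn hQ u hu
  obtain ⟨D, hD⟩ := ((isUnit_neg_one (α := R)).pow m).mul hQ
  have hWW : wEl b Q * wEl b Q = algebraMap R _ (D : R) := by rw [wEl_sq_odd b Q hn, hD]
  have hcen : ∀ (p q : R) (t : CliffordAlgebra Q),
      (algebraMap R _ p + q • wEl b Q) * t = t * (algebraMap R _ p + q • wEl b Q) := fun p q t => by
    rw [add_mul, mul_add, smul_mul_assoc, mul_smul_comm, wEl_comm_all_odd b Q hn, Algebra.commutes]
  have hN : ∀ p q : R, (algebraMap R _ p + (-q) • wEl b Q) * (algebraMap R _ p + q • wEl b Q) =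
      algebraMap R _ (p * p - q * q * D) := fun p q => by
    rw [add_mul, mul_add, mul_add, smul_mul_smul_comm, hWW, ← Algebra.smul_def, ← Algebra.smul_def,
      smul_mul_assoc (-q), ← Algebra.commutes, ← Algebra.smul_def]
    simp only [Algebra.algebraMap_eq_smul_one, smul_smul]
    module
  have key : ∃ p q : R, IsUnit (p * p - q * q * D) ∧
      ((algebraMap R _ p + q • wEl b Q) * u ∈ evenOdd Q 0) := by
    by_cases ha : IsUnit (a * a - c * c * D)
    · exact ⟨a, c, ha, hu0 ▸ h0⟩
    by_cases hb : IsUnit ((1 - a) * (1 - a) - c * c * D)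
    · refine ⟨(-c) * D, 1 - a, ?_, ?_⟩
      · rw [show (-c) * D * ((-c) * D) - (1 - a) * (1 - a) * D = -(D : R) * ((1 - a) * (1 - a) - c * c * D) by ring]
        exact D.isUnit.neg.mul hb
      · have : (algebraMap R _ ((-c) * D) + (1 - a) • wEl b Q) * (u : CliffordAlgebra Q) = wEl b Q * u1 := by
          rw [hu1, ← mul_assoc]
          congr 1
          rw [mul_add, mul_smul_comm, hWW, ← Algebra.commutes, ← Algebra.smul_def, Algebra.smul_def (-c), ← map_mul,
            add_comm]
        rw [this]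
        exact mul_mem_zero_of_odd Q (wEl_mem_odd b Q hn) h1
    exfalso
    rcases IsLocalRing.isUnit_or_isUnit_one_sub_self a with hau | hau
    · have hne : IsUnit (a - (a * a - c * c * D)) := by
        rcases IsLocalRing.isUnit_or_isUnit_of_isUnit_add (show IsUnit ((a - (a * a - c * c * D)) + (a * a - c * c * D)) by
          simpa using hau) with h | h
        exacts [h, absurd h ha]
      have hz : (a - (a * a - c * c * D)) • u0 = 0 := by
        have h3 := congrArg (c • ·) (congrArg (wEl b Q * ·) hk1)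
        simp only [mul_add, mul_smul_comm, ← mul_assoc, hWW, mul_zero, smul_zero, smul_add, smul_smul,
          ← Algebra.smul_def] at h3
        have h4 := congrArg (a • ·) hk0
        simp only [smul_add, smul_smul] at h4
        rw [← sub_eq_zero] at h4
        linear_combination (norm := module) h4 + h3
      have hz0 : u0 = 0 := hne.smul_eq_zero.mp hz
      rw [hz0, eq_comm, Units.mul_left_eq_zero] at hu0
      exact hau.ne_zero (wEl_indep b Q hn hQ hu0).1
    · have hne : IsUnit ((1 - a) - ((1 - a) * (1 - a) - c * c * D)) := by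
        rcases IsLocalRing.isUnit_or_isUnit_of_isUnit_add (show IsUnit (((1 - a) - ((1 - a) * (1 - a) - c * c * D)) +
          ((1 - a) * (1 - a) - c * c * D)) by simpa using hau) with h | h
        exacts [h, absurd h hb]
      have hz : ((1 - a) - ((1 - a) * (1 - a) - c * c * D)) • u1 = 0 := by
        have h3 := congrArg ((1 - a) • ·) hk1
        have h4 := congrArg (c • ·) (congrArg (wEl b Q * ·) hk0)
        simp only [smul_add, smul_zero, smul_smul] at h3
        simp only [mul_add, mul_smul_comm, ← mul_assoc, hWW, smul_add, smul_smul, ← Algebra.smul_def] at h4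
        rw [← sub_eq_zero] at h4
        linear_combination (norm := module) h3 - h4
      have hz1 : u1 = 0 := hne.smul_eq_zero.mp hz
      rw [hz1, eq_comm, Units.mul_left_eq_zero] at hu1
      exact hau.ne_zero (wEl_indep b Q hn hQ hu1).1
  obtain ⟨p, q, ⟨N, hNu⟩, heven⟩ := key
  set y : CliffordAlgebra Q := algebraMap R _ p + q • wEl b Q with hy
  set z : CliffordAlgebra Q := (↑N⁻¹ : R) • (algebraMap R _ p + (-q) • wEl b Q) with hz
  have hzy : z * y = 1 := by
    rw [hz, hy, smul_mul_assoc, hN, ← hNu, Algebra.smul_def, ← map_mul, Units.inv_mul, map_one]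
  have hyz : y * z = 1 := by rw [hy, hcen, ← hy, hzy]
  let yu : (CliffordAlgebra Q)ˣ := ⟨y, z, hyz, hzy⟩
  have hw : yu * u ∈ QuadGrp.GPin' Q := by
    refine (QuadGrp.GPin' Q).mul_mem ?_ hu
    rw [QuadGrp.mem_GPin']
    have hid : ∀ t : CliffordAlgebra Q, ConjAct.toConjAct yu • t = t := fun t => by
      rw [ConjAct.units_smul_def, ConjAct.ofConjAct_toConjAct]
      show y * t * z = t
      rw [hy, hcen, ← hy, mul_assoc, hyz, mul_one]
    exact SetLike.coe_injective (by rw [Submodule.coe_pointwise_smul, ← Set.image_smul]; simp [hid])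
  refine ⟨z, Subalgebra.mem_center_iff.mpr fun t => ?_, ⟨⟨z, y, hzy, hyz⟩, rfl⟩, yu * u,
    ⟨⟨hw, 1, IsIdempotentElem.one, by rw [one_smul]; exact heven, by simp⟩, heven⟩, ?_⟩
  · rw [hz, mul_smul_comm, smul_mul_assoc, hcen]
  · rw [Units.val_mul, ← mul_assoc]
    show _ = z * y * _
    rw [hzy, one_mul]

include hn hQ in
/-- In rank `3` modulo `4`, with `2` invertible, units of norm one are locally homogeneous. -/
theorem isLocHomog_of_normOne [Invertible (2 : R)] (hm : Odd m) (u : (CliffordAlgebra Q)ˣ)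
    (hu : u ∈ QuadGrp.GPin' Q) (hν : star (u : CliffordAlgebra Q) * u = 1) :
    QuadGrp.IsLocHomog Q (u : CliffordAlgebra Q) := by
  obtain ⟨u0, h0, u1, h1, hu01, a, c, hu0, hu1, -, -⟩ := exists_even_part b Q hn hQ u hu
  have hsW : star (wEl b Q) = wEl b Q := by
    rw [star_wEl_odd b Q hn, hm.add_one.neg_one_pow, one_smul]
  have hst : ∀ p q : R, star (algebraMap R _ p + q • wEl b Q) = algebraMap R _ p + q • wEl b Q := fun p q => by
    rw [star_add, CliffordAlgebra.star_algebraMap, CliffordAlgebra.star_smul, hsW]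
  have hcen : ∀ (p q : R) (t : CliffordAlgebra Q),
      (algebraMap R _ p + q • wEl b Q) * t = t * (algebraMap R _ p + q • wEl b Q) := fun p q t => by
    rw [add_mul, mul_add, smul_mul_assoc, mul_smul_comm, wEl_comm_all_odd b Q hn, Algebra.commutes]
  obtain ⟨D, hD⟩ := ((isUnit_neg_one (α := R)).pow m).mul hQ
  have hWW : wEl b Q * wEl b Q = algebraMap R _ (D : R) := by rw [wEl_sq_odd b Q hn, hD]
  have key : ∀ p q : R, ∀ x : CliffordAlgebra Q, ∀ i : ZMod 2, x ∈ evenOdd Q i →
      x = (algebraMap R _ p + q • wEl b Q) * (u : CliffordAlgebra Q) → p * q = 0 := by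
    intro p q x i hx hxe
    set y := algebraMap R _ p + q • wEl b Q with hy
    have hsq : star x * x = y * y := by
      rw [hxe, star_mul, hst, ← hy]
      rw [show star (u : CliffordAlgebra Q) * y * (y * u) = star (u : CliffordAlgebra Q) * u * (y * y) by
        simp only [mul_assoc]
        congr 1
        rw [hy, hcen p q, mul_assoc, hcen p q, mul_assoc], hν, one_mul]
    have hstar : star x ∈ evenOdd Q i := by
      rw [CliffordAlgebra.star_def]
      exact (CliffordAlgebra.reverse_mem_evenOdd_iff (Q := Q)).mpr ((CliffordAlgebra.involute_mem_evenOdd_iff (Q := Q)).mpr hx)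
    have hev : y * y ∈ evenOdd Q 0 := by
      rw [← hsq]
      have h2 := SetLike.mul_mem_graded hstar hx
      rwa [show i + i = 0 from (by decide : ∀ j : ZMod 2, j + j = 0) i] at h2
    have hodd : (2 * (p * q)) • wEl b Q ∈ evenOdd Q 0 := by
      rw [show (2 * (p * q)) • wEl b Q = y * y - algebraMap R _ (p * p + q * q * D) by
        rw [hy, add_mul, mul_add, mul_add, smul_mul_smul_comm, hWW, ← Algebra.smul_def, ← Algebra.smul_def,
          smul_mul_assoc q (wEl b Q), ← Algebra.commutes, ← Algebra.smul_def]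
        simp only [Algebra.algebraMap_eq_smul_one, smul_smul]
        module]
      exact Submodule.sub_mem _ hev (SetLike.algebraMap_mem_graded _ _)
    have hz := Submodule.disjoint_def.mp (evenOdd_isCompl Q).disjoint _ hodd
      (Submodule.smul_mem _ _ (wEl_mem_odd b Q hn))
    exact (isUnit_of_invertible (2 : R)).mul_right_eq_zero.mp
      (wEl_indep b Q hn hQ (a := 0) (by rw [map_zero, zero_add]; exact hz)).2
  have e1 := key a c u0 0 h0 hu0
  have e2 := key (1 - a) (-c) u1 1 h1 hu1
  have hc0 : c = 0 := by linear_combination e1 - e2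
  rw [hc0] at hu0 hu1
  simp only [neg_zero, zero_smul, add_zero, ← Algebra.smul_def] at hu0 hu1
  have hidem : a * a = a := by
    have h2 : a • u1 = 0 := by
      refine Submodule.disjoint_def.mp (evenOdd_isCompl Q).disjoint _ ?_ (Submodule.smul_mem _ _ h1)
      rw [show a • u1 = (1 - a) • u0 by rw [hu0, hu1, smul_smul, smul_smul, mul_comm]]
      exact Submodule.smul_mem _ _ h0
    rw [hu1, smul_smul, Algebra.smul_def, Units.mul_left_eq_zero, ← map_zero (algebraMap R (CliffordAlgebra Q))] at h2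
    linear_combination -(algebraMap_injective b Q h2)
  exact ⟨a, hidem, by rw [← hu0]; exact h0, by rw [← hu1]; exact h1⟩

end Groth.Agent.QFormLib
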