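import Groth.Agent.QFormLib.Residue
import Mathlib.RingTheory.AdjoinRoot
import Mathlib.RingTheory.Flat.FaithfullyFlat.Algebra
import Mathlib.RingTheory.Finiteness.FinitePresentationLocal
import Mathlib.RingTheory.Localization.Away.Basic
import Mathlib.RingTheory.RingHom.FinitePresentation
import Mathlib.RingTheory.Flat.Localization
import Mathlib.RingTheory.Spectrum.Prime.Topology

/-! Semiregular forms of odd rank split after a faithfully flat extension. -/

namespace Groth.Agent.QFormLib

open Matrix

universe u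

variable {R : Type u} [CommRing R] {n : ℕ}

/-- The form with coefficient table `a` becomes split over `A`. -/
def SplitsOver (A : Type u) [CommRing A] [Algebra R A] (a : Sym2 (Fin n) → R) : Prop :=
  ∃ φ : (Fin n → A) ≃ₗ[A] (Fin n → A),
    ∀ x, formOfTbl (algebraMap R A ∘ a) (φ x) = QuadGrp.splitForm A n x

/-- The form becomes split after a faithfully flat finitely presented extension. -/
def Split (R : Type u) [CommRing R] (a : Sym2 (Fin n) → R) : Prop :=
  ∃ (A : Type u) (_ : CommRing A) (_ : Algebra R A), Module.FaithfullyFlat R A ∧ Algebra.FinitePresentation R A ∧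
    SplitsOver A a

theorem Split.of_extension (A : Type u) [CommRing A] [Algebra R A] [Module.FaithfullyFlat R A]
    [Algebra.FinitePresentation R A] {a : Sym2 (Fin n) → R} (h : Split A (algebraMap R A ∘ a)) : Split R a := by
  obtain ⟨B, _, _, hf, hp, φ, hφ⟩ := h
  letI : Algebra R B := ((algebraMap A B).comp (algebraMap R A)).toAlgebra
  haveI : IsScalarTower R A B := IsScalarTower.of_algebraMap_eq fun _ => rfl
  haveI : Module.FaithfullyFlat R B := Module.FaithfullyFlat.trans R A B
  haveI : Algebra.FinitePresentation R B := Algebra.FinitePresentation.trans R A B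
  exact ⟨B, inferInstance, inferInstance, inferInstance, inferInstance, φ, hφ⟩

theorem formOfTbl_map_apply {S : Type*} [CommRing S] (σ : R →+* S) (a : Sym2 (Fin n) → R) (x : Fin n → R) :
    formOfTbl (σ ∘ a) (fun k => σ (x k)) = σ (formOfTbl a x) := by
  have h := (compat_formOfTbl σ a).map_form x
  rw [← h]
  congr 1
  funext k
  simp [svec_apply, Pi.single_apply]

theorem map_splitForm {S : Type*} [CommRing S] (σ : R →+* S) (x : Fin n → R) :
    QuadGrp.splitForm S n (fun k => σ (x k)) = σ (QuadGrp.splitForm R n x) := by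
  simp only [QuadGrp.splitForm, _root_.QuadraticMap.add_apply, map_add]
  congr 1
  · rw [_root_.QuadraticMap.sum_apply, _root_.QuadraticMap.sum_apply, map_sum]
    simp
  · split_ifs <;> simp

theorem Split.of_cover {ι : Type u} [Fintype ι] (f : ι → R) (hf : Ideal.span (Set.range f) = ⊤)
    {a : Sym2 (Fin n) → R} (h : ∀ i, Split (Localization.Away (f i)) (algebraMap R (Localization.Away (f i)) ∘ a)) :
    Split R a := by
  classical
  choose B hB hA hff hfp hsp using h
  letI : ∀ i, Algebra R (B i) := fun i => ((algebraMap (Localization.Away (f i)) (B i)).comp (algebraMap R _)).toAlgebra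
  haveI : ∀ i, IsScalarTower R (Localization.Away (f i)) (B i) := fun i => IsScalarTower.of_algebraMap_eq fun _ => rfl
  haveI : ∀ i, Module.Flat R (B i) := fun i => by
    haveI := hff i
    haveI : Module.Flat R (Localization.Away (f i)) := IsLocalization.flat _ (Submonoid.powers (f i))
    exact Module.Flat.trans R (Localization.Away (f i)) (B i)
  haveI : ∀ i, Algebra.FinitePresentation R (B i) := fun i => by
    haveI := hfp i
    haveI : Algebra.FinitePresentation R (Localization.Away (f i)) := IsLocalization.Away.finitePresentation (f i)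
    exact Algebra.FinitePresentation.trans R (Localization.Away (f i)) (B i)
  let A := ∀ i, B i
  haveI : Module.Flat R A :=
    Module.Flat.of_linearEquiv (DirectSum.linearEquivFunOnFintype R ι B).symm
  haveI : Module.FaithfullyFlat R A := Module.FaithfullyFlat.of_comap_surjective fun p => by
    obtain ⟨i, hi⟩ : ∃ i, f i ∉ p.asIdeal := by
      by_contra hc
      push Not at hc
      refine p.isPrime.ne_top (top_le_iff.mp (hf ▸ Ideal.span_le.mpr ?_))
      rintro _ ⟨i, rfl⟩
      exact hc i
    obtain ⟨q, hq⟩ : p ∈ Set.range (PrimeSpectrum.comap (algebraMap R (Localization.Away (f i)))) := by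
      rw [PrimeSpectrum.localization_away_comap_range (Localization.Away (f i)) (f i)]
      exact hi
    haveI := hff i
    obtain ⟨r, hr⟩ := PrimeSpectrum.comap_surjective_of_faithfullyFlat (B := B i) q
    refine ⟨PrimeSpectrum.comap (Pi.evalRingHom B i) r, ?_⟩
    rw [← hq, ← hr, ← PrimeSpectrum.comap_comp_apply, ← PrimeSpectrum.comap_comp_apply]
    rfl
  refine ⟨A, inferInstance, inferInstance, inferInstance, inferInstance, ?_⟩
  choose φ hφ using hsp
  let Φ : (Fin n → A) ≃ₗ[A] (Fin n → A) :=
    { toFun := fun x k i => φ i (fun l => x l i) k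
      map_add' := fun x y => by
        funext k i
        exact congrFun (map_add (φ i) (fun l => x l i) (fun l => y l i)) k
      map_smul' := fun c x => by
        funext k i
        exact congrFun (map_smul (φ i) (c i) (fun l => x l i)) k
      invFun := fun x k i => (φ i).symm (fun l => x l i) k
      left_inv := fun x => by funext k i; exact congrFun ((φ i).symm_apply_apply (fun l => x l i)) k
      right_inv := fun x => by funext k i; exact congrFun ((φ i).apply_symm_apply (fun l => x l i)) k }
  refine ⟨Φ, fun x => funext fun i => ?_⟩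
  have h1 := formOfTbl_map_apply (Pi.evalRingHom B i) (algebraMap R A ∘ a) (Φ x)
  have h2 := map_splitForm (Pi.evalRingHom B i) x
  simp only [Pi.evalRingHom_apply] at h1 h2
  rw [← h1, ← h2]
  exact hφ i (fun l => x l i)

theorem formOfTbl_coeffs (Q : QuadraticForm R (Fin n → R)) :
    formOfTbl (QuadGrp.coeffs (Pi.basisFun R (Fin n)) (LinearEquiv.refl R R) Q) = Q := by
  ext x
  have h : Compat (RingHom.id R) (Pi.basisFun R (Fin n))
      (formOfTbl (QuadGrp.coeffs (Pi.basisFun R (Fin n)) (LinearEquiv.refl R R) Q)) (Pi.basisFun R (Fin n)) Q :=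
    compat_of_coeffs _ _ _ _ fun s => by rw [coeffs_formOfTbl]; rfl
  refine Eq.trans ?_ ((h.map_form x).symm.trans (congrArg Q ?_))
  · rfl
  · funext k; simp [svec_apply, Pi.single_apply]

theorem polar_formOfTbl_map {S : Type*} [CommRing S] (σ : R →+* S) (a : Sym2 (Fin n) → R) (x y : Fin n → R) :
    QuadraticMap.polar (formOfTbl (σ ∘ a)) (fun k => σ (x k)) (fun k => σ (y k)) =
      σ (QuadraticMap.polar (formOfTbl a) x y) := by
  simp only [QuadraticMap.polar, map_sub, ← formOfTbl_map_apply]
  congr 3
  funext k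
  simp

theorem halfDisc_formOfTbl_map {S : Type u} [CommRing S] (σ : R →+* S) (a : Sym2 (Fin n) → R) :
    QuadGrp.halfDisc (Pi.basisFun S (Fin n)) (LinearEquiv.refl S S) (formOfTbl (σ ∘ a)) =
      σ (QuadGrp.halfDisc (Pi.basisFun R (Fin n)) (LinearEquiv.refl R R) (formOfTbl a)) :=
  halfDisc_compat (compat_formOfTbl σ a)

theorem splitForm_succ (m : ℕ) (x : Fin (2 * m + 1 + 2) → R) :
    QuadGrp.splitForm R (2 * m + 1 + 2) x = QuadGrp.splitForm R (2 * m + 1) (fun i => x (Fin.castAdd 2 i)) +
      x (Fin.natAdd (2 * m + 1) 0) * x (Fin.natAdd (2 * m + 1) 1) := by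
  have e1 : (2 * m + 1 + 2) % 2 = 1 := by omega
  have e2 : (2 * m + 1) % 2 = 1 := by omega
  simp only [QuadGrp.splitForm, _root_.QuadraticMap.add_apply, _root_.QuadraticMap.sum_apply,
    QuadraticMap.linMulLin_apply, LinearMap.proj_apply, dif_pos e1, dif_pos e2, QuadraticMap.comp_apply]
  have h : (2 * m + 1 + 2) / 2 = (2 * m + 1) / 2 + 1 := by omega
  rw [← Equiv.sum_comp (finCongr h.symm), Fin.sum_univ_castSucc]
  have hsq : ∀ (k : ℕ) (h : 0 < k) (y : Fin k → R), (QuadraticMap.sq : QuadraticForm R R) (y ⟨0, h⟩) = y ⟨0, h⟩ * y ⟨0, h⟩ :=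
    fun k h y => rfl
  rw [add_right_comm]
  congr 1
  · congr 1
    · refine Finset.sum_congr rfl fun i _ => ?_
      congr 1 <;> congr 1 <;> apply Fin.ext <;> simp
  · congr 1 <;> congr 1 <;> apply Fin.ext <;> simp <;> omega

theorem splitForm_one (x : Fin 1 → R) : QuadGrp.splitForm R 1 x = x 0 * x 0 := by
  simp [QuadGrp.splitForm]

/-- The semiregular case of rank one. -/
theorem split_one (a : Sym2 (Fin 1) → R)
    (h : IsUnit (QuadGrp.halfDisc (Pi.basisFun R (Fin 1)) (LinearEquiv.refl R R) (formOfTbl a))) : Split R a := by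
  have hv : QuadGrp.halfDisc (Pi.basisFun R (Fin 1)) (LinearEquiv.refl R R) (formOfTbl a) = a (Sym2.mk 0 0) := by
    rw [halfDisc_of_split (k := 0) ⟨0, rfl⟩ _ _ fun j => j.elim0, Matrix.det_isEmpty, mul_one,
      ← coeffs_diag (Pi.basisFun R (Fin 1)) (formOfTbl a) 0, coeffs_formOfTbl]
  rw [hv] at h
  obtain ⟨d, hd⟩ := h
  let g : Polynomial R := Polynomial.X ^ 2 - Polynomial.C (↑d⁻¹ : R)
  have hg : g.Monic := Polynomial.monic_X_pow_sub_C _ two_ne_zero
  cases subsingleton_or_nontrivial R with
  | inl hs =>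
    exact ⟨R, inferInstance, Algebra.id R, inferInstance, inferInstance, LinearEquiv.refl R _,
      fun x => Subsingleton.elim _ _⟩
  | inr hs =>
    haveI := hg.free_adjoinRoot
    haveI : Nontrivial (AdjoinRoot g) :=
      nontrivial_of_ne _ 0 ((AdjoinRoot.powerBasis' hg).basis.ne_zero ⟨0, by
        show 0 < g.natDegree
        rw [Polynomial.natDegree_X_pow_sub_C]; exact two_pos⟩)
    let t : AdjoinRoot g := AdjoinRoot.root g
    have ht : t * t = algebraMap R (AdjoinRoot g) (↑d⁻¹ : R) := by
      have := AdjoinRoot.eval₂_root g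
      simp only [g, Polynomial.eval₂_sub, Polynomial.eval₂_X_pow, Polynomial.eval₂_C, sub_eq_zero] at this
      rw [← sq]; exact this
    have htd : t * (t * algebraMap R (AdjoinRoot g) (d : R)) = 1 := by
      rw [← mul_assoc, ht, ← map_mul, Units.inv_mul, map_one]
    let tu : (AdjoinRoot g)ˣ := ⟨t, t * algebraMap R (AdjoinRoot g) (d : R), htd, by rw [mul_comm]; exact htd⟩
    refine ⟨AdjoinRoot g, inferInstance, inferInstance, inferInstance,
      inferInstance, LinearEquiv.smulOfUnit tu, fun x => ?_⟩
    show formOfTbl _ ((t : AdjoinRoot g) • x) = _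
    have hx : x = x 0 • (Pi.basisFun (AdjoinRoot g) (Fin 1)) 0 := by
      funext i; fin_cases i; simp
    rw [QuadraticMap.map_smul, splitForm_one]
    conv_lhs => rw [hx, QuadraticMap.map_smul, ← coeffs_diag, coeffs_formOfTbl, Function.comp_apply, ← hd]
    simp only [smul_eq_mul]
    linear_combination (x 0 * x 0) * htd

section Step

variable {m : ℕ} (a : Sym2 (Fin (2 * m + 1 + 2)) → R)

/-- The form with table `a`. -/
local notation "Qa" => formOfTbl a

theorem det_blocks {k : ℕ} {S : Type*} [CommRing S] (B : Matrix (Fin k) (Fin k) S) :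
    (Matrix.reindex finSumFinEquiv finSumFinEquiv
      (Matrix.fromBlocks B 0 0 (!![0, 1; 1, 0] : Matrix (Fin 2) (Fin 2) S))).det = -B.det := by
  rw [Matrix.det_reindex_self, Matrix.det_fromBlocks_zero₁₂, Matrix.det_fin_two_of]
  ring

/-- The upper matrix of the sum with a hyperbolic plane. -/
def blockUpper {k : ℕ} {S : Type*} [CommRing S] (B : Matrix (Fin k) (Fin k) S) : Matrix (Fin (k + 2)) (Fin (k + 2)) S :=
  Matrix.reindex finSumFinEquiv finSumFinEquiv
    (Matrix.fromBlocks B 0 0 (!![0, 1; 0, 0] : Matrix (Fin 2) (Fin 2) S))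

theorem blockUpper_add_transpose {k : ℕ} {S : Type*} [CommRing S] (B : Matrix (Fin k) (Fin k) S) :
    blockUpper B + (blockUpper B)ᵀ = Matrix.reindex finSumFinEquiv finSumFinEquiv
      (Matrix.fromBlocks (B + Bᵀ) 0 0 (!![0, 1; 1, 0] : Matrix (Fin 2) (Fin 2) S)) := by
  ext i j
  obtain ⟨i, rfl⟩ := finSumFinEquiv.surjective i
  obtain ⟨j, rfl⟩ := finSumFinEquiv.surjective j
  simp only [blockUpper, Matrix.reindex_apply, Matrix.add_apply, Matrix.transpose_apply, Matrix.submatrix_apply,
    Equiv.symm_apply_apply]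
  rcases i with i | i <;> rcases j with j | j <;> simp
  fin_cases i <;> fin_cases j <;> simp

theorem hd_blockUpper {k : ℕ} (hk : Odd k) {S : Type u} [CommRing S] (B : Matrix (Fin k) (Fin k) S) :
    hd (blockUpper B) = -hd B := by
  have hk2 : Odd (k + 2) := hk.add_even even_two
  let V := MvPolynomial (Fin k × Fin k) ℤ
  let B₀ : Matrix (Fin k) (Fin k) V := Matrix.of fun i j => MvPolynomial.X (i, j)
  let φ : V →+* S := MvPolynomial.eval₂Hom (Int.castRingHom S) fun x => B x.1 x.2
  have hV : hd (blockUpper B₀) = -hd B₀ := by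
    refine mul_left_cancel₀ (two_ne_zero (α := V)) ?_
    rw [two_mul_hd hk2, mul_neg, two_mul_hd hk, blockUpper_add_transpose, det_blocks]
  have h := congrArg φ hV
  rw [← hd_map, map_neg, ← hd_map] at h
  have hB : B₀.map φ = B := by ext i j; exact MvPolynomial.eval₂Hom_X' _ _ _
  have hBl : (blockUpper B₀).map φ = blockUpper B := by
    rw [← hB]
    ext i j
    obtain ⟨i, rfl⟩ := finSumFinEquiv.surjective i
    obtain ⟨j, rfl⟩ := finSumFinEquiv.surjective j
    simp only [blockUpper, Matrix.reindex_apply, Matrix.map_apply, Matrix.submatrix_apply, Equiv.symm_apply_apply]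
    rcases i with i | i <;> rcases j with j | j <;> simp
    fin_cases i <;> fin_cases j <;> simp
  rwa [hBl, hB] at h

variable {a}

/-- Splitting off a hyperbolic plane with free complement. -/
theorem step_complement (ih : ∀ (A : Type u) [CommRing A] (a' : Sym2 (Fin (2 * m + 1)) → A),
      IsUnit (QuadGrp.halfDisc (Pi.basisFun A (Fin (2 * m + 1))) (LinearEquiv.refl A A) (formOfTbl a')) → Split A a')
    (h : IsUnit (QuadGrp.halfDisc (Pi.basisFun R (Fin (2 * m + 1 + 2))) (LinearEquiv.refl R R) (formOfTbl a)))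
    (v w : Fin (2 * m + 1 + 2) → R) (hv : Qa v = 0) (hw : Qa w = 0) (hvw : QuadraticMap.polar Qa v w = 1)
    (a' b' : Fin (2 * m + 1 + 2)) (hab : IsUnit (v a' * w b' - v b' * w a')) : Split R a := by
  cases subsingleton_or_nontrivial R with
  | inl hs =>
    exact ⟨R, inferInstance, Algebra.id R, inferInstance, inferInstance, LinearEquiv.refl R _,
      fun x => Subsingleton.elim _ _⟩
  | inr hs =>
    have hne : a' ≠ b' := fun e => by simp [e] at hab
    obtain ⟨D, hD⟩ := hab
    let e : Fin (2 * m + 1) ≃ {k // k ∉ ({a', b'} : Finset (Fin (2 * m + 1 + 2)))} :=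
      (Fintype.equivFinOfCardEq (by
        rw [Fintype.card_subtype_compl, Fintype.card_fin, Fintype.card_coe, Finset.card_pair hne]
        omega)).symm
    let π : (Fin (2 * m + 1 + 2) → R) →ₗ[R] (Fin (2 * m + 1 + 2) → R) :=
      LinearMap.id - ((QuadraticMap.polarBilin Qa w).smulRight v + (QuadraticMap.polarBilin Qa v).smulRight w)
    let c : Fin (2 * m + 1 + 2) → (Fin (2 * m + 1 + 2) → R) :=
      Fin.append (fun i => π (Pi.single (e i).1 1)) ![v, w]
    have hspan : ⊤ ≤ Submodule.span R (Set.range c) := by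
      have hcv : v ∈ Submodule.span R (Set.range c) :=
        Submodule.subset_span ⟨Fin.natAdd _ 0, by simp [c]⟩
      have hcw : w ∈ Submodule.span R (Set.range c) :=
        Submodule.subset_span ⟨Fin.natAdd _ 1, by simp [c]⟩
      have hrest : ∀ k, k ≠ a' → k ≠ b' → Pi.single k 1 ∈ Submodule.span R (Set.range c) := fun k hka hkb => by
        obtain ⟨i, hi⟩ := e.surjective ⟨k, by simp [hka, hkb]⟩
        have h1 : π (Pi.single k 1) ∈ Submodule.span R (Set.range c) :=
          Submodule.subset_span ⟨Fin.castAdd 2 i, by simp [c, hi]⟩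
        have h2 := Submodule.add_mem _ h1 (Submodule.add_mem _
          (Submodule.smul_mem _ (QuadraticMap.polarBilin Qa w (Pi.single k 1)) hcv)
          (Submodule.smul_mem _ (QuadraticMap.polarBilin Qa v (Pi.single k 1)) hcw))
        simpa [π] using h2
      have hx : ∀ x : Fin (2 * m + 1 + 2) → R, x ∈ Submodule.span R (Set.range c) →
          x a' • Pi.single a' (1 : R) + x b' • Pi.single b' (1 : R) ∈ Submodule.span R (Set.range c) := fun x hxs => by
        have h3 : x - ∑ k ∈ (Finset.univ : Finset (Fin (2 * m + 1 + 2))) \ {a', b'}, x k • Pi.single k (1 : R) =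
            x a' • Pi.single a' (1 : R) + x b' • Pi.single b' (1 : R) := by
          rw [sub_eq_iff_eq_add, ← Finset.sum_pair (f := fun k => x k • Pi.single k (1 : R)) hne]
          exact (pi_eq_sum_univ' x).trans ((Finset.sum_sdiff (Finset.subset_univ _)).symm.trans (add_comm _ _))
        rw [← h3]
        refine Submodule.sub_mem _ hxs (Submodule.sum_mem _ fun k hk => Submodule.smul_mem _ _ ?_)
        simp only [Finset.mem_sdiff, Finset.mem_univ, true_and, Finset.mem_insert, Finset.mem_singleton, not_or] at hk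
        exact hrest k hk.1 hk.2
      have ea : Pi.single a' (1 : R) ∈ Submodule.span R (Set.range c) := by
        have h4 := Submodule.smul_mem _ (↑D⁻¹ : R) (Submodule.sub_mem _ (Submodule.smul_mem _ (w b') (hx v hcv))
          (Submodule.smul_mem _ (v b') (hx w hcw)))
        convert h4 using 1
        simp only [smul_add, smul_sub, smul_smul]
        have := D.inv_mul
        rw [hD] at this
        linear_combination (norm := module) (-this) • (Pi.single a' (1 : R) : Fin (2 * m + 1 + 2) → R)
      have eb : Pi.single b' (1 : R) ∈ Submodule.span R (Set.range c) := by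
        have h4 := Submodule.smul_mem _ (↑D⁻¹ : R) (Submodule.sub_mem _ (Submodule.smul_mem _ (v a') (hx w hcw))
          (Submodule.smul_mem _ (w a') (hx v hcv)))
        convert h4 using 1
        simp only [smul_add, smul_sub, smul_smul]
        have := D.inv_mul
        rw [hD] at this
        linear_combination (norm := module) (-this) • (Pi.single b' (1 : R) : Fin (2 * m + 1 + 2) → R)
      rintro x -
      rw [pi_eq_sum_univ' x]
      refine Submodule.sum_mem _ fun k _ => Submodule.smul_mem _ _ ?_
      by_cases hka : k = a'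
      · exact hka ▸ ea
      by_cases hkb : k = b'
      · exact hkb ▸ eb
      exact hrest k hka hkb
    have hsurj : Function.Surjective ((Pi.basisFun R (Fin (2 * m + 1 + 2))).constr R c) := by
      rw [← LinearMap.range_eq_top, Module.Basis.constr_range]
      exact top_unique hspan
    let φ₀ := LinearEquiv.ofBijective _ (OrzechProperty.bijective_of_surjective_endomorphism _ hsurj)
    let bc : Module.Basis (Fin (2 * m + 1 + 2)) R (Fin (2 * m + 1 + 2) → R) := (Pi.basisFun R _).map φ₀
    have hbc : ∀ i, bc i = c i := fun i => by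
      simp only [bc, φ₀, Module.Basis.map_apply, LinearEquiv.ofBijective_apply, Module.Basis.constr_basis]
    let ι₁ : (Fin (2 * m + 1) → R) →ₗ[R] (Fin (2 * m + 1 + 2) → R) :=
      Fintype.linearCombination R fun i => π (Pi.single (e i).1 1)
    let a₁ := QuadGrp.coeffs (Pi.basisFun R (Fin (2 * m + 1))) (LinearEquiv.refl R R) ((Qa).comp ι₁)
    have hperp : ∀ x, QuadraticMap.polar Qa v (π x) = 0 ∧ QuadraticMap.polar Qa w (π x) = 0 := fun x => by
      constructor
      · simp only [π, LinearMap.sub_apply, LinearMap.add_apply, LinearMap.id_apply, LinearMap.smulRight_apply,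
          QuadraticMap.polarBilin_apply_apply, QuadraticMap.polar_sub_right, QuadraticMap.polar_add_right,
          QuadraticMap.polar_smul_right, QuadraticMap.polar_self, hv, hvw, smul_eq_mul]
        simp
      · simp only [π, LinearMap.sub_apply, LinearMap.add_apply, LinearMap.id_apply, LinearMap.smulRight_apply,
          QuadraticMap.polarBilin_apply_apply, QuadraticMap.polar_sub_right, QuadraticMap.polar_add_right,
          QuadraticMap.polar_smul_right, QuadraticMap.polar_self, hw, QuadraticMap.polar_comm Qa w v, hvw, smul_eq_mul]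
        simp
    have hι : ∀ x, QuadraticMap.polar Qa v (ι₁ x) = 0 ∧ QuadraticMap.polar Qa w (ι₁ x) = 0 := fun x => by
      constructor <;> rw [← QuadraticMap.polarBilin_apply_apply, Fintype.linearCombination_apply, map_sum] <;>
        refine Finset.sum_eq_zero fun i _ => ?_ <;>
        rw [map_smul, QuadraticMap.polarBilin_apply_apply]
      · rw [(hperp _).1, smul_zero]
      · rw [(hperp _).2, smul_zero]
    have hφ₀ : ∀ x : Fin (2 * m + 1 + 2) → R, φ₀ x = ι₁ (fun i => x (Fin.castAdd 2 i)) +
        (x (Fin.natAdd (2 * m + 1) 0) • v + x (Fin.natAdd (2 * m + 1) 1) • w) := fun x => by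
      simp only [φ₀, LinearEquiv.ofBijective_apply, Module.Basis.constr_apply_fintype, Fin.sum_univ_add,
        Fin.sum_univ_two, ι₁, Fintype.linearCombination_apply]
      simp [c]
    have hform : ∀ x, Qa (φ₀ x) = (Qa).comp ι₁ (fun i => x (Fin.castAdd 2 i)) +
        x (Fin.natAdd (2 * m + 1) 0) * x (Fin.natAdd (2 * m + 1) 1) := fun x => by
      have e1 : ∀ y, QuadraticMap.polar Qa (ι₁ y) v = 0 := fun y => by
        rw [QuadraticMap.polar_comm]; exact (hι y).1
      have e2 : ∀ y, QuadraticMap.polar Qa (ι₁ y) w = 0 := fun y => by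
        rw [QuadraticMap.polar_comm]; exact (hι y).2
      simp only [hφ₀, QuadraticMap.map_add (Qa), QuadraticMap.map_smul, hv, hw, QuadraticMap.polar_add_right,
        QuadraticMap.polar_smul_right, QuadraticMap.polar_smul_left, e1, e2, hvw, QuadraticMap.comp_apply, smul_eq_mul]
      ring
    have ha₁ : IsUnit (QuadGrp.halfDisc (Pi.basisFun R (Fin (2 * m + 1))) (LinearEquiv.refl R R) (formOfTbl a₁)) := by
      obtain ⟨d, hd', hcd⟩ := halfDisc_change (show Odd (2 * m + 1 + 2) from ⟨m + 1, by ring⟩)
        (Pi.basisFun R _) bc (Qa)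
      have hu : IsUnit (QuadGrp.halfDisc bc (LinearEquiv.refl R R) (Qa)) := hcd ▸ hd'.mul h
      have ht : tbl (blockUpper (upperMat a₁)) = QuadGrp.coeffs bc (LinearEquiv.refl R R) (Qa) := by
        have key : Compat (RingHom.id R) bc (Qa) (Pi.basisFun R (Fin (2 * m + 1 + 2)))
            ((Qa).comp φ₀.toLinearMap) :=
          { diag := fun i => by simp [bc]
            polar := fun i j _ => by simp [bc, QuadraticMap.polar, map_add] }
        have hB : LinearMap.BilinMap.toQuadraticMap (Matrix.toLinearMap₂' R (blockUpper (upperMat a₁))) =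
            (Qa).comp φ₀.toLinearMap := by
          refine QuadraticMap.ext fun x => ?_
          rw [LinearMap.BilinMap.toQuadraticMap_apply, QuadraticMap.comp_apply, LinearEquiv.coe_coe, hform,
            ← formOfTbl_coeffs ((Qa).comp ι₁), Matrix.toLinearMap₂'_apply', formOfTbl,
            LinearMap.BilinMap.toQuadraticMap_apply, Matrix.toLinearMap₂'_apply']
          simp only [dotProduct, Matrix.mulVec, blockUpper, Matrix.reindex_apply, Matrix.submatrix_apply,
            Fin.sum_univ_add, finSumFinEquiv_symm_apply_castAdd, finSumFinEquiv_symm_apply_natAdd,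
            Matrix.fromBlocks_apply₁₁, Matrix.fromBlocks_apply₁₂, Matrix.fromBlocks_apply₂₁,
            Matrix.fromBlocks_apply₂₂, Matrix.zero_apply, zero_mul, Finset.sum_const_zero, add_zero, zero_add]
          congr 1
          simp [Fin.sum_univ_two]
        rw [← coeffs_eq_tbl_upper (blockUpper (upperMat a₁)), hB]
        funext s
        induction s using Sym2.inductionOn with
        | hf i j =>
          simp [QuadGrp.coeffs_mk, bc, QuadraticMap.polar, map_add]
      rw [← spec_halfDisc] at hu
      rw [← spec_halfDisc, spec, coeffs_formOfTbl, ← tbl_upperMat a₁]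
      have hb := hd_blockUpper (k := 2 * m + 1) ⟨m, rfl⟩ (upperMat a₁)
      rw [hd, hd, ht] at hb
      have hu' : IsUnit (-MvPolynomial.eval₂ (Int.castRingHom R) (tbl (upperMat a₁))
          (QuadGrp.halfDiscUniv (2 * m + 1))) := hb ▸ hu
      exact IsUnit.neg_iff _ |>.mp hu'
    obtain ⟨A, _, _, hff, hfp, ψ, hψ⟩ := ih R a₁ ha₁
    refine ⟨A, inferInstance, inferInstance, hff, hfp, ?_⟩
    let σ := algebraMap R A
    have hA : formOfTbl (σ ∘ a) = formOfTbl (σ ∘ a) := rfl
    let M0 : Matrix (Fin (2 * m + 1 + 2)) (Fin (2 * m + 1 + 2)) R := LinearMap.toMatrix' φ₀.toLinearMap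
    let M1 : Matrix (Fin (2 * m + 1 + 2)) (Fin (2 * m + 1 + 2)) R := LinearMap.toMatrix' φ₀.symm.toLinearMap
    have h01 : M0 * M1 = 1 := by
      rw [← LinearMap.toMatrix'_comp]; simp
    have h10 : M1 * M0 = 1 := by
      rw [← LinearMap.toMatrix'_comp]; simp
    let Φ₀ : (Fin (2 * m + 1 + 2) → A) ≃ₗ[A] (Fin (2 * m + 1 + 2) → A) :=
      LinearEquiv.ofLinear (Matrix.toLin' (M0.map σ)) (Matrix.toLin' (M1.map σ))
        (by rw [← Matrix.toLin'_mul, ← Matrix.map_mul, h01, Matrix.map_one σ σ.map_zero σ.map_one, Matrix.toLin'_one])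
        (by rw [← Matrix.toLin'_mul, ← Matrix.map_mul, h10, Matrix.map_one σ σ.map_zero σ.map_one, Matrix.toLin'_one])
    let E : (Fin (2 * m + 1 + 2) → A) ≃ₗ[A] (Fin (2 * m + 1) → A) × (Fin 2 → A) :=
      (LinearEquiv.funCongrLeft A A finSumFinEquiv) ≪≫ₗ LinearEquiv.sumArrowLequivProdArrow _ _ A A
    let Ψ : (Fin (2 * m + 1 + 2) → A) ≃ₗ[A] (Fin (2 * m + 1 + 2) → A) :=
      E ≪≫ₗ (ψ.prodCongr (LinearEquiv.refl A _)) ≪≫ₗ E.symm
    refine ⟨Ψ ≪≫ₗ Φ₀, fun x => ?_⟩
    have hΨ1 : ∀ i, Ψ x (Fin.castAdd 2 i) = ψ (fun l => x (Fin.castAdd 2 l)) i := fun i => by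
      simp [Ψ, E, LinearEquiv.sumArrowLequivProdArrow, Equiv.sumArrowEquivProdArrow, LinearEquiv.funCongrLeft_apply,
        LinearMap.funLeft, Function.comp_def]
    have hΨ2 : ∀ i, Ψ x (Fin.natAdd (2 * m + 1) i) = x (Fin.natAdd (2 * m + 1) i) := fun i => by
      simp [Ψ, E, LinearEquiv.sumArrowLequivProdArrow, Equiv.sumArrowEquivProdArrow, LinearEquiv.funCongrLeft_apply,
        LinearMap.funLeft, Function.comp_def]
    have key : ∀ y : Fin (2 * m + 1 + 2) → A, formOfTbl (σ ∘ a) (Φ₀ y) =
        formOfTbl (σ ∘ a₁) (fun i => y (Fin.castAdd 2 i)) +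
          y (Fin.natAdd (2 * m + 1) 0) * y (Fin.natAdd (2 * m + 1) 1) := by
      have hc : Compat σ (Pi.basisFun R (Fin (2 * m + 1 + 2))) ((Qa).comp φ₀.toLinearMap)
          (Pi.basisFun A (Fin (2 * m + 1 + 2))) ((formOfTbl (σ ∘ a)).comp Φ₀.toLinearMap) := by
        have hΦ : ∀ z : Fin (2 * m + 1 + 2) → R, Φ₀ (fun k => σ (z k)) = fun k => σ (φ₀ z k) := fun z => by
          funext k
          show (M0.map σ).mulVec (fun k => σ (z k)) k = σ (φ₀ z k)
          rw [show φ₀ z = M0.mulVec z from (LinearMap.toMatrix'_mulVec φ₀.toLinearMap z).symm]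
          exact (RingHom.map_mulVec σ M0 z k).symm
        have hsingle : ∀ i, (Pi.basisFun A (Fin (2 * m + 1 + 2))) i =
            fun k => σ ((Pi.basisFun R (Fin (2 * m + 1 + 2))) i k) := fun i => by
          funext k; simp [Pi.single_apply, apply_ite σ]
        exact
          { diag := fun i => by
              rw [QuadraticMap.comp_apply, QuadraticMap.comp_apply, LinearEquiv.coe_coe, LinearEquiv.coe_coe, hsingle,
                hΦ, formOfTbl_map_apply]
            polar := fun i j _ => by
              simp only [QuadraticMap.polar, QuadraticMap.comp_apply, LinearEquiv.coe_coe, map_add, hsingle, hΦ]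
              exact polar_formOfTbl_map σ a _ _ }
      have h1 : (formOfTbl (σ ∘ a)).comp Φ₀.toLinearMap =
          formOfTbl (σ ∘ QuadGrp.coeffs (Pi.basisFun R _) (LinearEquiv.refl R R) ((Qa).comp φ₀.toLinearMap)) := by
        rw [← formOfTbl_coeffs ((formOfTbl (σ ∘ a)).comp Φ₀.toLinearMap)]
        congr 1
        funext s
        induction s using Sym2.inductionOn with
        | hf i j =>
          rw [Function.comp_apply, QuadGrp.coeffs_mk, QuadGrp.coeffs_mk, apply_ite σ]
          split_ifs with hij
          · exact hc.diag i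
          · exact hc.polar i j hij
      intro y
      have h2 := congrFun (congrArg DFunLike.coe h1) y
      rw [QuadraticMap.comp_apply, LinearEquiv.coe_coe] at h2
      rw [h2]
      have hU : QuadGrp.coeffs (Pi.basisFun R _) (LinearEquiv.refl R R) ((Qa).comp φ₀.toLinearMap) =
          tbl (blockUpper (upperMat a₁)) := by
        rw [← coeffs_eq_tbl_upper (blockUpper (upperMat a₁))]
        congr 1
        refine QuadraticMap.ext fun x => ?_
        rw [LinearMap.BilinMap.toQuadraticMap_apply, QuadraticMap.comp_apply, LinearEquiv.coe_coe, hform,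
          ← formOfTbl_coeffs ((Qa).comp ι₁), Matrix.toLinearMap₂'_apply', formOfTbl,
          LinearMap.BilinMap.toQuadraticMap_apply, Matrix.toLinearMap₂'_apply']
        simp only [dotProduct, Matrix.mulVec, blockUpper, Matrix.reindex_apply, Matrix.submatrix_apply,
          Fin.sum_univ_add, finSumFinEquiv_symm_apply_castAdd, finSumFinEquiv_symm_apply_natAdd,
          Matrix.fromBlocks_apply₁₁, Matrix.fromBlocks_apply₁₂, Matrix.fromBlocks_apply₂₁,
          Matrix.fromBlocks_apply₂₂, Matrix.zero_apply, zero_mul, Finset.sum_const_zero, add_zero, zero_add]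
        congr 1
        simp [Fin.sum_univ_two]
      rw [hU]
      have hmap : (σ ∘ tbl (blockUpper (upperMat a₁))) = tbl (blockUpper (upperMat (σ ∘ a₁))) := by
        have := (tbl_map σ (blockUpper (upperMat a₁))).symm
        refine this.trans (congrArg tbl ?_)
        ext i j
        obtain ⟨i, rfl⟩ := finSumFinEquiv.surjective i
        obtain ⟨j, rfl⟩ := finSumFinEquiv.surjective j
        simp only [blockUpper, Matrix.reindex_apply, Matrix.map_apply, Matrix.submatrix_apply, Equiv.symm_apply_apply]
        rcases i with i | i <;> rcases j with j | j <;> simp [upperMat, apply_ite σ]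
        fin_cases i <;> fin_cases j <;> simp
      rw [hmap, ← coeffs_eq_tbl_upper (blockUpper (upperMat (σ ∘ a₁))), formOfTbl_coeffs,
        LinearMap.BilinMap.toQuadraticMap_apply, Matrix.toLinearMap₂'_apply', formOfTbl,
        LinearMap.BilinMap.toQuadraticMap_apply, Matrix.toLinearMap₂'_apply']
      simp only [dotProduct, Matrix.mulVec, blockUpper, Matrix.reindex_apply, Matrix.submatrix_apply,
        Fin.sum_univ_add, finSumFinEquiv_symm_apply_castAdd, finSumFinEquiv_symm_apply_natAdd,
        Matrix.fromBlocks_apply₁₁, Matrix.fromBlocks_apply₁₂, Matrix.fromBlocks_apply₂₁,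
        Matrix.fromBlocks_apply₂₂, Matrix.zero_apply, zero_mul, Finset.sum_const_zero, add_zero, zero_add]
      congr 1
      simp [Fin.sum_univ_two]
    show formOfTbl (σ ∘ a) (Φ₀ (Ψ x)) = _
    rw [key, splitForm_succ, hΨ2, hΨ2, show (fun i => Ψ x (Fin.castAdd 2 i)) = ψ (fun l => x (Fin.castAdd 2 l)) from
      funext hΨ1, hψ]
where
  coeffs_eq_tbl_upper {k : ℕ} {S : Type u} [CommRing S] (B : Matrix (Fin k) (Fin k) S) :
      QuadGrp.coeffs (Pi.basisFun S (Fin k)) (LinearEquiv.refl S S) (LinearMap.BilinMap.toQuadraticMap (Matrix.toLinearMap₂' S B)) =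
        tbl B := by
    rw [coeffs_eq_tbl (Pi.basisFun S (Fin k)) _ (Matrix.toLinearMap₂' S B) rfl]
    congr 1
    ext i j
    simp [LinearMap.toMatrix₂_apply, Matrix.toLinearMap₂'_apply', Matrix.mulVec_single, single_dotProduct]

/-- Reduction to a hyperbolic pair. -/
theorem step_pair (ih : ∀ (A : Type u) [CommRing A] (a' : Sym2 (Fin (2 * m + 1)) → A),
      IsUnit (QuadGrp.halfDisc (Pi.basisFun A (Fin (2 * m + 1))) (LinearEquiv.refl A A) (formOfTbl a')) → Split A a')
    (h : IsUnit (QuadGrp.halfDisc (Pi.basisFun R (Fin (2 * m + 1 + 2))) (LinearEquiv.refl R R) (formOfTbl a)))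
    (v u' : Fin (2 * m + 1 + 2) → R) (hv : Qa v = 0) (hu : IsUnit (QuadraticMap.polar Qa v u')) : Split R a := by
  obtain ⟨r, hr⟩ := hu
  obtain ⟨u1, hu1⟩ : ∃ u1, u1 = (↑r⁻¹ : R) • u' := ⟨_, rfl⟩
  have h1 : QuadraticMap.polar Qa v u1 = 1 := by
    rw [hu1, QuadraticMap.polar_smul_right, ← hr, smul_eq_mul, Units.inv_mul]
  obtain ⟨w, hw⟩ : ∃ w, w = u1 + (-(Qa u1)) • v := ⟨_, rfl⟩
  have hw0 : Qa w = 0 := by
    rw [hw, QuadraticMap.map_add (Qa), QuadraticMap.map_smul, hv, QuadraticMap.polar_smul_right,
      QuadraticMap.polar_comm (Qa) u1 v, h1]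
    simp
  have hvw : QuadraticMap.polar Qa v w = 1 := by
    rw [hw, QuadraticMap.polar_add_right, QuadraticMap.polar_smul_right, QuadraticMap.polar_self, hv, h1]
    simp
  refine Split.of_cover (ι := ULift.{u} (Fin (2 * m + 1 + 2) × Fin (2 * m + 1 + 2)))
    (fun p => v p.down.1 * w p.down.2 - v p.down.2 * w p.down.1) ?_ fun p => ?_
  · rw [Ideal.eq_top_iff_one]
    have e : ∀ x y : Fin (2 * m + 1 + 2) → R,
        QuadraticMap.polar Qa x y = ∑ i, y i * QuadraticMap.polar Qa x (Pi.single i 1) := fun x y => by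
      conv_lhs => rw [pi_eq_sum_univ' y, ← QuadraticMap.polarBilin_apply_apply, map_sum]
      simp [QuadraticMap.polarBilin_apply_apply]
    have h2 : ∑ i, ∑ j, QuadraticMap.polar Qa w (Pi.single i 1) * QuadraticMap.polar Qa v (Pi.single j 1) *
        (v i * w j - v j * w i) = 1 := by
      simp only [mul_sub, Finset.sum_sub_distrib]
      have a1 : ∑ i, ∑ j, QuadraticMap.polar Qa w (Pi.single i 1) * QuadraticMap.polar Qa v (Pi.single j 1) *
          (v i * w j) = QuadraticMap.polar Qa w v * QuadraticMap.polar Qa v w := by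
        rw [e w v, e v w, Finset.sum_mul_sum]
        exact Finset.sum_congr rfl fun i _ => Finset.sum_congr rfl fun j _ => by ring
      have a2 : ∑ i, ∑ j, QuadraticMap.polar Qa w (Pi.single i 1) * QuadraticMap.polar Qa v (Pi.single j 1) *
          (v j * w i) = QuadraticMap.polar Qa w w * QuadraticMap.polar Qa v v := by
        rw [e w w, e v v, Finset.sum_mul_sum]
        exact Finset.sum_congr rfl fun i _ => Finset.sum_congr rfl fun j _ => by ring
      rw [a1, a2, QuadraticMap.polar_comm (Qa) w v, hvw, QuadraticMap.polar_self, hw0]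
      simp
    rw [← h2]
    exact Submodule.sum_mem _ fun i _ => Submodule.sum_mem _ fun j _ =>
      Ideal.mul_mem_left _ _ (Ideal.subset_span ⟨⟨(i, j)⟩, rfl⟩)
  · set f := v p.down.1 * w p.down.2 - v p.down.2 * w p.down.1 with hf
    let σ := algebraMap R (Localization.Away f)
    refine step_complement ih (by rw [halfDisc_formOfTbl_map]; exact h.map σ) (fun k => σ (v k)) (fun k => σ (w k))
      (by rw [formOfTbl_map_apply, hv, map_zero]) (by rw [formOfTbl_map_apply, hw0, map_zero])
      (by rw [polar_formOfTbl_map, hvw, map_one]) p.down.1 p.down.2 ?_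
    rw [← map_mul, ← map_mul, ← map_sub, ← hf]
    exact IsLocalization.Away.algebraMap_isUnit f

end Step

section Candidates

variable {K : Type u} [Field K] {V : Type*} [AddCommGroup V] [Module K V]

theorem exists_anisotropic_pair {m : ℕ} (hm : 1 ≤ m) (b : Module.Basis (Fin (2 * m + 1)) K V) (Q : QuadraticForm K V)
    (h : QuadGrp.halfDisc b (LinearEquiv.refl K K) Q ≠ 0) :
    ∃ i j k l : Fin (2 * m + 1), ∃ u w : V, (u = b i ∨ u = b i + b j) ∧ (w = b k ∨ w = b k + b l) ∧
      Q u * (QuadraticMap.polar Q u w * QuadraticMap.polar Q u w - 4 * Q u * Q w) ≠ 0 := by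
  by_contra hc
  push Not at hc
  set cand := fun u : V => ∃ i j, u = b i ∨ u = b i + b j
  have hD : ∀ u, cand u → Q u ≠ 0 → ∀ x, QuadraticMap.polar Q u x * QuadraticMap.polar Q u x = 4 * Q u * Q x := by
    intro u hu hQu
    obtain ⟨i, j, hu⟩ := hu
    let F : QuadraticForm K V := QuadraticMap.linMulLin (QuadraticMap.polarBilin Q u) (QuadraticMap.polarBilin Q u) -
      (4 * Q u) • Q
    have hF : ∀ x, F x = QuadraticMap.polar Q u x * QuadraticMap.polar Q u x - 4 * Q u * Q x := fun x => by simp [F]
    have h1 : ∀ k l, F (b k) = 0 ∧ F (b k + b l) = 0 := fun k l =>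
      ⟨by rw [hF]; exact (mul_eq_zero.mp (hc i j k l u (b k) hu (Or.inl rfl))).resolve_left hQu,
        by rw [hF]; exact (mul_eq_zero.mp (hc i j k l u (b k + b l) hu (Or.inr rfl))).resolve_left hQu⟩
    have hF0 : F = 0 := by
      rw [← QuadraticMap.toQuadraticMap_toBilin F b]
      have : F.toBilin b = 0 := b.ext fun k => b.ext fun l => by
        rw [QuadraticMap.toBilin_apply]
        split_ifs
        · exact (h1 k k).1
        · simp [QuadraticMap.polar, (h1 k l).1, (h1 k l).2, (h1 l l).1]
        · rfl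
      rw [this]; rfl
    intro x
    have := congrFun (congrArg DFunLike.coe hF0) x
    rw [hF] at this
    exact sub_eq_zero.mp this
  obtain ⟨hrad, hrank⟩ := (halfDisc_ne_zero_iff b Q).mp h
  obtain ⟨v0, hv0⟩ := rank_le_one_iff.mp hrank
  haveI : Module.Finite K V := Module.Finite.of_basis b
  have hline : ∀ (p q : Fin (2 * m + 1)), p ≠ q →
      QuadraticMap.polarBilin Q (b p) = 0 → QuadraticMap.polarBilin Q (b q) = 0 → False := by
    intro p q hpq hp hq
    obtain ⟨s, hs⟩ := hv0 ⟨b p, hp⟩
    obtain ⟨t, ht⟩ := hv0 ⟨b q, hq⟩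
    have hs' : s • v0.1 = b p := congrArg Subtype.val hs
    have ht' : t • v0.1 = b q := congrArg Subtype.val ht
    have e1 := congrArg (fun z => b.repr z p) hs'
    have e2 := congrArg (fun z => b.repr z p) ht'
    simp [Finsupp.single_apply, Ne.symm hpq] at e1 e2
    rcases e2 with e2 | e2
    · exact b.ne_zero q (by rw [← ht', e2, zero_smul])
    · rw [e2, mul_zero] at e1; exact zero_ne_one e1
  by_cases h2 : (2 : K) = 0
  · have hker : ∀ u, cand u → Q u ≠ 0 → QuadraticMap.polarBilin Q u = 0 := fun u hu hQu => LinearMap.ext fun x => by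
      have := hD u hu hQu x
      rw [show (4 : K) = 2 * 2 by norm_num, h2, zero_mul, zero_mul, zero_mul, mul_self_eq_zero] at this
      exact this
    have hP : ∀ p q, QuadraticMap.polar Q (b p) (b q) = 0 := fun p q => by
      by_contra hne
      have hp : Q (b p) = 0 := by
        by_contra h0
        exact hne (LinearMap.congr_fun (hker _ ⟨p, p, Or.inl rfl⟩ h0) (b q))
      have hq : Q (b q) = 0 := by
        by_contra h0
        exact hne (by rw [QuadraticMap.polar_comm]; exact LinearMap.congr_fun (hker _ ⟨q, q, Or.inl rfl⟩ h0) (b p))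
      have hpq : Q (b p + b q) ≠ 0 := by rwa [QuadraticMap.map_add Q, hp, hq, zero_add, zero_add]
      have := LinearMap.congr_fun (hker _ ⟨p, q, Or.inr rfl⟩ hpq) (b q)
      rw [QuadraticMap.polarBilin_apply_apply, QuadraticMap.polar_add_left, QuadraticMap.polar_self, hq, smul_zero,
        add_zero] at this
      exact hne this
    exact hline ⟨0, by omega⟩ ⟨1, by omega⟩ (by simp [Fin.ext_iff]) (b.ext fun q => hP _ q) (b.ext fun q => hP _ q)
  · obtain ⟨u, hu, hQu⟩ : ∃ u, cand u ∧ Q u ≠ 0 := by
      by_contra hne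
      push Not at hne
      have hne1 : ∀ i, Q (b i) = 0 := fun i => hne _ ⟨i, i, Or.inl rfl⟩
      have hne2 : ∀ i j, Q (b i + b j) = 0 := fun i j => hne _ ⟨i, j, Or.inr rfl⟩
      refine hline ⟨0, by omega⟩ ⟨1, by omega⟩ (by simp [Fin.ext_iff]) (b.ext fun q => ?_) (b.ext fun q => ?_) <;>
        simp [QuadraticMap.polar, hne1, hne2]
    let f : V →ₗ[K] K := QuadraticMap.polarBilin Q u
    have hker : ∀ z, f z = 0 → QuadraticMap.polarBilin Q z = 0 := fun z hz => LinearMap.ext fun x => by
      have e0 := hD u hu hQu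
      have e1 := e0 (z + x)
      rw [QuadraticMap.map_add Q, QuadraticMap.polar_add_right] at e1
      have e2 := e0 z
      have e3 := e0 x
      have hz' : QuadraticMap.polar Q u z = 0 := hz
      have h4 : (4 * Q u) * QuadraticMap.polar Q z x = 0 := by
        linear_combination -e1 + e2 + e3 + 2 * QuadraticMap.polar Q u x * hz'
      rw [show (4 : K) = 2 * 2 by norm_num] at h4
      simpa [h2, hQu] using h4
    have hu2 : f u ≠ 0 := by simpa [f, QuadraticMap.polar_self, h2] using hQu
    have hz : ∀ z, f z = 0 → z = 0 := fun z hz => by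
      refine (Submodule.eq_bot_iff _).mp hrad z ⟨?_, hker z hz⟩
      have := hD u hu hQu z
      have hz' : QuadraticMap.polar Q u z = 0 := hz
      rw [hz', zero_mul, show (4 : K) = 2 * 2 by norm_num] at this
      simpa [h2, hQu] using this.symm
    let p : Fin (2 * m + 1) := ⟨0, by omega⟩
    let q : Fin (2 * m + 1) := ⟨1, by omega⟩
    have hpq : p ≠ q := by simp [p, q, Fin.ext_iff]
    have h5 : f (f (b q) • b p - f (b p) • b q) = 0 := by simp [mul_comm]
    have h6 := congrArg (fun z => b.repr z p) (hz _ h5)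
    simp [Finsupp.single_apply, Ne.symm hpq] at h6
    exact b.ne_zero q (hz _ h6)

end Candidates

/-- Semiregular forms of odd rank split faithfully flat locally. -/
theorem split_of_semiregular (m : ℕ) : ∀ (R : Type u) [CommRing R] (a : Sym2 (Fin (2 * m + 1)) → R),
    IsUnit (QuadGrp.halfDisc (Pi.basisFun R (Fin (2 * m + 1))) (LinearEquiv.refl R R) (formOfTbl a)) → Split R a := by
  induction m with
  | zero => intro R _ a h; exact split_one a h
  | succ m ih =>
    intro R _ a h
    let Q := formOfTbl a
    let vec : Fin (2 * (m + 1) + 1) → Option (Fin (2 * (m + 1) + 1)) → (Fin (2 * (m + 1) + 1) → R) := fun i o =>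
      o.elim (Pi.single i 1) fun j => Pi.single i 1 + Pi.single j 1
    let cU := fun q : (Fin (2 * (m + 1) + 1) × Option (Fin (2 * (m + 1) + 1))) ×
        (Fin (2 * (m + 1) + 1) × Option (Fin (2 * (m + 1) + 1))) => vec q.1.1 q.1.2
    let cW := fun q : (Fin (2 * (m + 1) + 1) × Option (Fin (2 * (m + 1) + 1))) ×
        (Fin (2 * (m + 1) + 1) × Option (Fin (2 * (m + 1) + 1))) => vec q.2.1 q.2.2
    refine Split.of_cover (ι := ULift.{u} ((Fin (2 * (m + 1) + 1) × Option (Fin (2 * (m + 1) + 1))) ×
        (Fin (2 * (m + 1) + 1) × Option (Fin (2 * (m + 1) + 1)))))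
      (fun q => Q (cU q.down) * (QuadraticMap.polar Q (cU q.down) (cW q.down) *
        QuadraticMap.polar Q (cU q.down) (cW q.down) - 4 * Q (cU q.down) * Q (cW q.down))) ?_ fun q => ?_
    · by_contra hne
      obtain ⟨P, hP, hle⟩ := Ideal.exists_le_maximal _ hne
      haveI := hP.isPrime
      let σ := algebraMap R P.ResidueField
      let bK := Pi.basisFun P.ResidueField (Fin (2 * (m + 1) + 1))
      have hh : QuadGrp.halfDisc bK (LinearEquiv.refl _ _) (formOfTbl (σ ∘ a)) ≠ 0 := by
        rw [halfDisc_formOfTbl_map]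
        exact (h.map σ).ne_zero
      obtain ⟨i, j, k, l, u, w, hu, hw, hne'⟩ := exists_anisotropic_pair (Nat.succ_pos m) bK _ hh
      have hb : ∀ i, bK i = fun t => σ ((Pi.single i 1 : Fin (2 * (m + 1) + 1) → R) t) := fun i => by
        funext t; simp [bK, Pi.single_apply, apply_ite σ]
      have hvec : ∀ i j (z : Fin (2 * (m + 1) + 1) → P.ResidueField), (z = bK i ∨ z = bK i + bK j) →
          ∃ o, z = fun t => σ (vec i o t) := by
        rintro i j z (rfl | rfl)
        · exact ⟨none, hb i⟩
        · exact ⟨some j, by rw [hb, hb]; funext t; simp [vec]⟩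
      obtain ⟨o₁, rfl⟩ := hvec i j u hu
      obtain ⟨o₂, rfl⟩ := hvec k l w hw
      refine hne' ?_
      rw [formOfTbl_map_apply, formOfTbl_map_apply, polar_formOfTbl_map]
      have hmem := hle (Ideal.subset_span ⟨⟨((i, o₁), (k, o₂))⟩, rfl⟩)
      have h0 : σ _ = 0 := Ideal.algebraMap_residueField_eq_zero.mpr hmem
      rw [← h0]
      simp only [cU, cW, map_mul, map_sub, map_ofNat]
      rfl
    · set f := Q (cU q.down) * (QuadraticMap.polar Q (cU q.down) (cW q.down) *
        QuadraticMap.polar Q (cU q.down) (cW q.down) - 4 * Q (cU q.down) * Q (cW q.down)) with hf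
      let L := Localization.Away f
      let σ := algebraMap R L
      have hfu : IsUnit (σ f) := IsLocalization.Away.algebraMap_isUnit f
      have hh : IsUnit (QuadGrp.halfDisc (Pi.basisFun L _) (LinearEquiv.refl L L) (formOfTbl (σ ∘ a))) := by
        rw [halfDisc_formOfTbl_map]; exact h.map σ
      replace hfu : IsUnit (σ (Q (cU q.down))) ∧ IsUnit (σ (QuadraticMap.polar Q (cU q.down) (cW q.down) *
          QuadraticMap.polar Q (cU q.down) (cW q.down) - 4 * Q (cU q.down) * Q (cW q.down))) := by
        rw [← IsUnit.mul_iff, ← map_mul]; exact hfu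
      obtain ⟨du, hdu⟩ := hfu.1
      obtain ⟨p, hp⟩ : ∃ p, p = (↑du⁻¹ : L) * σ (QuadraticMap.polar Q (cU q.down) (cW q.down)) := ⟨_, rfl⟩
      obtain ⟨c, hc⟩ : ∃ c, c = (↑du⁻¹ : L) * σ (Q (cW q.down)) := ⟨_, rfl⟩
      cases subsingleton_or_nontrivial L with
      | inl hs =>
        exact ⟨L, inferInstance, Algebra.id L, inferInstance, inferInstance, LinearEquiv.refl L _,
          fun x => Subsingleton.elim _ _⟩
      | inr hs =>
        let g : Polynomial L := Polynomial.X ^ 2 + (Polynomial.C p * Polynomial.X + Polynomial.C c)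
        have hdeg : (Polynomial.C p * Polynomial.X + Polynomial.C c).degree < ((2 : ℕ) : WithBot ℕ) :=
          lt_of_le_of_lt (Polynomial.degree_linear_le) (by decide)
        have hg : g.Monic := Polynomial.monic_X_pow_add hdeg
        haveI := hg.free_adjoinRoot
        haveI : Nontrivial (AdjoinRoot g) := nontrivial_of_ne _ 0 ((AdjoinRoot.powerBasis' hg).basis.ne_zero ⟨0, by
          show 0 < g.natDegree
          rw [Polynomial.natDegree_eq_of_degree_eq_some (n := 2) (by
            rw [Polynomial.degree_add_eq_left_of_degree_lt (by rw [Polynomial.degree_X_pow]; exact hdeg),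
              Polynomial.degree_X_pow])]
          exact two_pos⟩)
        refine Split.of_extension (AdjoinRoot g) ?_
        let τ := algebraMap L (AdjoinRoot g)
        let t : AdjoinRoot g := AdjoinRoot.root g
        have ht : t * t + (τ p * t + τ c) = 0 := by
          have := AdjoinRoot.eval₂_root g
          simp only [g, Polynomial.eval₂_add, Polynomial.eval₂_X_pow, Polynomial.eval₂_mul, Polynomial.eval₂_C,
            Polynomial.eval₂_X] at this
          rw [← sq]; exact this
        let U' : Fin (2 * (m + 1) + 1) → AdjoinRoot g := fun k => τ (σ (cU q.down k))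
        let W' : Fin (2 * (m + 1) + 1) → AdjoinRoot g := fun k => τ (σ (cW q.down k))
        have htab : (τ : L → AdjoinRoot g) ∘ (σ ∘ a) = (τ.comp σ : R →+* AdjoinRoot g) ∘ a := rfl
        set QA := formOfTbl ((algebraMap L (AdjoinRoot g)) ∘ (σ ∘ a)) with hQA
        have hQU : QA U' = τ (du : L) := by
          rw [hdu, hQA, htab]
          exact formOfTbl_map_apply (τ.comp σ) a (cU q.down)
        have hQW : QA W' = τ ((du : L) * c) := by
          rw [hc, ← mul_assoc, Units.mul_inv, one_mul, hQA, htab]
          exact formOfTbl_map_apply (τ.comp σ) a (cW q.down)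
        have hPUW : QuadraticMap.polar QA U' W' = τ ((du : L) * p) := by
          rw [hp, ← mul_assoc, Units.mul_inv, one_mul, hQA, htab]
          exact polar_formOfTbl_map (τ.comp σ) a (cU q.down) (cW q.down)
        refine step_pair ih (by rw [halfDisc_formOfTbl_map]; exact hh.map _) (W' + t • U') U' ?_ ?_
        · show QA (W' + t • U') = 0
          rw [QuadraticMap.map_add QA, QuadraticMap.map_smul, QuadraticMap.polar_smul_right,
            QuadraticMap.polar_comm QA W' U', hQU, hQW, hPUW, smul_eq_mul, smul_eq_mul, map_mul, map_mul]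
          linear_combination τ (du : L) * ht
        · have hD : IsUnit ((QuadraticMap.polar QA (W' + t • U') U') * (QuadraticMap.polar QA (W' + t • U') U')) := by
            have h2 : IsUnit (τ ((du : L) * p * ((du : L) * p) - 4 * (du : L) * ((du : L) * c))) := by
              refine IsUnit.map τ ?_
              have e1 : (du : L) * p = σ (QuadraticMap.polar Q (cU q.down) (cW q.down)) := by
                rw [hp, ← mul_assoc, Units.mul_inv, one_mul]
              have e2 : (du : L) * c = σ (Q (cW q.down)) := by rw [hc, ← mul_assoc, Units.mul_inv, one_mul]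
              rw [e1, e2, hdu]
              simpa [map_sub, map_mul, map_ofNat] using hfu.2
            convert h2 using 1
            rw [QuadraticMap.polar_add_left, QuadraticMap.polar_smul_left, QuadraticMap.polar_self, hQU,
              QuadraticMap.polar_comm QA W' U', hPUW, smul_eq_mul, two_nsmul]
            simp only [map_sub, map_mul, map_ofNat]
            linear_combination 4 * τ (du : L) * τ (du : L) * ht
          exact (IsUnit.mul_iff.mp hD).1

section BaseChange

open scoped TensorProduct

variable {M : Type u} [AddCommGroup M] [Module R M] [Module.Free R M]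

theorem baseChangeForm_eq_formOfTbl {n : ℕ} (A : Type u) [CommRing A] [Algebra R A] (b : Module.Basis (Fin n) R M)
    (Q : QuadraticForm R M) (y : A ⊗[R] M) :
    QuadGrp.baseChangeForm A Q y =
      formOfTbl (algebraMap R A ∘ QuadGrp.coeffs b (LinearEquiv.refl R R) Q) ((b.baseChange A).equivFun y) := by
  have h0 := compat_baseChangeForm A b Q
  have hc : QuadGrp.coeffs (b.baseChange A) (LinearEquiv.refl A A) (QuadGrp.baseChangeForm A Q) =
      algebraMap R A ∘ QuadGrp.coeffs b (LinearEquiv.refl R R) Q := by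
    funext s
    induction s using Sym2.inductionOn with
    | hf i j =>
      rw [Function.comp_apply, QuadGrp.coeffs_mk, QuadGrp.coeffs_mk, apply_ite (algebraMap R A)]
      split_ifs with hij
      · exact h0.diag i
      · exact h0.polar i j hij
  have h : Compat (RingHom.id A) (b.baseChange A) (QuadGrp.baseChangeForm A Q) (Pi.basisFun A (Fin n))
      (formOfTbl (algebraMap R A ∘ QuadGrp.coeffs b (LinearEquiv.refl R R) Q)) :=
    compat_of_coeffs _ _ _ _ fun s => by rw [coeffs_formOfTbl, hc]; rfl
  refine (h.map_form y).symm.trans (congrArg _ ?_)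
  funext k
  simp [svec_apply, Pi.single_apply]

theorem formOfTbl_coeffs_splitForm (A : Type u) [CommRing A] [Algebra R A] (n : ℕ) :
    formOfTbl (algebraMap R A ∘ QuadGrp.coeffs (Pi.basisFun R (Fin n)) (LinearEquiv.refl R R)
      (QuadGrp.splitForm R n)) = QuadGrp.splitForm A n := by
  set σ := algebraMap R A with hσ
  have hsingle : ∀ i, (Pi.basisFun A (Fin n)) i = fun k => σ ((Pi.basisFun R (Fin n)) i k) := fun i => by
    funext k; simp [Pi.single_apply, apply_ite σ]
  rw [← formOfTbl_coeffs (QuadGrp.splitForm A n)]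
  congr 1
  funext s
  induction s using Sym2.inductionOn with
  | hf i j =>
    rw [Function.comp_apply, QuadGrp.coeffs_mk, QuadGrp.coeffs_mk, apply_ite σ]
    simp only [LinearEquiv.refl_apply, QuadraticMap.polar, map_sub, ← map_splitForm, hsingle]
    congr 4
    funext k
    simp

/-- Semiregular forms of odd rank are fppf locally isometric to the split form. -/
theorem exists_isometry_split {m : ℕ} (Q : QuadraticForm R (Fin (2 * m + 1) → R))
    (hQ : QuadGrp.IsSemiregular (Pi.basisFun R (Fin (2 * m + 1))) (LinearEquiv.refl R R) Q) :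
    ∃ (A : Type u) (_ : CommRing A) (_ : Algebra R A), Module.FaithfullyFlat R A ∧ Algebra.FinitePresentation R A ∧
      Nonempty ((QuadGrp.baseChangeForm A Q).IsometryEquiv
        (QuadGrp.baseChangeForm A (QuadGrp.splitForm R (2 * m + 1)))) := by
  rw [QuadGrp.IsSemiregular, ← formOfTbl_coeffs Q] at hQ
  obtain ⟨A, _, _, hff, hfp, φ, hφ⟩ := split_of_semiregular m R _ hQ
  let e := ((Pi.basisFun R (Fin (2 * m + 1))).baseChange A).equivFun
  refine ⟨A, inferInstance, inferInstance, hff, hfp, ⟨⟨e ≪≫ₗ φ.symm ≪≫ₗ e.symm, fun y => ?_⟩⟩⟩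
  rw [baseChangeForm_eq_formOfTbl A (Pi.basisFun R _), baseChangeForm_eq_formOfTbl A (Pi.basisFun R _) Q,
    formOfTbl_coeffs_splitForm]
  show QuadGrp.splitForm A _ (e (e.symm (φ.symm (e y)))) = _
  rw [e.apply_symm_apply, ← hφ, φ.apply_symm_apply]

end BaseChange

end Groth.Agent.QFormLib
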