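import Groth.Agent.QFormLib.Vol
import Groth.Agent.QFormLib.Disc
import Mathlib.Algebra.CharP.Algebra
import Mathlib.Algebra.MvPolynomial.CommRing
import Mathlib.Algebra.Order.Ring.Int
import Mathlib.RingTheory.Localization.FractionRing

/-! The volume element of a quadratic form, defined by specialising from the universal form. -/

namespace Groth.Agent.QFormLib

open CliffordAlgebra Matrix

universe u v u' v'

variable {R : Type u} [CommRing R] {S : Type u'} [CommRing S] {n : ℕ}

/-- The upper triangular matrix with a given coefficient table. -/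
def upperMat (a : Sym2 (Fin n) → R) : Matrix (Fin n) (Fin n) R :=
  Matrix.of fun i j => if i ≤ j then a (Sym2.mk i j) else 0

theorem tbl_upperMat (a : Sym2 (Fin n) → R) : tbl (upperMat a) = a := by
  funext s
  induction s using Sym2.inductionOn with
  | hf i j =>
    rw [tbl_mk]
    simp only [upperMat, Matrix.of_apply]
    rcases lt_trichotomy i j with h | rfl | h
    · simp [h.ne, h.le, not_le.mpr h]
    · simp
    · simp [h.ne', h.le, not_le.mpr h, Sym2.eq_swap]

/-- The quadratic form with a given coefficient table. -/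
noncomputable def formOfTbl (a : Sym2 (Fin n) → R) : QuadraticForm R (Fin n → R) :=
  LinearMap.BilinMap.toQuadraticMap (Matrix.toLinearMap₂' R (upperMat a))

theorem coeffs_formOfTbl (a : Sym2 (Fin n) → R) :
    QuadGrp.coeffs (Pi.basisFun R (Fin n)) (LinearEquiv.refl R R) (formOfTbl a) = a := by
  rw [coeffs_eq_tbl (Pi.basisFun R (Fin n)) (formOfTbl a) (Matrix.toLinearMap₂' R (upperMat a)) rfl]
  conv_rhs => rw [← tbl_upperMat a]
  congr 1
  ext i j
  simp [LinearMap.toMatrix₂_apply, Matrix.toLinearMap₂'_apply', Matrix.mulVec_single, single_dotProduct]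

variable {M : Type v} [AddCommGroup M] [Module R M] {N : Type v'} [AddCommGroup N] [Module S N]

theorem coeffs_diag (b : Module.Basis (Fin n) R M) (Q : QuadraticForm R M) (i : Fin n) :
    QuadGrp.coeffs b (LinearEquiv.refl R R) Q (Sym2.mk i i) = Q (b i) := by
  rw [QuadGrp.coeffs_mk, if_pos rfl, LinearEquiv.refl_apply]

theorem coeffs_off (b : Module.Basis (Fin n) R M) (Q : QuadraticForm R M) {i j : Fin n} (h : i ≠ j) :
    QuadGrp.coeffs b (LinearEquiv.refl R R) Q (Sym2.mk i j) = QuadraticMap.polar Q (b i) (b j) := by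
  rw [QuadGrp.coeffs_mk, if_neg h, LinearEquiv.refl_apply]

theorem compat_of_coeffs {σ : R →+* S} (b : Module.Basis (Fin n) R M) (Q : QuadraticForm R M)
    (c : Module.Basis (Fin n) S N) (Q' : QuadraticForm S N)
    (h : ∀ s, σ (QuadGrp.coeffs b (LinearEquiv.refl R R) Q s) = QuadGrp.coeffs c (LinearEquiv.refl S S) Q' s) :
    Compat σ b Q c Q' where
  diag i := by rw [← coeffs_diag b Q, h, coeffs_diag]
  polar i j hij := by rw [← coeffs_off b Q hij, h, coeffs_off c Q' hij]

theorem compat_formOfTbl (σ : R →+* S) (a : Sym2 (Fin n) → R) :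
    Compat σ (Pi.basisFun R (Fin n)) (formOfTbl a) (Pi.basisFun S (Fin n)) (formOfTbl (σ ∘ a)) :=
  compat_of_coeffs _ _ _ _ fun s => by rw [coeffs_formOfTbl, coeffs_formOfTbl]; rfl

/-- The polar matrix. -/
def polMat (b : Fin n → M) (Q : QuadraticForm R M) : Matrix (Fin n) (Fin n) R :=
  Matrix.of fun i j => QuadraticMap.polar Q (b i) (b j)

/-- The coefficient ring of the universal form. -/
abbrev U (n : ℕ) : Type := MvPolynomial (Sym2 (Fin n)) ℤ

/-- The universal quadratic form. -/
noncomputable def univQ (n : ℕ) : QuadraticForm (U n) (Fin n → U n) := formOfTbl MvPolynomial.X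

/-- The standard basis over the universal ring. -/
noncomputable def univB (n : ℕ) : Module.Basis (Fin n) (U n) (Fin n → U n) := Pi.basisFun (U n) (Fin n)

/-- Specialisation of the universal ring at a form. -/
noncomputable def spec (b : Module.Basis (Fin n) R M) (Q : QuadraticForm R M) : U n →+* R :=
  MvPolynomial.eval₂Hom (Int.castRingHom R) (QuadGrp.coeffs b (LinearEquiv.refl R R) Q)

theorem compat_spec (b : Module.Basis (Fin n) R M) (Q : QuadraticForm R M) :
    Compat (spec b Q) (univB n) (univQ n) b Q :=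
  compat_of_coeffs _ _ _ _ fun s => by
    rw [univB, univQ, coeffs_formOfTbl, spec, MvPolynomial.eval₂Hom_X']

theorem polMat_univ (n : ℕ) : polMat (univB n) (univQ n) = QuadGrp.univPolarMat n := by
  ext i j
  rw [polMat, Matrix.of_apply, QuadGrp.univPolarMat, Matrix.of_apply]
  have h := coeffs_formOfTbl (MvPolynomial.X (R := ℤ) (σ := Sym2 (Fin n)))
  split_ifs with hij
  · subst hij
    rw [QuadraticMap.polar_self, two_nsmul, two_mul, ← coeffs_diag (univB n) (univQ n)]
    rw [univB, univQ, h]
  · rw [← coeffs_off (univB n) (univQ n) hij, univB, univQ, h]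

theorem det_polMat (b : Module.Basis (Fin n) R M) (Q : QuadraticForm R M) :
    (polMat b Q).det = spec b Q (QuadGrp.discUniv n) := by
  rw [QuadGrp.discUniv, ← polMat_univ, RingHom.map_det]
  congr 1
  ext i j
  exact (compat_spec b Q).polar_all i j

theorem spec_halfDisc (b : Module.Basis (Fin n) R M) (Q : QuadraticForm R M) :
    spec b Q (QuadGrp.halfDiscUniv n) = QuadGrp.halfDisc b (LinearEquiv.refl R R) Q := rfl

section Cancel

theorem two_ne_zero_univ (n : ℕ) : (2 : U n) ≠ 0 := by norm_num

theorem smul_left_cancel_of_domain [IsDomain R] {b : Module.Basis (Fin n) R M} {Q : QuadraticForm R M} {r : R}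
    (hr : r ≠ 0) {x y : CliffordAlgebra Q} (h : r • x = r • y) : x = y :=
  eq_of_κ b Q fun S => mul_left_cancel₀ hr (by
    have := congrArg (κ b Q S) h
    simpa using this)

theorem mem_evenOdd_of_κ {b : Module.Basis (Fin n) R M} {Q : QuadraticForm R M} {x : CliffordAlgebra Q} {i : ZMod 2}
    (h : ∀ S : Finset (Fin n), (S.card : ZMod 2) ≠ i → κ b Q S x = 0) : x ∈ evenOdd Q i := by
  rw [eq_sum_κ b Q x]
  refine Submodule.sum_mem _ fun S _ => ?_
  by_cases hS : (S.card : ZMod 2) = i
  · exact Submodule.smul_mem _ _ (hS ▸ prodE_mem_evenOdd b Q S)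
  · rw [h S hS, zero_smul]; exact Submodule.zero_mem _

end Cancel

theorem cmap_top {σ : R →+* S} {b : Module.Basis (Fin n) R M} {Q : QuadraticForm R M} {c : Fin n → N}
    {Q' : QuadraticForm S N} (h : Compat σ b Q c Q') : cmap h (top b Q) = vol Q' (List.ofFn c) := by
  rw [top, cmap_vol, List.map_ofFn]
  congr 2
  funext i
  simp

section Field

variable {K : Type u} [Field K] [CharZero K] {V : Type v} [AddCommGroup V] [Module K V]

theorem exists_ortho_top (b : Module.Basis (Fin n) K V) (Q : QuadraticForm K V) :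
    ∃ o : Module.Basis (Fin n) K V, Ortho Q (List.ofFn o) ∧
      top b Q = (o.det b * 2 ^ n) • ((List.ofFn o).map (ι Q)).prod ∧
      (polMat b Q).det = o.det b ^ 2 * (2 ^ n * ((List.ofFn o).map Q).prod) := by
  haveI : Module.Finite K V := Module.Finite.of_basis b
  haveI : Invertible (2 : K) := invertibleOfNonzero two_ne_zero
  obtain ⟨o', ho'⟩ := LinearMap.BilinForm.exists_orthogonal_basis (B := QuadraticMap.polarBilin Q)
    ⟨fun x y => QuadraticMap.polar_comm Q x y⟩
  have hn : Module.finrank K V = n := (Module.finrank_eq_card_basis b).trans (Fintype.card_fin n)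
  let o := o'.reindex (finCongr hn)
  have ho : ∀ i j, i ≠ j → QuadraticMap.polar Q (o i) (o j) = 0 := fun i j hij => by
    simp only [o, Module.Basis.reindex_apply]
    exact ho' fun h => hij ((finCongr hn).symm.injective h)
  have hO : Ortho Q (List.ofFn o) := List.pairwise_ofFn.mpr fun i j hij => ho i j hij.ne
  refine ⟨o, hO, ?_, ?_⟩
  · rw [show top b Q = vol Q (List.ofFn b) from rfl, vol_eq_det_smul o Q b, top, vol_ortho hO, List.length_ofFn,
      smul_smul]
  · have hd : polMat o Q = Matrix.diagonal fun i => 2 * Q (o i) := by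
      ext i j
      rw [polMat, Matrix.of_apply, Matrix.diagonal_apply]
      split_ifs with h
      · subst h; rw [QuadraticMap.polar_self, two_nsmul, two_mul]
      · exact ho i j h
    have hc : (o.toMatrix b)ᵀ * polMat o Q * o.toMatrix b = polMat b Q := by
      have e : ∀ c : Module.Basis (Fin n) K V,
          polMat c Q = LinearMap.toMatrix₂ c c (QuadraticMap.polarBilin Q) := fun c => by
        ext i j; simp [polMat, LinearMap.toMatrix₂_apply]
      rw [e, e, LinearMap.toMatrix₂_mul_basis_toMatrix]
    rw [← hc, Matrix.det_mul, Matrix.det_mul, Matrix.det_transpose, hd, Matrix.det_diagonal, ← Module.Basis.det_apply,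
      Finset.prod_mul_distrib, Finset.prod_const, Finset.card_univ, Fintype.card_fin, List.map_ofFn, List.prod_ofFn]
    simp only [Function.comp_apply]
    ring

theorem top_sq_field (b : Module.Basis (Fin n) K V) (Q : QuadraticForm K V) :
    top b Q * top b Q = algebraMap K _ (2 ^ n * revSign n * (polMat b Q).det) := by
  obtain ⟨o, hO, ht, hd⟩ := exists_ortho_top b Q
  rw [ht, hd, smul_mul_smul_comm, prod_sq_of_ortho hO, List.length_ofFn, Algebra.smul_def, ← map_mul]
  congr 1
  ring

theorem star_top_field (b : Module.Basis (Fin n) K V) (Q : QuadraticForm K V) :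
    star (top b Q) = ((-1 : K) ^ n * revSign n) • top b Q := by
  obtain ⟨o, hO, ht, -⟩ := exists_ortho_top b Q
  rw [ht, CliffordAlgebra.star_smul, star_prod_of_ortho hO, List.length_ofFn, smul_smul, smul_smul, mul_comm]

end Field

section UnivW

theorem exists_wU (n : ℕ) : ∃ w, top (univB n) (univQ n) = (2 : U n) ^ ((n + 1) / 2) • w := by
  have h := vol_mem_lev (univQ n) (List.ofFn (univB n))
  rw [List.length_ofFn] at h
  exact mem_div2.mp (lev_le_div2 (univQ n) n h)

/-- The universal volume element. -/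
noncomputable def wU (n : ℕ) : CliffordAlgebra (univQ n) := Classical.choose (exists_wU n)

theorem wU_spec (n : ℕ) : top (univB n) (univQ n) = (2 : U n) ^ ((n + 1) / 2) • wU n :=
  Classical.choose_spec (exists_wU n)

theorem pow_ne_zero_univ (n k : ℕ) : (2 : U n) ^ k ≠ 0 := pow_ne_zero _ (two_ne_zero_univ n)

theorem cancel_univ {n k : ℕ} {x y : CliffordAlgebra (univQ n)} (h : (2 : U n) ^ k • x = (2 : U n) ^ k • y) : x = y :=
  smul_left_cancel_of_domain (b := univB n) (pow_ne_zero_univ n k) h

theorem wU_mem (n : ℕ) : wU n ∈ evenOdd (univQ n) (n : ZMod 2) :=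
  mem_evenOdd_of_κ (b := univB n) fun S hS => by
    have h := κ_eq_zero_of_parity (univB n) (univQ n) (top_mem_evenOdd (univB n) (univQ n)) hS
    rw [wU_spec, map_smul, smul_eq_mul, mul_eq_zero] at h
    exact h.resolve_left (pow_ne_zero_univ n _)

theorem wU_comm_even {m : ℕ} (hn : n = 2 * m) (u : Fin n → U n) :
    wU n * ι (univQ n) u = -(ι (univQ n) u * wU n) := by
  have h := involute_mul_top (univB n) (univQ n) u
  have he : top (univB n) (univQ n) ∈ evenOdd (univQ n) 0 := by
    have h2 : (n : ZMod 2) = 0 := by rw [hn, Nat.cast_mul, show ((2 : ℕ) : ZMod 2) = 0 from rfl, zero_mul]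
    exact h2 ▸ top_mem_evenOdd _ _
  rw [involute_eq_of_mem_even he, wU_spec, smul_mul_assoc, mul_smul_comm, ← smul_neg] at h
  exact cancel_univ h

theorem wU_comm_odd {m : ℕ} (hn : n = 2 * m + 1) (u : Fin n → U n) :
    wU n * ι (univQ n) u = ι (univQ n) u * wU n := by
  have h := involute_mul_top (univB n) (univQ n) u
  have he : top (univB n) (univQ n) ∈ evenOdd (univQ n) 1 := by
    have h2 : (n : ZMod 2) = 1 := by
      rw [hn, Nat.cast_add, Nat.cast_mul, show ((2 : ℕ) : ZMod 2) = 0 from rfl, zero_mul, zero_add, Nat.cast_one]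
    exact h2 ▸ top_mem_evenOdd _ _
  rw [involute_eq_of_mem_odd he, neg_mul, neg_inj, wU_spec, smul_mul_assoc, mul_smul_comm] at h
  exact cancel_univ h

/-- Comparison with the fraction field, where an orthogonal basis exists. -/
theorem top_univ_sq (n : ℕ) :
    top (univB n) (univQ n) * top (univB n) (univQ n) =
        algebraMap (U n) _ (2 ^ n * revSign n * QuadGrp.discUniv n) ∧
      star (top (univB n) (univQ n)) = ((-1 : U n) ^ n * revSign n) • top (univB n) (univQ n) := by
  let K := FractionRing (U n)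
  haveI : CharZero K := charZero_of_injective_algebraMap (IsFractionRing.injective (U n) K)
  let φ := algebraMap (U n) K
  have hc : Compat φ (univB n) (univQ n) (Pi.basisFun K (Fin n)) (formOfTbl (φ ∘ MvPolynomial.X)) :=
    compat_formOfTbl φ (MvPolynomial.X : Sym2 (Fin n) → U n)
  have hinj : Function.Injective (cmap hc) := cmap_injective hc (IsFractionRing.injective (U n) K)
  have hsign : ∀ r, φ (revSign r) = revSign r := fun r => by
    induction r with
    | zero => exact map_one φ
    | succ r ih => show φ ((-1) ^ r * revSign r) = (-1) ^ r * revSign r; rw [map_mul, ih]; simp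
  have htop : cmap hc (top (univB n) (univQ n)) = top (Pi.basisFun K (Fin n)) (formOfTbl (φ ∘ MvPolynomial.X)) :=
    cmap_top hc
  have hdet : φ (QuadGrp.discUniv n) = (polMat (Pi.basisFun K (Fin n)) (formOfTbl (φ ∘ MvPolynomial.X))).det := by
    rw [QuadGrp.discUniv, ← polMat_univ, RingHom.map_det]
    congr 1
    ext i j
    exact (hc.polar_all i j).symm
  constructor
  · refine hinj (?_ : cmap hc _ = cmap hc _)
    rw [map_mul, htop, top_sq_field]
    erw [cmap_algebraMap hc]
    congr 1
    rw [map_mul, map_mul, map_pow, map_ofNat, hsign, hdet]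
  · refine hinj (?_ : cmap hc _ = cmap hc _)
    rw [cmap_star hc]
    erw [cmap_smul hc]
    rw [htop, star_top_field, map_mul, map_pow, map_neg, map_one, hsign]

theorem wU_sq_even {m : ℕ} (hn : n = 2 * m) :
    wU n * wU n = algebraMap (U n) _ ((-1) ^ m * QuadGrp.discUniv n) := by
  have h := (top_univ_sq n).1
  have e : (n + 1) / 2 = m := by omega
  rw [wU_spec, e, smul_mul_smul_comm, ← pow_add, show m + m = n by omega,
    show (revSign n : U n) = (-1) ^ m by rw [hn, revSign_two_mul], mul_assoc, map_mul, ← Algebra.smul_def] at h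
  exact cancel_univ h

theorem wU_sq_odd {m : ℕ} (hn : n = 2 * m + 1) :
    wU n * wU n = algebraMap (U n) _ ((-1) ^ m * QuadGrp.halfDiscUniv n) := by
  have h := (top_univ_sq n).1
  have e : (n + 1) / 2 = m + 1 := by omega
  rw [wU_spec, e, smul_mul_smul_comm, ← pow_add, show m + 1 + (m + 1) = n + 1 by omega,
    show (revSign n : U n) = (-1) ^ m by rw [hn, revSign_two_mul_add_one],
    ← two_mul_halfDiscUniv ⟨m, hn⟩,
    show (2 : U n) ^ n * (-1) ^ m * (2 * QuadGrp.halfDiscUniv n) =
      2 ^ (n + 1) * ((-1) ^ m * QuadGrp.halfDiscUniv n) by ring, map_mul, ← Algebra.smul_def] at h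
  exact cancel_univ h

theorem wU_star_odd {m : ℕ} (hn : n = 2 * m + 1) : star (wU n) = ((-1 : U n) ^ (m + 1)) • wU n := by
  have h := (top_univ_sq n).2
  rw [wU_spec, CliffordAlgebra.star_smul, show ((-1 : U n) ^ n * revSign n) = (-1) ^ (m + 1) by
    rw [show (revSign n : U n) = (-1) ^ m by rw [hn, revSign_two_mul_add_one], Odd.neg_one_pow ⟨m, hn⟩, pow_succ',
      neg_one_mul], smul_comm] at h
  exact cancel_univ h

/-- In even rank the volume element is a scalar modulo two. -/
theorem exists_zU {m : ℕ} (hn : n = 2 * m) :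
    ∃ z ∈ evenOdd (univQ n) 0, ∃ p : U n, wU n = (2 : U n) • z - algebraMap (U n) _ p := by
  have h := vol_mem_lev (univQ n) (List.ofFn (univB n))
  rw [List.length_ofFn] at h
  obtain ⟨a, ha, b, hb, hab⟩ := Submodule.mem_sup.mp (lev_even_le (univQ n) m (by rw [← hn]; exact h))
  obtain ⟨w, rfl⟩ := mem_div2.mp ha
  obtain ⟨r, rfl⟩ := Submodule.mem_span_singleton.mp hb
  have e : (n + 1) / 2 = m := by omega
  have hw : wU n = (2 : U n) • w + algebraMap (U n) _ r := by
    refine cancel_univ (k := m) ?_
    have := wU_spec n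
    rw [e] at this
    rw [← this, show top (univB n) (univQ n) = vol (univQ n) (List.ofFn (univB n)) from rfl, ← hab, smul_add, smul_smul,
      Algebra.algebraMap_eq_smul_one, smul_smul, smul_smul, pow_succ, mul_comm r]
  refine ⟨w, mem_evenOdd_of_κ (b := univB n) fun S hS => ?_, -r, by rw [map_neg, sub_neg_eq_add, hw]⟩
  have hn0 : (n : ZMod 2) = 0 := by rw [hn, Nat.cast_mul, show ((2 : ℕ) : ZMod 2) = 0 from rfl, zero_mul]
  have hS0 : S.Nonempty := Finset.nonempty_iff_ne_empty.mpr fun hE => hS (by rw [hE, Finset.card_empty, Nat.cast_zero])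
  have h0 := κ_eq_zero_of_parity (univB n) (univQ n) (wU_mem n) (hn0.symm ▸ hS : (S.card : ZMod 2) ≠ (n : ZMod 2))
  rw [hw, map_add, map_smul, κ_algebraMap _ _ hS0, add_zero, smul_eq_mul, mul_eq_zero] at h0
  exact h0.resolve_left (two_ne_zero_univ n)

end UnivW

end Groth.Agent.QFormLib
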