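import Groth.Agent.QFormLib.CliffMap
import Mathlib.LinearAlgebra.Determinant
import Mathlib.LinearAlgebra.Matrix.SesquilinearForm

/-! Scaled antisymmetrised products in a Clifford algebra, defined without dividing by two. -/

namespace Groth.Agent.QFormLib

open CliffordAlgebra

universe u v u' v'

variable {R : Type u} [CommRing R] {M : Type v} [AddCommGroup M] [Module R M]

/-- The linear family of operators `x ↦ 2 v x - d_v ⌋ x`. -/
noncomputable def opL (Q : QuadraticForm R M) : M →ₗ[R] Module.End R (CliffordAlgebra Q) :=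
  (2 : R) • ((LinearMap.mul R (CliffordAlgebra Q)) ∘ₗ ι Q) - contractLeft ∘ₗ (QuadraticMap.polarBilin Q)

theorem opL_apply (Q : QuadraticForm R M) (v : M) (x : CliffordAlgebra Q) :
    opL Q v x = (2 : R) • (ι Q v * x) - contractLeft (QuadraticMap.polarBilin Q v) x := rfl

theorem contractLeft_opL (Q : QuadraticForm R M) (d : Module.Dual R M) (v : M) (x : CliffordAlgebra Q) :
    contractLeft d (opL Q v x) = (2 * d v) • x - opL Q v (contractLeft d x) := by
  rw [opL_apply, opL_apply, map_sub, map_smul, contractLeft_ι_mul, contractLeft_comm d, smul_sub, mul_smul]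
  abel

theorem opL_opL (Q : QuadraticForm R M) (v : M) (x : CliffordAlgebra Q) : opL Q v (opL Q v x) = 0 := by
  rw [opL_apply Q v (opL Q v x), contractLeft_opL, opL_apply Q v x, opL_apply, contractLeft_contractLeft, sub_zero,
    QuadraticMap.polarBilin_apply_apply, QuadraticMap.polar_self, two_nsmul, mul_sub, mul_smul_comm, ← mul_assoc,
    ι_sq_scalar, ← Algebra.smul_def]
  module

/-- The scaled antisymmetrised product of a list of vectors. -/
noncomputable def vol (Q : QuadraticForm R M) : List M → CliffordAlgebra Q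
  | [] => 1
  | v :: l => opL Q v (vol Q l)

theorem vol_nil (Q : QuadraticForm R M) : vol Q [] = 1 := rfl

theorem vol_cons (Q : QuadraticForm R M) (v : M) (l : List M) : vol Q (v :: l) = opL Q v (vol Q l) := rfl

/-- The operators anticommute, so they define a representation of the exterior algebra. -/
noncomputable def volRep (Q : QuadraticForm R M) : ExteriorAlgebra R M →ₐ[R] Module.End R (CliffordAlgebra Q) :=
  ExteriorAlgebra.lift R ⟨opL Q, fun v => LinearMap.ext fun x => opL_opL Q v x⟩

/-- `vol` as an alternating map. -/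
noncomputable def volAlt (Q : QuadraticForm R M) (r : ℕ) : M [⋀^Fin r]→ₗ[R] CliffordAlgebra Q :=
  ((LinearMap.applyₗ (1 : CliffordAlgebra Q)) ∘ₗ (volRep Q).toLinearMap).compAlternatingMap
    (ExteriorAlgebra.ιMulti R r)

theorem volAlt_apply (Q : QuadraticForm R M) (r : ℕ) (v : Fin r → M) :
    volAlt Q r v = vol Q (List.ofFn v) := by
  show volRep Q (ExteriorAlgebra.ιMulti R r v) 1 = _
  rw [ExteriorAlgebra.ιMulti_apply]
  induction r with
  | zero => simp [vol_nil]
  | succ r ih =>
    rw [List.ofFn_succ, List.ofFn_succ, List.prod_cons, map_mul, Module.End.mul_apply, ih fun i => v i.succ, vol_cons]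
    congr 1
    exact ExteriorAlgebra.lift_ι_apply R (opL Q) _ _

/-- The span of the values of `vol` on lists of a given length. -/
noncomputable def lev (Q : QuadraticForm R M) (r : ℕ) : Submodule R (CliffordAlgebra Q) :=
  Submodule.span R (Set.range fun l : {l : List M // l.length = r} => vol Q l.1)

theorem vol_mem_lev (Q : QuadraticForm R M) (l : List M) : vol Q l ∈ lev Q l.length :=
  Submodule.subset_span ⟨⟨l, rfl⟩, rfl⟩

theorem opL_mem_lev (Q : QuadraticForm R M) (v : M) {r : ℕ} {x : CliffordAlgebra Q} (hx : x ∈ lev Q r) :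
    opL Q v x ∈ lev Q (r + 1) := by
  refine (Submodule.map_span_le (opL Q v) _ _).mpr ?_ ⟨x, hx, rfl⟩
  rintro _ ⟨⟨l, hl⟩, rfl⟩
  exact Submodule.subset_span ⟨⟨v :: l, by simp [hl]⟩, rfl⟩

/-- Contracting a scaled product lowers its length and gains a factor two. -/
theorem contractLeft_vol (Q : QuadraticForm R M) (d : Module.Dual R M) (l : List M) :
    ∃ y ∈ lev Q (l.length - 1), contractLeft d (vol Q l) = (2 : R) • y ∧ (l = [] → y = 0) := by
  induction l with
  | nil => exact ⟨0, Submodule.zero_mem _, by rw [vol_nil, contractLeft_one, smul_zero], fun _ => rfl⟩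
  | cons v l ih =>
    obtain ⟨y, hy, hdy, hy0⟩ := ih
    refine ⟨d v • vol Q l - opL Q v y, Submodule.sub_mem _ (Submodule.smul_mem _ _ (by
      simpa using vol_mem_lev Q l)) ?_, ?_, fun h => by simp at h⟩
    · rcases eq_or_ne l [] with rfl | hne
      · rw [hy0 rfl, map_zero]; exact Submodule.zero_mem _
      · have : l.length - 1 + 1 = (v :: l).length - 1 := by
          have := List.length_pos_iff.mpr hne
          simp; omega
        exact this ▸ opL_mem_lev Q v hy
    · rw [vol_cons, contractLeft_opL, hdy, map_smul, smul_sub, smul_smul]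

/-- Multiples of `2 ^ k`. -/
noncomputable def div2 (Q : QuadraticForm R M) (k : ℕ) : Submodule R (CliffordAlgebra Q) :=
  LinearMap.range ((2 : R) ^ k • (LinearMap.id : CliffordAlgebra Q →ₗ[R] CliffordAlgebra Q))

theorem mem_div2 {Q : QuadraticForm R M} {k : ℕ} {x : CliffordAlgebra Q} :
    x ∈ div2 Q k ↔ ∃ w, x = (2 : R) ^ k • w := by simp [div2, eq_comm]

theorem two_smul_mem_div2 {Q : QuadraticForm R M} {k : ℕ} {x : CliffordAlgebra Q} (hx : x ∈ div2 Q k) :
    (2 : R) • x ∈ div2 Q (k + 1) := by
  obtain ⟨w, rfl⟩ := mem_div2.mp hx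
  exact mem_div2.mpr ⟨w, by rw [smul_smul, pow_succ']⟩

theorem ι_mul_mem_div2 {Q : QuadraticForm R M} {k : ℕ} (v : M) {x : CliffordAlgebra Q} (hx : x ∈ div2 Q k) :
    ι Q v * x ∈ div2 Q k := by
  obtain ⟨w, rfl⟩ := mem_div2.mp hx
  exact mem_div2.mpr ⟨ι Q v * w, mul_smul_comm _ _ _⟩

theorem div2_anti {Q : QuadraticForm R M} {k l : ℕ} (h : k ≤ l) : div2 Q l ≤ div2 Q k := fun x hx => by
  obtain ⟨w, rfl⟩ := mem_div2.mp hx
  exact mem_div2.mpr ⟨(2 : R) ^ (l - k) • w, by rw [smul_smul, ← pow_add, Nat.add_sub_cancel' h]⟩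

/-- `vol` of a list of length `r` is divisible by `2 ^ ⌈r/2⌉`. -/
theorem lev_le_div2 (Q : QuadraticForm R M) (r : ℕ) : lev Q r ≤ div2 Q ((r + 1) / 2) := by
  induction r using Nat.strong_induction_on with
  | _ r ih =>
    refine Submodule.span_le.mpr ?_
    rintro _ ⟨⟨l, hl⟩, rfl⟩
    rcases l with _ | ⟨v, l⟩
    · subst hl
      exact mem_div2.mpr ⟨1, by simp [vol_nil]⟩
    · subst hl
      simp only [List.length_cons, SetLike.mem_coe, vol_cons, opL_apply]
      have hl1 := ih l.length (by simp) (vol_mem_lev Q l)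
      refine Submodule.sub_mem _
        (div2_anti (by omega) (two_smul_mem_div2 (ι_mul_mem_div2 v hl1))) ?_
      obtain ⟨y, hy, hdy, hy0⟩ := contractLeft_vol Q (QuadraticMap.polarBilin Q v) l
      rw [hdy]
      rcases eq_or_ne l [] with rfl | hne
      · rw [hy0 rfl, smul_zero]; exact Submodule.zero_mem _
      · have hpos := List.length_pos_iff.mpr hne
        exact div2_anti (by omega) (two_smul_mem_div2 (ih (l.length - 1) (by simp) hy))

/-- In even length `2k`, `vol` is a scalar multiple of `2 ^ k` modulo `2 ^ (k+1)`. -/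
theorem lev_even_le (Q : QuadraticForm R M) (k : ℕ) :
    lev Q (2 * k) ≤ div2 Q (k + 1) ⊔ Submodule.span R {(2 : R) ^ k • (1 : CliffordAlgebra Q)} := by
  induction k with
  | zero =>
    refine Submodule.span_le.mpr ?_
    rintro _ ⟨⟨l, hl⟩, rfl⟩
    obtain rfl : l = [] := List.eq_nil_of_length_eq_zero (by simpa using hl)
    refine Submodule.mem_sup_right ?_
    simp [vol_nil, Submodule.mem_span_singleton_self]
  | succ k ih =>
    refine Submodule.span_le.mpr ?_
    rintro _ ⟨⟨l, hl⟩, rfl⟩
    rcases l with _ | ⟨v, l⟩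
    · simp at hl
    · simp only [List.length_cons] at hl
      have hl' : l.length = 2 * k + 1 := by omega
      simp only [SetLike.mem_coe, vol_cons, opL_apply]
      refine Submodule.sub_mem _ (Submodule.mem_sup_left (div2_anti (by omega)
        (two_smul_mem_div2 (ι_mul_mem_div2 v (lev_le_div2 Q l.length (vol_mem_lev Q l)))))) ?_
      obtain ⟨y, hy, hdy, -⟩ := contractLeft_vol Q (QuadraticMap.polarBilin Q v) l
      rw [hdy]
      rw [hl', show 2 * k + 1 - 1 = 2 * k by omega] at hy
      obtain ⟨a, ha, b', hb, rfl⟩ := Submodule.mem_sup.mp (ih hy)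
      rw [smul_add]
      refine Submodule.add_mem _ (Submodule.mem_sup_left (two_smul_mem_div2 ha)) (Submodule.mem_sup_right ?_)
      obtain ⟨r, rfl⟩ := Submodule.mem_span_singleton.mp hb
      exact Submodule.mem_span_singleton.mpr ⟨r, by rw [smul_smul, smul_smul, smul_smul]; congr 1; ring⟩

theorem vol_mem_evenOdd (Q : QuadraticForm R M) (l : List M) : vol Q l ∈ evenOdd Q (l.length : ZMod 2) := by
  induction l with
  | nil => simpa [vol_nil] using SetLike.one_mem_graded (evenOdd Q)
  | cons v l ih =>
    rw [vol_cons, opL_apply, ← ι_mul_sub_involute_mul, List.length_cons, Nat.cast_add, Nat.cast_one]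
    have h1 : ι Q v * vol Q l ∈ evenOdd Q ((l.length : ZMod 2) + 1) :=
      add_comm (1 : ZMod 2) _ ▸ SetLike.mul_mem_graded (ι_mem_evenOdd_one Q v) ih
    have h2 : involute (vol Q l) * ι Q v ∈ evenOdd Q ((l.length : ZMod 2) + 1) :=
      SetLike.mul_mem_graded ((CliffordAlgebra.involute_mem_evenOdd_iff (Q := Q)).mpr ih) (ι_mem_evenOdd_one Q v)
    exact Submodule.sub_mem _ (Submodule.smul_mem _ _ h1) (Submodule.sub_mem _ h1 h2)

section Map

variable {n : ℕ} {S : Type u'} [CommRing S] {N : Type v'} [AddCommGroup N] [Module S N] {σ : R →+* S}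
  {b : Module.Basis (Fin n) R M} {Q : QuadraticForm R M} {c : Fin n → N} {Q' : QuadraticForm S N}

theorem cmap_vol (h : Compat σ b Q c Q') (l : List M) :
    cmap h (vol Q l) = vol Q' (l.map (svec σ b c)) := by
  induction l with
  | nil => simp [vol_nil]
  | cons v l ih =>
    rw [vol_cons, List.map_cons, vol_cons, opL_apply, opL_apply, map_sub, cmap_smul, map_mul, cmap_ι, map_ofNat,
      cmap_contractLeft h _ (QuadraticMap.polarBilin Q' (svec σ b c v)) (fun i => by
        rw [QuadraticMap.polarBilin_apply_apply, QuadraticMap.polarBilin_apply_apply, ← svec_basis (σ := σ) (b := b)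
          (c := c) i, h.polar_svec]), ih]

end Map

section Top

variable {n : ℕ} (b : Module.Basis (Fin n) R M) (Q : QuadraticForm R M)

/-- The scaled product of a whole basis. -/
noncomputable def top : CliffordAlgebra Q := vol Q (List.ofFn b)

theorem vol_eq_det_smul (v : Fin n → M) : vol Q (List.ofFn v) = b.det v • top b Q := by
  refine eq_of_κ b Q fun S => ?_
  rw [map_smul, smul_eq_mul, top, ← volAlt_apply, ← volAlt_apply]
  have h := ((κ b Q S).compAlternatingMap (volAlt Q n)).eq_smul_basis_det b
  exact (congrFun (congrArg DFunLike.coe h) v).trans (mul_comm _ _)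

theorem opL_top (u : M) : opL Q u (top b Q) = 0 := by
  rw [← b.sum_repr u, map_sum, LinearMap.sum_apply]
  refine Finset.sum_eq_zero fun i _ => ?_
  rw [map_smul, LinearMap.smul_apply]
  have : volAlt Q (n + 1) (Fin.cons (b i) b) = opL Q (b i) (top b Q) := by
    rw [volAlt_apply, List.ofFn_succ, vol_cons]
    simp [top]
  rw [← this, (volAlt Q (n + 1)).map_eq_zero_of_eq (Fin.cons (b i) b) (i := 0) (j := i.succ) (by simp)
    (Fin.succ_ne_zero i).symm, smul_zero]

theorem top_mem_evenOdd : top b Q ∈ evenOdd Q (n : ZMod 2) := by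
  simpa [top] using vol_mem_evenOdd Q (List.ofFn b)

theorem involute_mul_top (u : M) : involute (top b Q) * ι Q u = -(ι Q u * top b Q) := by
  have h := opL_top b Q u
  rw [opL_apply, ← ι_mul_sub_involute_mul, two_smul] at h
  rw [eq_neg_iff_add_eq_zero, ← h]
  abel

end Top

section Ortho

/-- Pairwise orthogonal lists. -/
def Ortho (Q : QuadraticForm R M) (l : List M) : Prop := l.Pairwise fun x y => QuadraticMap.polar Q x y = 0

variable {Q : QuadraticForm R M}

theorem contractLeft_prod_of_forall (d : Module.Dual R M) {l : List M} (h : ∀ x ∈ l, d x = 0) :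
    contractLeft d (l.map (ι Q)).prod = 0 := by
  induction l with
  | nil => simp
  | cons a l ih =>
    rw [List.map_cons, List.prod_cons, contractLeft_ι_mul, ih fun x hx => h x (List.mem_cons_of_mem _ hx),
      h a List.mem_cons_self, zero_smul, mul_zero, sub_zero]

theorem vol_ortho {l : List M} (h : Ortho Q l) : vol Q l = (2 : R) ^ l.length • (l.map (ι Q)).prod := by
  induction l with
  | nil => simp [vol_nil]
  | cons a l ih =>
    rw [Ortho, List.pairwise_cons] at h
    rw [vol_cons, ih h.2, opL_apply, mul_smul_comm, map_smul, contractLeft_prod_of_forall _ h.1, smul_zero, sub_zero,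
      smul_smul, List.map_cons, List.prod_cons, List.length_cons, pow_succ']

theorem prod_mul_of_ortho {a : M} {l : List M} (h : ∀ x ∈ l, QuadraticMap.polar Q a x = 0) :
    (l.map (ι Q)).prod * ι Q a = (-1 : R) ^ l.length • (ι Q a * (l.map (ι Q)).prod) := by
  induction l with
  | nil => simp
  | cons c l ih =>
    have hc : ι Q c * ι Q a = -(ι Q a * ι Q c) :=
      ι_mul_ι_comm_of_isOrtho (QuadraticMap.isOrtho_polarBilin.mp
        (by simpa [LinearMap.IsOrtho, QuadraticMap.polar_comm] using h c List.mem_cons_self))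
    rw [List.map_cons, List.prod_cons, mul_assoc, ih fun x hx => h x (List.mem_cons_of_mem _ hx), mul_smul_comm,
      ← mul_assoc, hc, List.length_cons, pow_succ', mul_smul, neg_one_smul, neg_mul, smul_neg, mul_assoc]

/-- The sign of reversing `r` anticommuting factors. -/
def revSign : ℕ → R
  | 0 => 1
  | r + 1 => (-1) ^ r * revSign r

theorem revSign_two_step (r : ℕ) : (revSign (r + 2) : R) = -revSign r := by
  show (-1 : R) ^ (r + 1) * ((-1) ^ r * revSign r) = _
  rw [← mul_assoc, ← pow_add, Odd.neg_one_pow ⟨r, by ring⟩, neg_one_mul]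

theorem revSign_two_mul (m : ℕ) : (revSign (2 * m) : R) = (-1) ^ m := by
  induction m with
  | zero => simp [revSign]
  | succ m ih => rw [show 2 * (m + 1) = 2 * m + 2 by ring, revSign_two_step, ih, pow_succ, mul_neg_one]

theorem revSign_two_mul_add_one (m : ℕ) : (revSign (2 * m + 1) : R) = (-1) ^ m := by
  show (-1 : R) ^ (2 * m) * revSign (2 * m) = _
  rw [revSign_two_mul, pow_mul, neg_one_sq, one_pow, one_mul]

theorem prod_sq_of_ortho {l : List M} (h : Ortho Q l) :
    (l.map (ι Q)).prod * (l.map (ι Q)).prod = algebraMap R _ (revSign l.length * (l.map Q).prod) := by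
  induction l with
  | nil => simp [revSign]
  | cons a l ih =>
    rw [Ortho, List.pairwise_cons] at h
    have e := prod_mul_of_ortho (Q := Q) h.1
    rw [List.map_cons, List.prod_cons, mul_assoc, ← mul_assoc _ (ι Q a), e, smul_mul_assoc, mul_smul_comm,
      mul_assoc, ih h.2, ← mul_assoc, ι_sq_scalar, ← map_mul, List.length_cons, List.map_cons, List.prod_cons,
      Algebra.smul_def, ← map_mul]
    congr 1
    show _ = (-1) ^ l.length * revSign l.length * _
    ring

theorem star_prod_of_ortho {l : List M} (h : Ortho Q l) :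
    star (l.map (ι Q)).prod = ((-1 : R) ^ l.length * revSign l.length) • (l.map (ι Q)).prod := by
  induction l with
  | nil => simp [revSign]
  | cons a l ih =>
    rw [Ortho, List.pairwise_cons] at h
    rw [List.map_cons, List.prod_cons, star_mul, ih h.2, CliffordAlgebra.star_ι, smul_mul_assoc, mul_neg,
      prod_mul_of_ortho h.1, smul_neg, smul_smul, ← neg_smul, List.length_cons]
    congr 1
    show _ = (-1) ^ (l.length + 1) * ((-1) ^ l.length * revSign l.length)
    ring

end Ortho

end Groth.Agent.QFormLib
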