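import Groth.Agent.QFormLib.Univ

/-! The volume element, the generator of the centre of the even part, and the action of linear maps on them. -/

namespace Groth.Agent.QFormLib

open CliffordAlgebra Matrix

universe u v

variable {R : Type u} [CommRing R] {M : Type v} [AddCommGroup M] [Module R M] {n : ℕ}
  (b : Module.Basis (Fin n) R M) (Q : QuadraticForm R M)

/-- The volume element of `Q` in the basis `b`. -/
noncomputable def wEl : CliffordAlgebra Q := cmap (compat_spec b Q) (wU n)

theorem wEl_mem : wEl b Q ∈ evenOdd Q (n : ZMod 2) := cmap_mem_evenOdd _ (wU_mem n)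

/-- An identity between a fixed element and all vectors follows from the basis vectors. -/
theorem mul_ι_eq_smul_ι_mul {x : CliffordAlgebra Q} {e : R}
    (h : ∀ i, x * ι Q (b i) = e • (ι Q (b i) * x)) (v : M) : x * ι Q v = e • (ι Q v * x) := by
  rw [← b.sum_repr v, map_sum, Finset.mul_sum, Finset.sum_mul, Finset.smul_sum]
  refine Finset.sum_congr rfl fun i _ => ?_
  rw [map_smul, mul_smul_comm, smul_mul_assoc, h, smul_comm]

theorem spec_neg_one_pow (k : ℕ) (x : U n) : spec b Q ((-1) ^ k * x) = (-1) ^ k * spec b Q x := by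
  rw [map_mul, map_pow, map_neg, map_one]

theorem wEl_comm_even {m : ℕ} (hn : n = 2 * m) (v : M) : wEl b Q * ι Q v = -(ι Q v * wEl b Q) := by
  rw [mul_ι_eq_smul_ι_mul b Q (e := -1) (fun i => ?_) v, neg_one_smul]
  have h := congrArg (cmap (compat_spec b Q)) (wU_comm_even hn (univB n i))
  rw [map_mul, map_neg, map_mul, cmap_ι_basis] at h
  rw [neg_one_smul]
  exact h

theorem wEl_comm_odd {m : ℕ} (hn : n = 2 * m + 1) (v : M) : wEl b Q * ι Q v = ι Q v * wEl b Q := by
  rw [mul_ι_eq_smul_ι_mul b Q (e := 1) (fun i => ?_) v, one_smul]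
  have h := congrArg (cmap (compat_spec b Q)) (wU_comm_odd hn (univB n i))
  rw [map_mul, map_mul, cmap_ι_basis] at h
  rw [one_smul]
  exact h

theorem wEl_comm_all_odd {m : ℕ} (hn : n = 2 * m + 1) (x : CliffordAlgebra Q) : wEl b Q * x = x * wEl b Q := by
  induction x using CliffordAlgebra.induction with
  | algebraMap r => exact (Algebra.commutes r _).symm
  | ι v => exact wEl_comm_odd b Q hn v
  | mul x y hx hy => rw [← mul_assoc, hx, mul_assoc, hy, mul_assoc]
  | add x y hx hy => rw [mul_add, add_mul, hx, hy]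

theorem wEl_mem_center {m : ℕ} (hn : n = 2 * m + 1) : wEl b Q ∈ Subalgebra.center R (CliffordAlgebra Q) :=
  Subalgebra.mem_center_iff.mpr fun x => (wEl_comm_all_odd b Q hn x).symm

theorem wEl_sq_even {m : ℕ} (hn : n = 2 * m) :
    wEl b Q * wEl b Q = algebraMap R _ ((-1) ^ m * (polMat b Q).det) := by
  rw [wEl, ← map_mul, wU_sq_even hn, cmap_algebraMap, spec_neg_one_pow, det_polMat]

theorem wEl_sq_odd {m : ℕ} (hn : n = 2 * m + 1) :
    wEl b Q * wEl b Q = algebraMap R _ ((-1) ^ m * QuadGrp.halfDisc b (LinearEquiv.refl R R) Q) := by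
  rw [wEl, ← map_mul, wU_sq_odd hn, cmap_algebraMap, spec_neg_one_pow, spec_halfDisc]

theorem star_wEl_odd {m : ℕ} (hn : n = 2 * m + 1) : star (wEl b Q) = ((-1 : R) ^ (m + 1)) • wEl b Q := by
  rw [wEl, ← cmap_star, wU_star_odd hn, cmap_smul, map_pow, map_neg, map_one]

section EvenGen

variable {m : ℕ} (hn : n = 2 * m)

/-- The universal generator of the centre of the even part. -/
noncomputable def zU : CliffordAlgebra (univQ n) := Classical.choose (exists_zU hn)

/-- The universal trace of the generator. -/
noncomputable def pU : U n := Classical.choose (Classical.choose_spec (exists_zU hn)).2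

/-- The generator of the centre of the even part. -/
noncomputable def zEl : CliffordAlgebra Q := cmap (compat_spec b Q) (zU hn)

/-- The trace of the generator. -/
noncomputable def pEl : R := spec b Q (pU hn)

theorem zU_mem : zU hn ∈ evenOdd (univQ n) 0 := (Classical.choose_spec (exists_zU hn)).1

theorem wU_eq_zU : wU n = (2 : U n) • zU hn - algebraMap (U n) _ (pU hn) :=
  Classical.choose_spec (Classical.choose_spec (exists_zU hn)).2

theorem zEl_mem : zEl b Q hn ∈ evenOdd Q 0 := cmap_mem_evenOdd _ (zU_mem hn)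

theorem wEl_eq : wEl b Q = (2 : R) • zEl b Q hn - algebraMap R _ (pEl b Q hn) := by
  rw [wEl, wU_eq_zU hn, map_sub, cmap_smul, cmap_algebraMap, map_ofNat]
  rfl

theorem zU_comm (u : Fin n → U n) :
    zU hn * ι (univQ n) u = ι (univQ n) u * (algebraMap (U n) _ (pU hn) - zU hn) := by
  have h := wU_comm_even hn u
  rw [wU_eq_zU hn, sub_mul, mul_sub, smul_mul_assoc, mul_smul_comm, Algebra.commutes] at h
  refine cancel_univ (k := 1) ?_
  rw [pow_one, mul_sub, smul_sub]
  rw [eq_neg_iff_add_eq_zero] at h
  rw [← sub_eq_zero, ← h, two_smul, two_smul, two_smul]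
  abel

theorem zEl_comm (v : M) : zEl b Q hn * ι Q v = ι Q v * (algebraMap R _ (pEl b Q hn) - zEl b Q hn) := by
  conv_lhs => rw [← b.sum_repr v]
  conv_rhs => rw [← b.sum_repr v]
  rw [map_sum, Finset.mul_sum, Finset.sum_mul]
  refine Finset.sum_congr rfl fun i _ => ?_
  rw [map_smul, mul_smul_comm, smul_mul_assoc]
  congr 1
  have h := congrArg (cmap (compat_spec b Q)) (zU_comm hn (univB n i))
  rw [map_mul, map_mul, map_sub, cmap_algebraMap, cmap_ι_basis] at h
  exact h

theorem exists_qU : ∃ q : U n,
    zU hn * zU hn = pU hn • zU hn + algebraMap (U n) _ q ∧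
      (-1) ^ m * QuadGrp.discUniv n = pU hn * pU hn + 4 * q := by
  have h := wU_sq_even hn
  rw [wU_eq_zU hn] at h
  set X : CliffordAlgebra (univQ n) := zU hn * zU hn - pU hn • zU hn with hX
  set D : U n := (-1) ^ m * QuadGrp.discUniv n - pU hn * pU hn with hD
  have h4 : (4 : U n) • X = algebraMap (U n) _ D := by
    rw [hX, hD, map_sub, ← h, sub_mul, mul_sub, mul_sub, smul_mul_smul_comm, ← Algebra.commutes (pU hn),
      ← Algebra.smul_def, ← Algebra.smul_def, Algebra.algebraMap_eq_smul_one (pU hn * pU hn),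
      Algebra.algebraMap_eq_smul_one (pU hn)]
    module
  have hX' : X = algebraMap (U n) _ (cterm (univB n) (univQ n) X) := eq_algebraMap_of_κ _ _ fun S hS => by
    have := congrArg (κ (univB n) (univQ n) S) h4
    rw [map_smul, κ_algebraMap _ _ hS, smul_eq_mul, mul_eq_zero] at this
    exact this.resolve_left (by norm_num)
  refine ⟨cterm (univB n) (univQ n) X, ?_, ?_⟩
  · rw [← hX', hX]; abel
  · have := congrArg (cterm (univB n) (univQ n)) h4
    rw [map_smul, cterm_algebraMap, smul_eq_mul] at this
    rw [this, hD]; ring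

theorem exists_zEl_sq : ∃ q : R, zEl b Q hn * zEl b Q hn = pEl b Q hn • zEl b Q hn + algebraMap R _ q ∧
    (-1) ^ m * (polMat b Q).det = pEl b Q hn * pEl b Q hn + 4 * q := by
  obtain ⟨q, hq, hd⟩ := exists_qU hn
  refine ⟨spec b Q q, ?_, ?_⟩
  · rw [zEl, pEl, ← map_mul, hq, map_add, cmap_smul, cmap_algebraMap]
  · have := congrArg (spec b Q) hd
    rw [spec_neg_one_pow, map_add, map_mul, map_mul, map_ofNat] at this
    rw [det_polMat]
    exact this

end EvenGen

section Change

/-- The ring of the universal change of vectors. -/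
abbrev U2 (n : ℕ) : Type := MvPolynomial (Fin n × Fin n) (U n)

/-- The universal form over the bigger ring. -/
noncomputable def univQ2 (n : ℕ) : QuadraticForm (U2 n) (Fin n → U2 n) :=
  formOfTbl ((MvPolynomial.C : U n →+* U2 n) ∘ MvPolynomial.X)

/-- The standard basis over the bigger ring. -/
noncomputable def univB2 (n : ℕ) : Module.Basis (Fin n) (U2 n) (Fin n → U2 n) := Pi.basisFun (U2 n) (Fin n)

theorem compat_univ2 (n : ℕ) : Compat (MvPolynomial.C : U n →+* U2 n) (univB n) (univQ n) (univB2 n) (univQ2 n) :=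
  compat_formOfTbl MvPolynomial.C MvPolynomial.X

/-- The generic matrix. -/
noncomputable def genMat (n : ℕ) : Matrix (Fin n) (Fin n) (U2 n) := Matrix.of fun i j => MvPolynomial.X (i, j)

/-- The generic family of vectors. -/
noncomputable def genFam (n : ℕ) : Fin n → (Fin n → U2 n) := fun i k => genMat n k i

/-- The coefficients of the universal form at the generic family. -/
noncomputable def genTbl (n : ℕ) : Sym2 (Fin n) → U2 n :=
  Sym2.lift ⟨fun i j => if i = j then univQ2 n (genFam n i) else QuadraticMap.polar (univQ2 n) (genFam n i) (genFam n j),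
    fun i j => by
      show (if i = j then _ else _) = if j = i then _ else _
      by_cases h : i = j
      · subst h; rfl
      · rw [if_neg h, if_neg (Ne.symm h), QuadraticMap.polar_comm]⟩

/-- Specialisation at the generic family. -/
noncomputable def genSpec (n : ℕ) : U n →+* U2 n := MvPolynomial.eval₂Hom (Int.castRingHom (U2 n)) (genTbl n)

theorem compat_gen (n : ℕ) : Compat (genSpec n) (univB n) (univQ n) (genFam n) (univQ2 n) where
  diag i := by
    rw [← coeffs_diag (univB n) (univQ n), univB, univQ, coeffs_formOfTbl, genSpec, MvPolynomial.eval₂Hom_X']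
    exact (if_pos rfl).symm
  polar i j hij := by
    rw [← coeffs_off (univB n) (univQ n) hij, univB, univQ, coeffs_formOfTbl, genSpec, MvPolynomial.eval₂Hom_X']
    exact (if_neg hij).symm

theorem cancel_univ2 {k : ℕ} {x y : CliffordAlgebra (univQ2 n)} (h : (2 : U2 n) ^ k • x = (2 : U2 n) ^ k • y) : x = y :=
  smul_left_cancel_of_domain (b := univB2 n) (pow_ne_zero k (by norm_num)) h

theorem det_genFam : (univB2 n).det (genFam n) = (genMat n).det := by
  rw [Module.Basis.det_apply]
  congr 1

theorem gen_wU : cmap (compat_gen n) (wU n) = (genMat n).det • cmap (compat_univ2 n) (wU n) := by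
  have h1 : cmap (compat_gen n) (top (univB n) (univQ n)) =
      (genMat n).det • cmap (compat_univ2 n) (top (univB n) (univQ n)) := by
    rw [cmap_top, cmap_top, vol_eq_det_smul (univB2 n), det_genFam]
    rfl
  rw [wU_spec, cmap_smul, cmap_smul, map_pow, map_pow, map_ofNat, map_ofNat, smul_comm] at h1
  exact cancel_univ2 h1

theorem gen_zU {m : ℕ} (hn : n = 2 * m) : ∃ a : U2 n,
    cmap (compat_gen n) (zU hn) = algebraMap (U2 n) _ a + (genMat n).det • cmap (compat_univ2 n) (zU hn) := by
  have h := gen_wU (n := n)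
  rw [wU_eq_zU hn, map_sub, map_sub, cmap_smul, cmap_smul, cmap_algebraMap, cmap_algebraMap, map_ofNat, map_ofNat] at h
  set X := cmap (compat_gen n) (zU hn) - (genMat n).det • cmap (compat_univ2 n) (zU hn) with hX
  have h2 : (2 : U2 n) • X =
      algebraMap (U2 n) _ (genSpec n (pU hn) - (genMat n).det * MvPolynomial.C (pU hn)) := by
    rw [hX, map_sub, smul_sub, map_mul, ← Algebra.smul_def, smul_comm (2 : U2 n)]
    rw [sub_eq_iff_eq_add.mp h, smul_sub]
    abel
  refine ⟨cterm (univB2 n) (univQ2 n) X, ?_⟩
  have hX' : X = algebraMap (U2 n) _ (cterm (univB2 n) (univQ2 n) X) := eq_algebraMap_of_κ _ _ fun S hS => by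
    have := congrArg (κ (univB2 n) (univQ2 n) S) h2
    rw [map_smul, κ_algebraMap _ _ hS, smul_eq_mul, mul_eq_zero] at this
    exact this.resolve_left (by norm_num)
  rw [← hX', hX, sub_add_cancel]

variable (c : Fin n → M)

/-- Specialisation of the generic matrix. -/
noncomputable def spec2 : U2 n →+* R := MvPolynomial.eval₂Hom (spec b Q) fun p => b.repr (c p.2) p.1

theorem compat_spec2 : Compat (spec2 b Q c) (univB2 n) (univQ2 n) b Q :=
  compat_of_coeffs _ _ _ _ fun s => by
    rw [univB2, univQ2, coeffs_formOfTbl, spec2, Function.comp_apply, MvPolynomial.eval₂Hom_C, spec,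
      MvPolynomial.eval₂Hom_X']

theorem spec2_det : spec2 b Q c (genMat n).det = b.det c := by
  rw [RingHom.map_det, Module.Basis.det_apply]
  congr 1
  ext i j
  simp [genMat, spec2, Module.Basis.toMatrix_apply]

theorem svec_genFam (i : Fin n) : svec (spec2 b Q c) (univB2 n) b (genFam n i) = c i := by
  conv_rhs => rw [← b.sum_repr (c i)]
  rw [svec_apply]
  refine Finset.sum_congr rfl fun k _ => ?_
  simp [univB2, genFam, genMat, spec2]

theorem cmap_univ2_comp :
    (cmap (compat_spec2 b Q c)).comp (cmap (compat_univ2 n)) = cmap (compat_spec b Q) := by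
  refine ringHom_ext (univB n) (fun r => ?_) fun i => ?_
  · simp [spec2, MvPolynomial.eval₂Hom_C]
  · simp

variable {Qc : QuadraticForm R M} (hc : Compat (RingHom.id R) b Qc c Q)

include hc in
theorem cmap_gen_comp :
    (cmap (compat_spec2 b Q c)).comp (cmap (compat_gen n)) = (cmap hc).comp (cmap (compat_spec b Qc)) := by
  have hσ : (spec2 b Q c).comp (genSpec n) = spec b Qc := by
    refine MvPolynomial.ringHom_ext (fun r => by simp) fun s => ?_
    rw [RingHom.comp_apply, genSpec, MvPolynomial.eval₂Hom_X', spec, MvPolynomial.eval₂Hom_X']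
    induction s using Sym2.inductionOn with
    | hf i j =>
      rw [genTbl, Sym2.lift_mk, apply_ite (spec2 b Q c), ← (compat_spec2 b Q c).map_form,
        ← (compat_spec2 b Q c).polar_svec, svec_genFam, svec_genFam, QuadGrp.coeffs_mk]
      split_ifs with h
      · rw [hc.diag]; rfl
      · rw [hc.polar i j h]; rfl
  refine ringHom_ext (univB n) (fun r => ?_) fun i => ?_
  · simp [← hσ]
  · rw [RingHom.comp_apply, RingHom.comp_apply, cmap_ι_basis, cmap_ι, svec_genFam, cmap_ι_basis, cmap_ι_basis]

include hc in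
/-- The volume element transforms by the determinant. -/
theorem cmap_wEl : cmap hc (wEl b Qc) = b.det c • wEl b Q := by
  have h := congrArg (cmap (compat_spec2 b Q c)) (gen_wU (n := n))
  rw [cmap_smul, spec2_det] at h
  rw [← RingHom.comp_apply (cmap (compat_spec2 b Q c)) (cmap (compat_gen n)), cmap_gen_comp b Q c hc,
    ← RingHom.comp_apply (cmap (compat_spec2 b Q c)) (cmap (compat_univ2 n)), cmap_univ2_comp] at h
  exact h

include hc in
theorem cmap_zEl {m : ℕ} (hn : n = 2 * m) :
    ∃ a : R, cmap hc (zEl b Qc hn) = algebraMap R _ a + b.det c • zEl b Q hn := by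
  obtain ⟨a, ha⟩ := gen_zU hn
  refine ⟨spec2 b Q c a, ?_⟩
  have h := congrArg (cmap (compat_spec2 b Q c)) ha
  rw [map_add, cmap_algebraMap, cmap_smul, spec2_det] at h
  rw [← RingHom.comp_apply (cmap (compat_spec2 b Q c)) (cmap (compat_gen n)), cmap_gen_comp b Q c hc,
    ← RingHom.comp_apply (cmap (compat_spec2 b Q c)) (cmap (compat_univ2 n)), cmap_univ2_comp] at h
  exact h

end Change

section Isometry

theorem compat_isometry (f : Q →qᵢ Q) : Compat (RingHom.id R) b Q (fun i => f (b i)) Q where
  diag i := f.map_app (b i)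
  polar i j _ := by
    simp only [QuadraticMap.polar, ← map_add, f.map_app, RingHom.id_apply]

theorem cmap_isometry (f : Q →qᵢ Q) :
    cmap (compat_isometry b Q f) = (CliffordAlgebra.map f).toRingHom :=
  ringHom_ext b (fun r => by simp) fun i => by simp

theorem det_isometry (g : M →ₗ[R] M) : b.det (fun i => g (b i)) = LinearMap.det g := by
  rw [show (fun i => g (b i)) = g ∘ b from rfl, Module.Basis.det_comp, Module.Basis.det_self, mul_one]

/-- An isometry scales the volume element by its determinant. -/
theorem map_wEl (f : Q →qᵢ Q) :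
    CliffordAlgebra.map f (wEl b Q) = LinearMap.det f.toLinearMap • wEl b Q := by
  have h := cmap_wEl b Q (fun i => f (b i)) (compat_isometry b Q f)
  rw [cmap_isometry, show (fun i => f (b i)) = (fun i => f.toLinearMap (b i)) from rfl, det_isometry] at h
  exact h

theorem map_zEl (f : Q →qᵢ Q) {m : ℕ} (hn : n = 2 * m) : ∃ a : R,
    CliffordAlgebra.map f (zEl b Q hn) = algebraMap R _ a + LinearMap.det f.toLinearMap • zEl b Q hn := by
  obtain ⟨a, ha⟩ := cmap_zEl b Q (fun i => f (b i)) (compat_isometry b Q f) hn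
  rw [cmap_isometry, show (fun i => f (b i)) = (fun i => f.toLinearMap (b i)) from rfl, det_isometry] at ha
  exact ⟨a, ha⟩

end Isometry

end Groth.Agent.QFormLib
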